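import Groth.Agent.H02CA.Adeq.Big.Vanish
import Groth.Agent.H27Witt.GaCoord
import Groth.Prelude.Def_CGrpSh2
import Mathlib

/-!
# The additive group has no higher fppf cohomology on affine schemes
-/

set_option autoImplicit false
set_option linter.style.haveILetI false

universe u

open CategoryTheory Opposite Limits TensorProduct AlgebraicGeometry MorphismProperty MonObj

noncomputable section

namespace Groth.Agent.H23Ga

open Adeq Groth.Agent.H02CA.Adq

variable {P : MorphismProperty Scheme.{u}} [GoodCov P] [BigSite.OSh (Scheme.precoverage P)] {S : Scheme.{u}}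
  [(QuotSh.J (Scheme.precoverage P) S).Subcanonical]

/-- `R` as a module over itself, one universe up. -/
abbrev base (R : CommRingCat.{u}) : ModuleCat.{u + 1} R := ModuleCat.of R (ULift.{u + 1} R)

/-- Sections of the additive group over the spectrum of an algebra. -/
def secEquiv {R : CommRingCat.{u}} (a : Spec R ⟶ S) (B : Alg R) :
    (CGrpSh2.Ga (Scheme.precoverage P) S).obj.obj (op ((specOver a).obj (op B))) ≃+
      (U R (base R)).obj (pt B) :=
  ({ toFun := fun x => (Scheme.ΓSpecIso (CommRingCat.of B)).hom (Red.gaFn x.down.toMul)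
     invFun := fun b => ULift.up (Additive.ofMul (H27Witt.GaCoord.gaFn_surjective
       (X := (specOver a).obj (op B)) ((Scheme.ΓSpecIso (CommRingCat.of B)).inv b)).choose)
     left_inv := fun x => by
       refine ULift.ext _ _ (Additive.toMul.injective (H27Witt.GaCoord.gaFn_injective ?_))
       refine (H27Witt.GaCoord.gaFn_surjective _).choose_spec.trans ?_
       exact (Iso.hom_inv_id_apply (Scheme.ΓSpecIso (CommRingCat.of B)) _)
     right_inv := fun b => by
       refine (congrArg (Scheme.ΓSpecIso (CommRingCat.of B)).hom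
         (H27Witt.GaCoord.gaFn_surjective _).choose_spec).trans ?_
       exact Iso.inv_hom_id_apply (Scheme.ΓSpecIso (CommRingCat.of B)) b
     map_add' := fun x y => by
       refine (congrArg (Scheme.ΓSpecIso (CommRingCat.of B)).hom (H27Witt.GaCoord.gaFn_mul _ _)).trans ?_
       exact map_add (Scheme.ΓSpecIso (CommRingCat.of B)).hom.hom _ _ } :
    (CGrpSh2.Ga (Scheme.precoverage P) S).obj.obj (op ((specOver a).obj (op B))) ≃+ (B : Type u)).trans
    ((TensorProduct.rid R (B : Type u)).symm.trans
      (LinearEquiv.lTensor (B : Type u) ULift.moduleEquiv.symm)).toAddEquiv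

theorem secEquiv_map {R : CommRingCat.{u}} (a : Spec R ⟶ S) {B B' : Alg R} (f : B ⟶ B')
    (x : (CGrpSh2.Ga (Scheme.precoverage P) S).obj.obj (op ((specOver a).obj (op B)))) :
    secEquiv a B' ((CGrpSh2.Ga (Scheme.precoverage P) S).obj.map ((specOver a).map f.op).op x) =
      mp (U R (base R)) f (secEquiv a B x) := by
  have h := ConcreteCategory.congr_hom (Scheme.ΓSpecIso_naturality (CommRingCat.ofHom f.hom.toRingHom))
    (Red.gaFn x.down.toMul)
  show LinearEquiv.lTensor (B' : Type u) ULift.moduleEquiv.symm ((TensorProduct.rid R (B' : Type u)).symm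
      ((Scheme.ΓSpecIso (CommRingCat.of B')).hom
        (Red.gaFn (((specOver a).map f.op) ≫ x.down.toMul)))) = _
  rw [H27Witt.GaCoord.gaFn_comp]
  refine Eq.trans (congrArg (fun t => LinearEquiv.lTensor (B' : Type u) ULift.moduleEquiv.symm
    ((TensorProduct.rid R (B' : Type u)).symm t)) h) ?_
  rfl

/-- The additive group is good. -/
theorem goodSheaf_Ga : GoodSheaf (CGrpSh2.Ga (Scheme.precoverage P) S) := by
  intro R a A _ _ hff k x hx
  haveI := hff
  let F := (CGrpSh2.Ga (Scheme.precoverage P) S).obj
  let e : ∀ j, F.obj (op (nerveObj a A j)) ≃+ (U R (base R)).obj (pt (amAlg (R := R) A j)) := fun j =>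
    secEquiv a _
  have key : ∀ j y, e (j + 1) (nerveD a A F j y) = amD A (U R (base R)) j (e j y) := by
    intro j y
    rw [nerveD_apply, amD_apply, map_sum]
    refine Finset.sum_congr rfl fun i _ => ?_
    rw [face_eq, map_zsmul]
    exact congrArg _ (secEquiv_map a _ y)
  have hx' : amD A (U R (base R)) (k + 1) (e (k + 1) x) = 0 := by
    rw [← key, show nerveD a A F (k + 1) x = 0 from hx, map_zero]
  obtain ⟨y, hy⟩ := (exact_d A (adequate_underline (base R)) k _).1 hx'
  refine ⟨(e k).symm y, (e (k + 1)).injective ?_⟩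
  rw [key, AddEquiv.apply_symm_apply, hy]

/-- The higher fppf cohomology of the additive group on an affine scheme vanishes. -/
theorem subsingleton_H_Ga [IsAffine S] [(QuotSh.J Scheme.fppfPrecoverage S).Subcanonical] (q : ℕ) (hq : 0 < q) :
    Subsingleton (BigSite.H Scheme.fppfPrecoverage S (CGrpSh2.Ga Scheme.fppfPrecoverage S) q) := by
  obtain ⟨p, rfl⟩ := Nat.exists_eq_add_one_of_ne_zero hq.ne'
  haveI : BigSite.OSh (Scheme.precoverage (@Flat ⊓ @LocallyOfFinitePresentation : MorphismProperty Scheme.{u})) :=
    inferInstanceAs (BigSite.OSh Scheme.fppfPrecoverage.{u})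
  haveI : (QuotSh.J (Scheme.precoverage (@Flat ⊓ @LocallyOfFinitePresentation : MorphismProperty Scheme.{u})) S).Subcanonical :=
    inferInstanceAs (QuotSh.J Scheme.fppfPrecoverage S).Subcanonical
  exact subsingleton_H_of_good (P := (@Flat ⊓ @LocallyOfFinitePresentation : MorphismProperty Scheme.{u}))
    (fun f hf => hf.1) p _ goodSheaf_Ga

end Groth.Agent.H23Ga
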