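import Groth.Agent.H16Derived.AcyclicLES
import Groth.Prelude.Def_CGrpSh2
import Mathlib.CategoryTheory.Abelian.Refinements
import Mathlib.CategoryTheory.Limits.FunctorCategory.Basic
import Mathlib.CategoryTheory.Preadditive.Yoneda.Limits
import Mathlib.CategoryTheory.Sites.CoverLifting
import Mathlib.CategoryTheory.Limits.Preserves.Opposites
import Mathlib.Algebra.Category.Grp.Limits

/-!
# The internal Hom in its first variable

Exactness of `𝓗om(-, M)`, surjectivity of the dual map when the first Ext sheaf of the quotient vanishes, and the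
double dual of a short exact sequence.
-/

set_option autoImplicit false
set_option backward.isDefEq.respectTransparency false
set_option linter.style.haveILetI false

universe u

open CategoryTheory CategoryTheory.Limits Opposite

namespace Groth.Agent.H23Ga.DualExact

variable {C : Type (u + 1)} [Category.{u} C] (J : GrothendieckTopology C)

/-- Restriction of sheaves to a slice is right exact. -/
theorem preservesFiniteColimits_overPullback (X : C) :
    PreservesFiniteColimits (J.overPullback AddCommGrpCat.{u + 1} X) :=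
  haveI := ((Over.forget X).sheafAdjunctionCocontinuous AddCommGrpCat.{u + 1} (J.over X) J).isLeftAdjoint
  haveI : (J.overPullback AddCommGrpCat.{u + 1} X).IsLeftAdjoint := this
  inferInstance

section Extend

variable {X : C}

/-- The extension by zero from a slice, as a presheaf. -/
noncomputable def ext0 (X : C) (F : Cᵒᵖ ⥤ AddCommGrpCat.{u + 1}) : Cᵒᵖ ⥤ AddCommGrpCat.{u + 1} where
  obj W := AddCommGrpCat.of ((W.unop ⟶ X) →₀ F.obj W)
  map f := AddCommGrpCat.ofHom
    (Finsupp.liftAddHom fun h => (Finsupp.singleAddHom (f.unop ≫ h)).comp (F.map f).hom)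
  map_id W := by
    refine AddCommGrpCat.hom_ext (Finsupp.addHom_ext fun h a => ?_)
    simp
  map_comp f g := by
    refine AddCommGrpCat.hom_ext (Finsupp.addHom_ext fun h a => ?_)
    simp

variable (F₁ F₂ I : Sheaf J AddCommGrpCat.{u + 1})

theorem exists_extend [HasSheafify J AddCommGrpCat.{u + 1}] [Injective I] (α : F₁ ⟶ F₂) [Mono α]
    (φ : F₁.over X ⟶ I.over X) :
    ∃ ψ : F₂.over X ⟶ I.over X, (J.overPullback _ X).map α ≫ ψ = φ := by
  haveI : Injective I.obj := Injective.injective_of_adjoint (sheafificationAdjunction J AddCommGrpCat.{u + 1}) I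
  let a : ext0 X F₁.obj ⟶ ext0 X F₂.obj :=
    { app := fun W => AddCommGrpCat.ofHom (Finsupp.mapRange.addMonoidHom (α.hom.app W).hom)
      naturality := fun W W' f => by
        refine AddCommGrpCat.hom_ext (Finsupp.addHom_ext fun h x => ?_)
        simp only [ext0, AddCommGrpCat.hom_comp, AddCommGrpCat.hom_ofHom, AddMonoidHom.comp_apply,
          Finsupp.liftAddHom_apply_single, Finsupp.mapRange.addMonoidHom_apply, Finsupp.mapRange_single,
          Finsupp.singleAddHom_apply]
        exact congrArg (Finsupp.single _) (ConcreteCategory.congr_hom (α.hom.naturality f) x) }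
  haveI : Mono a := by
    haveI : ∀ W, Mono (a.app W) := fun W => by
      rw [AddCommGrpCat.mono_iff_injective]
      refine Finsupp.mapRange_injective _ (map_zero _) ?_
      haveI : Mono α.hom := inferInstanceAs (Mono ((sheafToPresheaf J _).map α))
      exact (AddCommGrpCat.mono_iff_injective _).1 ((NatTrans.mono_iff_mono_app α.hom).1 inferInstance W)
    exact NatTrans.mono_of_mono_app _
  let p : ext0 X F₁.obj ⟶ I.obj :=
    { app := fun W => AddCommGrpCat.ofHom
        (Finsupp.liftAddHom fun h => (φ.hom.app (op (Over.mk h))).hom)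
      naturality := fun W W' f => by
        refine AddCommGrpCat.hom_ext (Finsupp.addHom_ext fun h x => ?_)
        simp only [ext0, AddCommGrpCat.hom_comp, AddCommGrpCat.hom_ofHom, AddMonoidHom.comp_apply,
          Finsupp.liftAddHom_apply_single, Finsupp.singleAddHom_apply]
        exact ConcreteCategory.congr_hom
          (φ.hom.naturality (Over.homMk f.unop rfl : Over.mk (f.unop ≫ h) ⟶ Over.mk h).op) x }
  let q := Injective.factorThru p a
  let q' : (F₂.over X).obj ⟶ (I.over X).obj :=
    { app := fun U => AddCommGrpCat.ofHom (X := F₂.obj.obj (op U.unop.left)) (Y := I.obj.obj (op U.unop.left))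
        ((q.app (op U.unop.left)).hom.comp (Finsupp.singleAddHom U.unop.hom))
      naturality := fun U U' g => by
        refine AddCommGrpCat.hom_ext (AddMonoidHom.ext fun x => ?_)
        change q.app _ (Finsupp.single U'.unop.hom (F₂.obj.map g.unop.left.op x)) =
          I.obj.map g.unop.left.op (q.app _ (Finsupp.single U.unop.hom x))
        rw [← ConcreteCategory.comp_apply (q.app _), ← q.naturality, ConcreteCategory.comp_apply]
        refine congrArg (q.app _) ?_
        simp only [ext0, AddCommGrpCat.hom_ofHom, Finsupp.liftAddHom_apply_single, AddMonoidHom.comp_apply,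
          Finsupp.singleAddHom_apply, Quiver.Hom.unop_op, Over.w g.unop] }
  refine ⟨⟨q'⟩, Sheaf.hom_ext (NatTrans.ext (funext fun U => AddCommGrpCat.ext fun x => ?_))⟩
  have h := ConcreteCategory.congr_hom (congrArg (fun m : ext0 X F₁.obj ⟶ I.obj => m.app (op U.unop.left)) (Injective.comp_factorThru p a))
    (Finsupp.single U.unop.hom x)
  refine Eq.trans ?_ (h.trans (Finsupp.liftAddHom_apply_single _ U.unop.hom x))
  exact congrArg (q.app (op U.unop.left))
    (Finsupp.mapRange_single (f := (α.hom.app (op U.unop.left)).hom) (hf := map_zero _) (a := U.unop.hom) (b := x)).symm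

theorem homShMap_app_epi [HasSheafify J AddCommGrpCat.{u + 1}] [Injective I] (α : F₁ ⟶ F₂) [Mono α] :
    Epi (HomSh.homShMap J α (𝟙 I)) := by
  haveI : ∀ W, Epi ((HomSh.homShMap J α (𝟙 I)).hom.app W) := fun W => by
    rw [AddCommGrpCat.epi_iff_surjective]
    intro φ
    obtain ⟨ψ, hψ⟩ := exists_extend J F₁ F₂ I α φ
    refine ⟨ψ, ?_⟩
    rw [HomSh.homShMap_app_apply, CategoryTheory.Functor.map_id, ← Category.assoc, hψ]
    exact Category.comp_id _
  haveI : Epi (HomSh.homShMap J α (𝟙 I)).hom := NatTrans.epi_of_epi_app _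
  exact (sheafToPresheaf J _).epi_of_epi_map this

end Extend

/-- The internal Hom into a sheaf is left exact. -/
theorem preservesFiniteLimits_flip (M : Sheaf J AddCommGrpCat.{u + 1}) :
    PreservesFiniteLimits ((HomSh.homShBi J).flip.obj M) := by
  refine ⟨fun K _ _ => ?_⟩
  haveI : PreservesLimitsOfShape K ((HomSh.homShBi J).flip.obj M ⋙ sheafToPresheaf J AddCommGrpCat.{u + 1}) := by
    refine preservesLimitsOfShape_of_evaluation _ K fun X => ?_
    haveI := preservesFiniteColimits_overPullback J X.unop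
    haveI : PreservesFiniteLimits (J.overPullback AddCommGrpCat.{u + 1} X.unop).op := preservesFiniteLimits_op _
    exact preservesLimitsOfShape_of_natIso
      (show (J.overPullback AddCommGrpCat.{u + 1} X.unop).op ⋙ preadditiveYoneda.obj (M.over X.unop) ≅
          ((HomSh.homShBi J).flip.obj M ⋙ sheafToPresheaf J AddCommGrpCat.{u + 1}) ⋙ (evaluation _ _).obj X from
        NatIso.ofComponents (fun _ => Iso.refl _) fun {G G'} β => by
          refine AddCommGrpCat.ext fun φ => ?_
          change _ ≫ φ = (J.overPullback _ _).map β.unop ≫ φ ≫ (J.overPullback _ _).map (𝟙 M)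
          rw [CategoryTheory.Functor.map_id]
          exact congrArg (_ ≫ ·) (Category.comp_id φ).symm)
  exact preservesLimitsOfShape_of_reflects_of_preserves ((HomSh.homShBi J).flip.obj M)
    (sheafToPresheaf J AddCommGrpCat.{u + 1})

/-- The internal Hom out of a sheaf is left exact. -/
theorem preservesFiniteLimits_homShFunctor (F : Sheaf J AddCommGrpCat.{u + 1}) :
    PreservesFiniteLimits (HomSh.homShFunctor J F) := by
  refine ⟨fun K _ _ => ?_⟩
  haveI : PreservesLimitsOfShape K (HomSh.homShFunctor J F ⋙ sheafToPresheaf J AddCommGrpCat.{u + 1}) := by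
    refine preservesLimitsOfShape_of_evaluation _ K fun X => ?_
    exact preservesLimitsOfShape_of_natIso
      (show J.overPullback AddCommGrpCat.{u + 1} X.unop ⋙ preadditiveCoyoneda.obj (op (F.over X.unop)) ≅
          (HomSh.homShFunctor J F ⋙ sheafToPresheaf J AddCommGrpCat.{u + 1}) ⋙ (evaluation _ _).obj X from
        NatIso.ofComponents (fun _ => Iso.refl _) fun {G G'} β => by
          refine AddCommGrpCat.ext fun φ => ?_
          change φ ≫ _ = (J.overPullback _ _).map (𝟙 F) ≫ φ ≫ _
          rw [CategoryTheory.Functor.map_id]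
          exact (Category.id_comp _).symm)
  exact preservesLimitsOfShape_of_reflects_of_preserves (HomSh.homShFunctor J F)
    (sheafToPresheaf J AddCommGrpCat.{u + 1})

variable [HasSheafify J AddCommGrpCat.{u + 1}]

/-- Dualizing a short complex. -/
noncomputable abbrev dualSC (S : ShortComplex (Sheaf J AddCommGrpCat.{u + 1})) (M : Sheaf J AddCommGrpCat.{u + 1}) :
    ShortComplex (Sheaf J AddCommGrpCat.{u + 1}) :=
  ShortComplex.mk (HomSh.homShMap J S.g (𝟙 M)) (HomSh.homShMap J S.f (𝟙 M)) (by
    rw [← HomSh.homShMap_comp, S.zero, Category.comp_id]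
    exact ((HomSh.homShBi J).flip.obj M).map_zero (op S.X₃) (op S.X₁))

variable {S : ShortComplex (Sheaf J AddCommGrpCat.{u + 1})} (M : Sheaf J AddCommGrpCat.{u + 1})

theorem exact_dualSC (hS : S.Exact) [Epi S.g] : (dualSC J S M).Exact ∧ Mono (dualSC J S M).f := by
  haveI := preservesFiniteLimits_flip J M
  haveI : Mono S.op.f := inferInstanceAs (Mono S.g.op)
  exact ⟨hS.op.map_of_mono_of_preservesKernel ((HomSh.homShBi J).flip.obj M) inferInstance inferInstance,
    inferInstanceAs (Mono (((HomSh.homShBi J).flip.obj M).map S.g.op))⟩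

theorem shortExact_dualSC [HasInjectiveResolutions (Sheaf J AddCommGrpCat.{u + 1})]
    [EnoughInjectives (Sheaf J AddCommGrpCat.{u + 1})] (hS : S.ShortExact)
    (hExt : IsZero ((HomSh.extSh J S.X₃ 1).obj M)) : (dualSC J S M).ShortExact := by
  haveI := hS.mono_f
  haveI := hS.epi_g
  haveI := (exact_dualSC J M hS.exact).2
  suffices he : Epi (dualSC J S M).g from { exact := (exact_dualSC J M hS.exact).1 }
  let ι := Injective.ι M
  let π := cokernel.π ι
  let T := ShortComplex.mk ι π (cokernel.condition ι)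
  have hT : T.ShortExact := { exact := ShortComplex.exact_of_g_is_cokernel _ (cokernelIsCokernel ι) }
  -- exactness of the columns
  have hcol : ∀ F, (T.map (HomSh.homShFunctor J F)).Exact ∧ Mono (T.map (HomSh.homShFunctor J F)).f := by
    intro F
    haveI := preservesFiniteLimits_homShFunctor J F
    haveI := hT.mono_f
    exact ⟨hT.exact.map_of_mono_of_preservesKernel _ inferInstance inferInstance,
      inferInstanceAs (Mono ((HomSh.homShFunctor J F).map ι))⟩
  have hepi₃ : Epi (HomSh.homShMap J (𝟙 S.X₃) π) := by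
    haveI := preservesFiniteLimits_homShFunctor J S.X₃
    refine H16Derived.AcyclicLES.epi_map_g (HomSh.homShFunctor J S.X₃) hT ?_
    rw [← HomSh.extSh_def]
    exact hExt
  haveI hepiI := homShMap_app_epi J S.X₁ S.X₂ (Injective.under M) S.f
  obtain ⟨hrowQ, -⟩ := exact_dualSC J (cokernel ι) hS.exact
  rw [epi_iff_surjective_up_to_refinements]
  intro A x
  obtain ⟨A₁, p₁, _, z, hz⟩ := surjective_up_to_refinements_of_epi (HomSh.homShMap J S.f (𝟙 (Injective.under M)))
    (x ≫ HomSh.homShMap J (𝟙 S.X₁) ι)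
  have hzero : (z ≫ HomSh.homShMap J (𝟙 S.X₂) π) ≫ (dualSC J S (cokernel ι)).g = 0 := by
    have hcomm : HomSh.homShMap J (𝟙 S.X₂) π ≫ HomSh.homShMap J S.f (𝟙 (cokernel ι)) =
        HomSh.homShMap J S.f (𝟙 (Injective.under M)) ≫ HomSh.homShMap J (𝟙 S.X₁) π := by
      rw [← HomSh.homShMap_comp, ← HomSh.homShMap_comp]; simp
    rw [Category.assoc, hcomm, ← Category.assoc, ← hz, Category.assoc, Category.assoc,
      show HomSh.homShMap J (𝟙 S.X₁) ι ≫ HomSh.homShMap J (𝟙 S.X₁) π = 0 from
        (T.map (HomSh.homShFunctor J S.X₁)).zero, comp_zero, comp_zero]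
  obtain ⟨A₂, p₂, _, w, hw⟩ := hrowQ.exact_up_to_refinements _ hzero
  haveI := hepi₃
  obtain ⟨A₃, p₃, _, t, ht⟩ := surjective_up_to_refinements_of_epi (HomSh.homShMap J (𝟙 S.X₃) π) w
  let z' := p₃ ≫ p₂ ≫ z - t ≫ HomSh.homShMap J S.g (𝟙 (Injective.under M))
  have hz' : z' ≫ (T.map (HomSh.homShFunctor J S.X₂)).g = 0 := by
    have hcomm : HomSh.homShMap J S.g (𝟙 (Injective.under M)) ≫ HomSh.homShMap J (𝟙 S.X₂) π =
        HomSh.homShMap J (𝟙 S.X₃) π ≫ HomSh.homShMap J S.g (𝟙 (cokernel ι)) := by
      rw [← HomSh.homShMap_comp, ← HomSh.homShMap_comp]; simp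
    change z' ≫ HomSh.homShMap J (𝟙 S.X₂) π = 0
    rw [Preadditive.sub_comp, Category.assoc, Category.assoc, Category.assoc, hcomm, ← Category.assoc t, ← ht,
      Category.assoc, hw, sub_eq_zero]
  haveI := (hcol S.X₁).2
  obtain ⟨A₄, p₄, _, y, hy⟩ := (hcol S.X₂).1.exact_up_to_refinements _ hz'
  refine ⟨A₄, p₄ ≫ p₃ ≫ p₂ ≫ p₁, inferInstance, y, ?_⟩
  rw [← cancel_mono (T.map (HomSh.homShFunctor J S.X₁)).f]
  change ((p₄ ≫ p₃ ≫ p₂ ≫ p₁) ≫ x) ≫ HomSh.homShMap J (𝟙 S.X₁) ι =
    (y ≫ HomSh.homShMap J S.f (𝟙 M)) ≫ HomSh.homShMap J (𝟙 S.X₁) ι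
  have hcomm : HomSh.homShMap J S.f (𝟙 M) ≫ HomSh.homShMap J (𝟙 S.X₁) ι =
      HomSh.homShMap J (𝟙 S.X₂) ι ≫ HomSh.homShMap J S.f (𝟙 (Injective.under M)) := by
    rw [← HomSh.homShMap_comp, ← HomSh.homShMap_comp]; simp
  have hy' : p₄ ≫ z' = y ≫ HomSh.homShMap J (𝟙 S.X₂) ι := hy
  have hg : HomSh.homShMap J S.g (𝟙 (Injective.under M)) ≫ HomSh.homShMap J S.f (𝟙 (Injective.under M)) = 0 :=
    (dualSC J S (Injective.under M)).zero
  rw [Category.assoc y, hcomm, ← Category.assoc y, ← hy']
  simp only [z', Preadditive.comp_sub, Preadditive.sub_comp, Category.assoc, hg, comp_zero, sub_zero, hz]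

theorem bidualMap_naturality {F F' : Sheaf J AddCommGrpCat.{u + 1}} (α : F ⟶ F') :
    α ≫ HomSh.bidualMap J F' M =
      HomSh.bidualMap J F M ≫ HomSh.homShMap J (HomSh.homShMap J α (𝟙 M)) (𝟙 M) := by
  refine Sheaf.hom_ext (NatTrans.ext (funext fun X => AddCommGrpCat.ext fun s => ?_))
  refine Sheaf.hom_ext (NatTrans.ext (funext fun U => AddCommGrpCat.ext fun φ => ?_))
  change HomSh.ev J φ (F'.obj.map (unop U).hom.op (α.hom.app X s)) =
    HomSh.ev J ((J.overPullback _ _).map α ≫ φ ≫ (J.overPullback _ _).map (𝟙 M)) (F.obj.map (unop U).hom.op s)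
  rw [CategoryTheory.Functor.map_id]
  exact congrArg (HomSh.ev J φ) (ConcreteCategory.congr_hom (α.hom.naturality (unop U).hom.op) s).symm

theorem isIso_bidualMap₂ [HasInjectiveResolutions (Sheaf J AddCommGrpCat.{u + 1})]
    [EnoughInjectives (Sheaf J AddCommGrpCat.{u + 1})] (hS : S.ShortExact)
    (hExt : IsZero ((HomSh.extSh J S.X₃ 1).obj M)) [IsIso (HomSh.bidualMap J S.X₁ M)]
    [IsIso (HomSh.bidualMap J S.X₃ M)] : IsIso (HomSh.bidualMap J S.X₂ M) := by
  have hD := shortExact_dualSC J M hS hExt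
  haveI := hD.epi_g
  haveI := hS.mono_f
  haveI := hS.epi_g
  obtain ⟨hDD, hmono⟩ := exact_dualSC J M hD.exact
  let Φ : S ⟶ dualSC J (dualSC J S M) M :=
    { τ₁ := HomSh.bidualMap J S.X₁ M
      τ₂ := HomSh.bidualMap J S.X₂ M
      τ₃ := HomSh.bidualMap J S.X₃ M
      comm₁₂ := (bidualMap_naturality J M S.f).symm
      comm₂₃ := (bidualMap_naturality J M S.g).symm }
  haveI : Mono Φ.τ₁ := inferInstanceAs (Mono (HomSh.bidualMap J S.X₁ M))
  haveI : Mono (HomSh.bidualMap J S.X₂ M) := by
    rw [Preadditive.mono_iff_cancel_zero]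
    intro A x hx
    have h3 : x ≫ S.g = 0 := by
      rw [← cancel_mono (HomSh.bidualMap J S.X₃ M), zero_comp, Category.assoc, bidualMap_naturality,
        ← Category.assoc, hx, zero_comp]
    obtain ⟨A₁, p, _, y, hy⟩ := hS.exact.exact_up_to_refinements x h3
    have hy0 : y = 0 := by
      rw [← cancel_mono (HomSh.bidualMap J S.X₁ M), zero_comp, ← cancel_mono (dualSC J (dualSC J S M) M).f,
        zero_comp, Category.assoc]
      change y ≫ HomSh.bidualMap J S.X₁ M ≫ HomSh.homShMap J (HomSh.homShMap J S.f (𝟙 M)) (𝟙 M) = 0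
      rw [← bidualMap_naturality, ← Category.assoc, ← hy, Category.assoc, hx, comp_zero]
    rw [← cancel_epi p, hy, hy0, zero_comp, comp_zero]
  haveI : Epi (HomSh.bidualMap J S.X₂ M) := by
    rw [epi_iff_surjective_up_to_refinements]
    intro A x
    obtain ⟨A₁, p₁, _, y, hy⟩ := surjective_up_to_refinements_of_epi S.g
      ((x ≫ (dualSC J (dualSC J S M) M).g) ≫ inv (HomSh.bidualMap J S.X₃ M))
    have h0 : (p₁ ≫ x - y ≫ HomSh.bidualMap J S.X₂ M) ≫ (dualSC J (dualSC J S M) M).g = 0 := by
      rw [Preadditive.sub_comp, sub_eq_zero, Category.assoc, Category.assoc]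
      refine Eq.trans ?_ (congrArg (y ≫ ·) (bidualMap_naturality J M S.g))
      rw [← Category.assoc y, ← hy]
      simp
    obtain ⟨A₂, p₂, _, z, hz⟩ := hDD.exact_up_to_refinements _ h0
    refine ⟨A₂, p₂ ≫ p₁, inferInstance, p₂ ≫ y + (z ≫ inv (HomSh.bidualMap J S.X₁ M)) ≫ S.f, ?_⟩
    rw [Preadditive.add_comp, Category.assoc, Category.assoc, Category.assoc, Category.assoc,
      bidualMap_naturality J M S.f, IsIso.inv_hom_id_assoc]
    refine Eq.trans ?_ (congrArg (fun t => p₂ ≫ y ≫ HomSh.bidualMap J S.X₂ M + t) hz)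
    rw [Preadditive.comp_sub, add_sub_cancel]
  exact isIso_of_mono_of_epi _

end Groth.Agent.H23Ga.DualExact
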