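import Mathlib

/-!
Characters of the additive group in characteristic `p`: divided power sequences.
-/

set_option autoImplicit false

universe u

open Finset

namespace Groth.Agent.H23Ga

variable {A : Type u} [CommRing A]

/-- The exponent `(i, j)`. -/
noncomputable def e2 (i j : ℕ) : Fin 2 →₀ ℕ := Finsupp.single 0 i + Finsupp.single 1 j

@[simp] theorem e2_zero (i j : ℕ) : e2 i j 0 = i := by simp [e2]
@[simp] theorem e2_one (i j : ℕ) : e2 i j 1 = j := by simp [e2]

theorem eq_e2 (d : Fin 2 →₀ ℕ) : d = e2 (d 0) (d 1) := by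
  ext x; fin_cases x <;> simp

theorem e2_inj {i j a b : ℕ} : e2 i j = e2 a b ↔ i = a ∧ j = b := by
  refine ⟨fun h => ⟨?_, ?_⟩, fun h => by rw [h.1, h.2]⟩
  · simpa using congrArg (fun d : Fin 2 →₀ ℕ => d 0) h
  · simpa using congrArg (fun d : Fin 2 →₀ ℕ => d 1) h

theorem X_pow_mul_X_pow (a b : ℕ) :
    (MvPolynomial.X 0 ^ a * MvPolynomial.X 1 ^ b : MvPolynomial (Fin 2) A) = MvPolynomial.monomial (e2 a b) 1 := by
  rw [MvPolynomial.monomial_fin_two, e2_zero, e2_one, MvPolynomial.C_1, one_mul]

theorem coeff_aeval_add (f : Polynomial A) (i j : ℕ) :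
    (Polynomial.aeval (MvPolynomial.X 0 + MvPolynomial.X 1 : MvPolynomial (Fin 2) A) f).coeff (e2 i j) =
      ((i + j).choose i : A) * f.coeff (i + j) := by
  induction f using Polynomial.induction_on' with
  | add f g hf hg => rw [map_add, MvPolynomial.coeff_add, hf, hg, Polynomial.coeff_add, mul_add]
  | monomial d c =>
    rw [Polynomial.aeval_monomial, MvPolynomial.algebraMap_eq,
      MvPolynomial.coeff_C_mul, MvPolynomial.coeff_add_pow, e2_zero, e2_one, Polynomial.coeff_monomial]
    simp only [Finset.HasAntidiagonal.mem_antidiagonal, eq_comm (a := d)]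
    split_ifs with h
    · rw [h]; ring
    · simp

theorem coeff_aeval_mul (f g : Polynomial A) (i j : ℕ) :
    (Polynomial.aeval (MvPolynomial.X 0 : MvPolynomial (Fin 2) A) f *
      Polynomial.aeval (MvPolynomial.X 1 : MvPolynomial (Fin 2) A) g).coeff (e2 i j) =
      f.coeff i * g.coeff j := by
  induction f using Polynomial.induction_on' with
  | add f₁ f₂ h₁ h₂ => rw [map_add, add_mul, MvPolynomial.coeff_add, h₁, h₂, Polynomial.coeff_add, add_mul]
  | monomial a c =>
    induction g using Polynomial.induction_on' with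
    | add g₁ g₂ h₁ h₂ => rw [map_add, mul_add, MvPolynomial.coeff_add, h₁, h₂, Polynomial.coeff_add, mul_add]
    | monomial b c' =>
      rw [Polynomial.aeval_monomial, Polynomial.aeval_monomial, MvPolynomial.algebraMap_eq,
        mul_mul_mul_comm, ← map_mul, X_pow_mul_X_pow, MvPolynomial.C_mul_monomial, mul_one,
        MvPolynomial.coeff_monomial, Polynomial.coeff_monomial, Polynomial.coeff_monomial]
      simp only [e2_inj]
      split_ifs <;> simp_all

/-- A divided power sequence up to `N`. -/
def DPBelow (c : ℕ → A) (M : ℕ) : Prop :=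
  c 0 = 1 ∧ ∀ i j, i < M → j < M → c i * c j = ((i + j).choose i : A) * c (i + j)

/-- A divided power sequence. -/
def IsDP (c : ℕ → A) : Prop :=
  c 0 = 1 ∧ ∀ i j, c i * c j = ((i + j).choose i : A) * c (i + j)

theorem IsDP.below {c : ℕ → A} (h : IsDP c) (M : ℕ) : DPBelow c M := ⟨h.1, fun i j _ _ => h.2 i j⟩

theorem isDP_iff_poly (f : Polynomial A) :
    (f.eval 0 = 1 ∧ Polynomial.aeval (MvPolynomial.X 0 + MvPolynomial.X 1 : MvPolynomial (Fin 2) A) f =
        Polynomial.aeval (MvPolynomial.X 0 : MvPolynomial (Fin 2) A) f *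
          Polynomial.aeval (MvPolynomial.X 1 : MvPolynomial (Fin 2) A) f) ↔ IsDP f.coeff := by
  rw [← Polynomial.coeff_zero_eq_eval_zero]
  refine and_congr_right fun _ => ⟨fun h i j => ?_, fun h => MvPolynomial.ext _ _ fun d => ?_⟩
  · have := congrArg (MvPolynomial.coeff (e2 i j)) h
    rw [coeff_aeval_add, coeff_aeval_mul] at this
    exact this.symm
  · rw [eq_e2 d, coeff_aeval_add, coeff_aeval_mul, h]

theorem coeff_subst_add (χ : PowerSeries A) (i j : ℕ) :
    MvPowerSeries.coeff (e2 i j)
      (PowerSeries.subst (MvPowerSeries.X 0 + MvPowerSeries.X 1 : MvPowerSeries (Fin 2) A) χ) =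
      ((i + j).choose i : A) * PowerSeries.coeff (i + j) χ := by
  rw [PowerSeries.coeff_subst (PowerSeries.HasSubst.of_constantCoeff_zero (by simp)), finsum_eq_single _ (i + j)]
  · rw [show (MvPowerSeries.X 0 + MvPowerSeries.X 1 : MvPowerSeries (Fin 2) A) =
      ((MvPolynomial.X 0 + MvPolynomial.X 1 : MvPolynomial (Fin 2) A) : MvPowerSeries (Fin 2) A) by simp,
      ← MvPolynomial.coe_pow, MvPolynomial.coeff_coe, MvPolynomial.coeff_add_pow, e2_zero, e2_one,
      if_pos (show ((i, j) : ℕ × ℕ) ∈ Finset.HasAntidiagonal.antidiagonal (i + j) from Finset.HasAntidiagonal.mem_antidiagonal.2 rfl),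
      smul_eq_mul, mul_comm]
  · intro d hd
    rw [show (MvPowerSeries.X 0 + MvPowerSeries.X 1 : MvPowerSeries (Fin 2) A) =
      ((MvPolynomial.X 0 + MvPolynomial.X 1 : MvPolynomial (Fin 2) A) : MvPowerSeries (Fin 2) A) by simp,
      ← MvPolynomial.coe_pow, MvPolynomial.coeff_coe, MvPolynomial.coeff_add_pow, e2_zero, e2_one,
      if_neg (fun h => hd (Finset.HasAntidiagonal.mem_antidiagonal.1 h).symm), Nat.cast_zero, smul_zero]

theorem coeff_subst_X (s : Fin 2) (χ : PowerSeries A) (e : Fin 2 →₀ ℕ) :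
    MvPowerSeries.coeff e (PowerSeries.subst (MvPowerSeries.X s : MvPowerSeries (Fin 2) A) χ) =
      if e = Finsupp.single s (e s) then PowerSeries.coeff (e s) χ else 0 := by
  classical
  rw [PowerSeries.coeff_subst (PowerSeries.HasSubst.of_constantCoeff_zero (by simp)), finsum_eq_single _ (e s)]
  · rw [MvPowerSeries.coeff_X_pow]
    split_ifs <;> simp
  · intro d hd
    rw [MvPowerSeries.coeff_X_pow, if_neg, smul_zero]
    exact fun h => hd (by rw [h, Finsupp.single_eq_same])

theorem coeff_subst_mul (χ χ' : PowerSeries A) (i j : ℕ) :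
    MvPowerSeries.coeff (e2 i j)
      (PowerSeries.subst (MvPowerSeries.X 0 : MvPowerSeries (Fin 2) A) χ *
        PowerSeries.subst (MvPowerSeries.X 1 : MvPowerSeries (Fin 2) A) χ') =
      PowerSeries.coeff i χ * PowerSeries.coeff j χ' := by
  classical
  rw [MvPowerSeries.coeff_mul, Finset.sum_eq_single (Finsupp.single 0 i, Finsupp.single 1 j)]
  · rw [coeff_subst_X, coeff_subst_X]
    simp
  · rintro ⟨a, b⟩ hab hne
    rw [coeff_subst_X, coeff_subst_X]
    rw [Finset.HasAntidiagonal.mem_antidiagonal] at hab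
    dsimp only
    split_ifs with h1 h2 <;> try simp
    exfalso
    refine hne ?_
    have ha := congrArg (fun d : Fin 2 →₀ ℕ => d 0) hab
    have hb := congrArg (fun d : Fin 2 →₀ ℕ => d 1) hab
    rw [h1, h2] at ha hb
    simp at ha hb
    rw [Prod.mk.injEq, ← ha, ← hb]
    exact ⟨h1, h2⟩
  · exact fun h => absurd (Finset.HasAntidiagonal.mem_antidiagonal.2 (show Finsupp.single 0 i + Finsupp.single 1 j = e2 i j by rw [e2])) h

theorem isDP_iff_series (χ : PowerSeries A) :
    (PowerSeries.constantCoeff χ = 1 ∧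
      PowerSeries.subst (MvPowerSeries.X 0 + MvPowerSeries.X 1 : MvPowerSeries (Fin 2) A) χ =
        PowerSeries.subst (MvPowerSeries.X 0 : MvPowerSeries (Fin 2) A) χ *
          PowerSeries.subst (MvPowerSeries.X 1 : MvPowerSeries (Fin 2) A) χ) ↔
      IsDP fun n => PowerSeries.coeff n χ := by
  rw [← PowerSeries.coeff_zero_eq_constantCoeff_apply]
  refine and_congr_right fun _ => ⟨fun h i j => ?_, fun h => MvPowerSeries.ext fun d => ?_⟩
  · have := congrArg (MvPowerSeries.coeff (e2 i j)) h
    rw [coeff_subst_add, coeff_subst_mul] at this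
    exact this.symm
  · rw [eq_e2 d, coeff_subst_add, coeff_subst_mul, h]

section CharP

variable (p : ℕ) [Fact p.Prime] [CharP A p]

/-- The truncated exponential. -/
noncomputable def expT (a : A) (q : ℕ) : Polynomial A :=
  ∑ j ∈ range p, Polynomial.C (Ring.inverse (j.factorial : A) * a ^ j) * Polynomial.X ^ (j * q)

theorem isUnit_factorial {j : ℕ} (hj : j < p) : IsUnit (j.factorial : A) := by
  rw [CharP.isUnit_natCast_iff (Fact.out : p.Prime)]
  intro h
  exact absurd ((Fact.out : p.Prime).dvd_factorial.1 h) (not_le.2 hj)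

theorem cast_choose_eq_one {n r : ℕ} (hr : r < p ^ n) (j : ℕ) :
    ((j * p ^ n + r).choose r : A) = 1 := by
  have hp : p.Prime := Fact.out
  rw [← Nat.cast_one, CharP.natCast_eq_natCast A p]
  induction n generalizing r with
  | zero =>
    simp only [pow_zero, Nat.lt_one_iff] at hr
    subst hr
    simp [Nat.ModEq]
  | succ n ih =>
    refine Choose.choose_modEq_choose_mod_mul_choose_div_nat.trans ?_
    have e : j * p ^ (n + 1) + r = r + p * (j * p ^ n) := by ring
    rw [e, Nat.add_mul_mod_self_left, Nat.choose_self, one_mul, Nat.add_mul_div_left _ _ hp.pos, add_comm (r / p)]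
    exact ih (Nat.div_lt_of_lt_mul (by rwa [← pow_succ']))

theorem cast_choose_mul (n j : ℕ) : (((j + 1) * p ^ n).choose (p ^ n) : A) = (j + 1 : ℕ) := by
  rw [CharP.natCast_eq_natCast A p]
  have := Choose.choose_pow_mul_pow_mul_modEq_choose_nat (p := p) (k := n) (a := j + 1) (b := 1)
  rwa [mul_one, Nat.choose_one_right, mul_comm] at this

variable {p} {c : ℕ → A} {N : ℕ}

theorem mul_pow_lt {n j : ℕ} (hn : n < N) (hj : j < p) : j * p ^ n < p ^ N := by
  have hp : p.Prime := Fact.out
  calc j * p ^ n < p * p ^ n := Nat.mul_lt_mul_of_pos_right hj (pow_pos hp.pos n)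
    _ = p ^ (n + 1) := (pow_succ' p n).symm
    _ ≤ p ^ N := Nat.pow_le_pow_right hp.pos hn

theorem DPBelow.factorial_mul (h : DPBelow c (p ^ N)) {n : ℕ} (hn : n < N) :
    ∀ {j : ℕ}, j ≤ p → (j.factorial : A) * c (j * p ^ n) = c (p ^ n) ^ j := by
  intro j
  induction j with
  | zero => intro _; simp [h.1]
  | succ j ih =>
    intro hj
    have h2 := h.2 (p ^ n) (j * p ^ n)
      (Nat.pow_lt_pow_right (Fact.out : p.Prime).one_lt hn) (mul_pow_lt hn (by omega))
    rw [show p ^ n + j * p ^ n = (j + 1) * p ^ n by ring, cast_choose_mul] at h2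
    rw [Nat.factorial_succ, Nat.cast_mul, mul_comm ((j + 1 : ℕ) : A), mul_assoc, ← h2, pow_succ,
      ← ih (by omega)]
    ring

theorem DPBelow.pow_eq_zero (h : DPBelow c (p ^ N)) {n : ℕ} (hn : n < N) : c (p ^ n) ^ p = 0 := by
  rw [← h.factorial_mul hn le_rfl, (CharP.cast_eq_zero_iff A p _).2 (Nat.dvd_factorial (Fact.out : p.Prime).pos le_rfl),
    zero_mul]

theorem DPBelow.sum_eq_prod (h : DPBelow c (p ^ N)) : ∀ {n : ℕ}, n ≤ N →
    ∑ m ∈ range (p ^ n), Polynomial.C (c m) * Polynomial.X ^ m =
      ∏ i ∈ range n, expT p (c (p ^ i)) (p ^ i) := by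
  intro n
  induction n with
  | zero => intro _; simp [h.1]
  | succ n ih =>
    intro hn
    rw [prod_range_succ, ← ih (by omega), expT, Finset.mul_sum, pow_succ']
    have hgen : ∀ t, t ≤ p → ∑ m ∈ range (t * p ^ n), Polynomial.C (c m) * Polynomial.X ^ m =
        ∑ j ∈ range t, (∑ m ∈ range (p ^ n), Polynomial.C (c m) * Polynomial.X ^ m) *
          (Polynomial.C (Ring.inverse (j.factorial : A) * c (p ^ n) ^ j) * Polynomial.X ^ (j * p ^ n)) := by
      intro t
      induction t with
      | zero => simp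
      | succ t iht =>
        intro ht
        rw [add_one_mul, Finset.sum_range_add, iht (by omega), sum_range_succ (n := t), Finset.sum_mul]
        congr 1
        refine Finset.sum_congr rfl fun r hr => ?_
        have hr' := Finset.mem_range.1 hr
        have h2 := h.2 r (t * p ^ n) (hr'.trans (Nat.pow_lt_pow_right (Fact.out : p.Prime).one_lt (by omega)))
          (mul_pow_lt (by omega) (by omega))
        rw [show r + t * p ^ n = t * p ^ n + r by ring, cast_choose_eq_one p hr', one_mul] at h2
        rw [← h2, ← h.factorial_mul (show n < N by omega) (show t ≤ p by omega), ← mul_assoc (Ring.inverse _),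
          Ring.inverse_mul_cancel _ (isUnit_factorial p (by omega)), one_mul, map_mul, pow_add]
        ring
    exact hgen p le_rfl

theorem expT_eval_zero (a : A) {q : ℕ} (hq : 0 < q) : (expT p a q).eval 0 = 1 := by
  rw [expT, Polynomial.eval_finsetSum, Finset.sum_eq_single 0]
  · simp
  · intro j _ hj
    simp [zero_pow (Nat.mul_ne_zero hj hq.ne')]
  · exact fun h => absurd (Finset.mem_range.2 (Fact.out : p.Prime).pos) h

variable (p) in
theorem expT_add {B : Type*} [CommRing B] [Algebra A B] (u v : B)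
    (h : ∀ a b, p ≤ a + b → u ^ a * v ^ b = 0) :
    (∑ j ∈ range p, algebraMap A B (Ring.inverse (j.factorial : A)) * (u + v) ^ j) =
      (∑ i ∈ range p, algebraMap A B (Ring.inverse (i.factorial : A)) * u ^ i) *
      ∑ l ∈ range p, algebraMap A B (Ring.inverse (l.factorial : A)) * v ^ l := by
  rw [Finset.sum_mul_sum, ← Finset.sum_product']
  symm
  rw [← Finset.sum_filter_of_ne (p := fun x => x.1 + x.2 < p) (fun x _ hx => by
    by_contra hle
    refine hx ?_
    rw [mul_mul_mul_comm, h _ _ (not_lt.1 hle), mul_zero])]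
  rw [← Finset.sum_fiberwise_of_maps_to (g := fun x : ℕ × ℕ => x.1 + x.2) (t := range p)
    (fun x hx => Finset.mem_range.2 (Finset.mem_filter.1 hx).2)]
  refine Finset.sum_congr rfl fun j hj => ?_
  symm
  have hjp := Finset.mem_range.1 hj
  rw [Commute.add_pow' (Commute.all u v), Finset.mul_sum]
  refine Finset.sum_congr ?_ fun x hx => ?_
  · ext x
    simp only [Finset.HasAntidiagonal.mem_antidiagonal, Finset.mem_filter, Finset.mem_product, Finset.mem_range]
    omega
  · simp only [Finset.mem_filter, Finset.mem_product, Finset.mem_range] at hx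
    have key : Ring.inverse (j.factorial : A) * (j.choose x.1 : A) =
        Ring.inverse (x.1.factorial : A) * Ring.inverse (x.2.factorial : A) := by
      apply (isUnit_factorial (A := A) p hjp).mul_left_cancel
      rw [← mul_assoc, Ring.mul_inverse_cancel _ (isUnit_factorial p hjp), one_mul,
        ← Nat.choose_mul_factorial_mul_factorial (show x.1 ≤ j by omega), show j - x.1 = x.2 by omega]
      push_cast
      calc (j.choose x.1 : A) = (j.choose x.1 : A) * ((x.1.factorial : A) * Ring.inverse (x.1.factorial : A)) *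
            ((x.2.factorial : A) * Ring.inverse (x.2.factorial : A)) := by
            rw [Ring.mul_inverse_cancel _ (isUnit_factorial p (by omega)),
              Ring.mul_inverse_cancel _ (isUnit_factorial p (by omega)), mul_one, mul_one]
        _ = _ := by ring
    rw [nsmul_eq_mul, ← map_natCast (algebraMap A B), ← mul_assoc, ← map_mul, key, map_mul]
    ring

theorem isDP_expT {a : A} (ha : a ^ p = 0) (n : ℕ) : IsDP (expT p a (p ^ n)).coeff := by
  rw [← isDP_iff_poly]
  refine ⟨expT_eval_zero a (pow_pos (Fact.out : p.Prime).pos n), ?_⟩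
  haveI : CharP (MvPolynomial (Fin 2) A) p := inferInstance
  have key : ∀ t : MvPolynomial (Fin 2) A, Polynomial.aeval t (expT p a (p ^ n)) =
      ∑ j ∈ range p, algebraMap A _ (Ring.inverse (j.factorial : A)) * (algebraMap A _ a * t ^ p ^ n) ^ j := by
    intro t
    rw [expT, map_sum]
    refine Finset.sum_congr rfl fun j _ => ?_
    rw [map_mul, Polynomial.aeval_C, map_pow, Polynomial.aeval_X, map_mul, map_pow, mul_pow, ← pow_mul,
      mul_comm (p ^ n) j, mul_assoc]
  rw [key, key, key, add_pow_char_pow, mul_add]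
  refine expT_add p _ _ fun i j hij => ?_
  rw [mul_pow, mul_pow, mul_mul_mul_comm, ← pow_add, ← map_pow, pow_eq_zero_of_le hij ha, map_zero, zero_mul]

theorem isDP_prod {a : ℕ → A} (ha : ∀ n, a n ^ p = 0) (N : ℕ) :
    IsDP (∏ i ∈ range N, expT p (a i) (p ^ i)).coeff := by
  rw [← isDP_iff_poly]
  induction N with
  | zero => simp
  | succ N ih =>
    have h := (isDP_iff_poly _).2 (isDP_expT (ha N) N)
    rw [Finset.prod_range_succ]
    refine ⟨by rw [Polynomial.eval_mul, ih.1, h.1, one_mul], ?_⟩
    simp only [map_mul, ih.2, h.2]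
    ring

end CharP

end Groth.Agent.H23Ga
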