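import Mathlib
import Groth.Agent.H23Ga.Char

/-!
Symmetric additive two-cocycles in characteristic `p` (Lazard's lemma).
-/

set_option autoImplicit false

universe u

open Finset

namespace Groth.Agent.H23Ga

variable {A : Type u} [CommRing A]

/-- Coefficientwise form of a homogeneous symmetric cocycle of degree `n`. -/
def Coc (n : ℕ) (u : ℕ → A) : Prop :=
  (∀ i, 0 < i → i < n → u i = u (n - i)) ∧
    ∀ a b, 0 < a → 0 < b → a + b < n → ((n - a).choose b : A) * u a = ((a + b).choose a : A) * u (a + b)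

theorem coc_choose (n : ℕ) : Coc n fun i => (n.choose i : A) := by
  refine ⟨fun i _ hi => by dsimp only; rw [Nat.choose_symm hi.le], fun a b _ _ hab => ?_⟩
  dsimp only
  rw [← Nat.cast_mul, ← Nat.cast_mul, mul_comm, mul_comm _ (n.choose (a + b)),
    Nat.choose_mul (show a ≤ a + b by omega), Nat.add_sub_cancel_left]

theorem Coc.sub {n : ℕ} {u v : ℕ → A} (hu : Coc n u) (hv : Coc n v) : Coc n (u - v) := by
  refine ⟨fun i h1 h2 => by simp [← hu.1 i h1 h2, ← hv.1 i h1 h2], fun a b ha hb hab => ?_⟩
  simp only [Pi.sub_apply, mul_sub, hu.2 a b ha hb hab, hv.2 a b ha hb hab]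

theorem Coc.smul {n : ℕ} {u : ℕ → A} (hu : Coc n u) (c : A) : Coc n (c • u) := by
  refine ⟨fun i h1 h2 => by simp [← hu.1 i h1 h2], fun a b ha hb hab => ?_⟩
  simp only [Pi.smul_apply, smul_eq_mul]
  rw [mul_left_comm, hu.2 a b ha hb hab, mul_left_comm]

theorem Coc.exchange {n : ℕ} {u : ℕ → A} (hu : Coc n u) {a b : ℕ} (ha : 0 < a) (hb : 0 < b) (hab : a + b < n) :
    ((n - a).choose b : A) * u a = ((n - b).choose a : A) * u b := by
  rw [hu.2 a b ha hb hab, hu.2 b a hb ha (by omega), add_comm b a, Nat.choose_symm_add]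

section CharP

variable (p : ℕ) [Fact p.Prime] [CharP A p]

theorem cast_choose_pow (m s : ℕ) : (m.choose (p ^ s) : A) = (m / p ^ s : ℕ) := by
  rw [CharP.natCast_eq_natCast A p, ← Int.natCast_modEq_iff]
  refine (Choose.choose_modEq_choose_mul_prod_range_choose (p := p) s).trans ?_
  rw [Nat.div_self (pow_pos (Fact.out : p.Prime).pos s), Nat.choose_one_right,
    Finset.prod_eq_one fun i hi => ?_]
  · rw [Nat.cast_one, mul_one]
  · have hi' := Finset.mem_range.1 hi
    rw [Nat.pow_div hi'.le (Fact.out : p.Prime).pos, Nat.mod_eq_zero_of_dvd (dvd_pow_self p (show s - i ≠ 0 by omega))]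
    simp

theorem cast_choose_pow_mul_eq_zero : ∀ {k M b : ℕ}, ¬ p ^ k ∣ b → ((p ^ k * M).choose b : A) = 0 := by
  have hp : p.Prime := Fact.out
  intro k
  induction k with
  | zero => intro M b h; simp at h
  | succ k ih =>
    intro M b h
    have e : ((p ^ (k + 1) * M).choose b : A) =
        (((p ^ (k + 1) * M) % p).choose (b % p) * ((p ^ (k + 1) * M) / p).choose (b / p) : ℕ) :=
      (CharP.natCast_eq_natCast A p).2 Choose.choose_modEq_choose_mod_mul_choose_div_nat
    rw [e]
    have h1 : p ^ (k + 1) * M = p * (p ^ k * M) := by ring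
    rw [h1, Nat.mul_mod_right, Nat.mul_div_cancel_left _ hp.pos, Nat.cast_mul]
    by_cases hb : b % p = 0
    · rw [hb, Nat.choose_zero_right, Nat.cast_one, one_mul]
      refine ih fun hd => h ?_
      rw [pow_succ', ← Nat.mul_div_cancel' (Nat.dvd_of_mod_eq_zero hb)]
      exact mul_dvd_mul_left p hd
    · rw [Nat.choose_eq_zero_of_lt (Nat.pos_of_ne_zero hb), Nat.cast_zero, zero_mul]

theorem cast_choose_pow_mul (k M j : ℕ) : ((p ^ k * M).choose (p ^ k * j) : A) = (M.choose j : A) :=
  (CharP.natCast_eq_natCast A p).2 Choose.choose_pow_mul_pow_mul_modEq_choose_nat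

theorem isUnit_cast_of_lt {m : ℕ} (h0 : 0 < m) (h : m < p) : IsUnit (m : A) := by
  rw [CharP.isUnit_natCast_iff (Fact.out : p.Prime)]
  exact fun hd => absurd (Nat.le_of_dvd h0 hd) (not_le.2 h)

/-- The coefficients of `S (X ^ (p ^ k), Y ^ (p ^ k))`. -/
def sCoef (k i : ℕ) : A := if p ^ k ∣ i then ((p.choose (i / p ^ k) / p : ℕ) : A) else 0

theorem coc_sCoef (k : ℕ) : Coc (p ^ (k + 1)) (sCoef (A := A) p k) := by
  have hp : p.Prime := Fact.out
  have hq : 0 < p ^ k := pow_pos hp.pos k
  refine ⟨fun i hi hin => ?_, fun a b ha hb hab => ?_⟩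
  · simp only [sCoef]
    by_cases h : p ^ k ∣ i
    · obtain ⟨j, rfl⟩ := h
      have hj : j < p := by rw [pow_succ] at hin; exact Nat.lt_of_mul_lt_mul_left hin
      rw [show p ^ (k + 1) - p ^ k * j = p ^ k * (p - j) by rw [Nat.mul_sub, pow_succ],
        if_pos (dvd_mul_right _ _), if_pos (dvd_mul_right _ _), Nat.mul_div_cancel_left _ hq,
        Nat.mul_div_cancel_left _ hq, Nat.choose_symm hj.le]
    · rw [if_neg h, if_neg]
      intro h'
      exact h ((Nat.dvd_sub_iff_right (le_of_lt hin) (pow_dvd_pow p (Nat.le_succ k))).1 h')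
  · simp only [sCoef]
    by_cases hA : p ^ k ∣ a
    · obtain ⟨x, rfl⟩ := hA
      rw [if_pos (dvd_mul_right _ _), Nat.mul_div_cancel_left _ hq,
        show p ^ (k + 1) - p ^ k * x = p ^ k * (p - x) by rw [Nat.mul_sub, pow_succ]]
      by_cases hB : p ^ k ∣ b
      · obtain ⟨y, rfl⟩ := hB
        have hxy : x + y < p := by
          rw [pow_succ, ← Nat.mul_add] at hab
          exact Nat.lt_of_mul_lt_mul_left hab
        have hx : 0 < x := Nat.pos_of_mul_pos_left ha
        rw [← Nat.mul_add, if_pos (dvd_mul_right _ _), Nat.mul_div_cancel_left _ hq, cast_choose_pow_mul,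
          cast_choose_pow_mul, ← Nat.cast_mul, ← Nat.cast_mul, ← Nat.mul_div_assoc _ (hp.dvd_choose_self hx.ne' (by omega)),
          ← Nat.mul_div_assoc _ (hp.dvd_choose_self (by omega) (by omega)), mul_comm ((p - x).choose y),
          mul_comm ((x + y).choose x), Nat.choose_mul (show x ≤ x + y by omega), Nat.add_sub_cancel_left]
      · rw [cast_choose_pow_mul_eq_zero p hB, zero_mul, if_neg, mul_zero]
        exact fun h => hB ((Nat.dvd_add_right (dvd_mul_right _ _)).1 h)
    · rw [if_neg hA, mul_zero]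
      by_cases h : p ^ k ∣ a + b
      · obtain ⟨M, hM⟩ := h
        rw [hM, cast_choose_pow_mul_eq_zero p hA, zero_mul]
      · rw [if_neg h, mul_zero]

/-- The normalisation index. -/
def normIdx (n : ℕ) : ℕ := if n = p ^ Nat.log p n then p ^ (Nat.log p n - 1) else p ^ Nat.log p n

theorem Coc.eq_zero {n : ℕ} {u : ℕ → A} (hu : Coc n u) (hnorm : u (normIdx p n) = 0) :
    ∀ i, 0 < i → i < n → u i = 0 := by
  have hp : p.Prime := Fact.out
  intro i hi hin
  have hn : n ≠ 0 := by omega
  have htn : p ^ Nat.log p n ≤ n := Nat.pow_log_le_self p hn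
  have hnt : n < p ^ (Nat.log p n + 1) := Nat.lt_pow_succ_log_self hp.one_lt n
  set t := Nat.log p n
  have hunit : ∀ {m s : ℕ}, p ^ s ≤ m → m < p ^ (s + 1) → IsUnit (m.choose (p ^ s) : A) := by
    intro m s h1 h2
    rw [cast_choose_pow p]
    exact isUnit_cast_of_lt p (Nat.div_pos h1 (pow_pos hp.pos s))
      (Nat.div_lt_of_lt_mul (by rwa [← pow_succ]))
  have hpow : ∀ v, p ^ v < n → u (p ^ v) = 0 := by
    by_cases hc : n = p ^ t
    · rw [normIdx, if_pos hc] at hnorm
      intro v hv
      rw [hc] at hv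
      have hvt := (Nat.pow_lt_pow_iff_right hp.one_lt).1 hv
      rcases eq_or_lt_of_le (Nat.le_sub_one_of_lt hvt) with rfl | hlt
      · exact hnorm
      have hab : p ^ v + p ^ (t - 1) < p ^ t := by
        have h2 : p ^ v < p ^ (t - 1) := Nat.pow_lt_pow_right hp.one_lt hlt
        have h3 : p ^ (t - 1) * 2 ≤ p ^ t := by
          rw [show p ^ t = p ^ (t - 1) * p by rw [← pow_succ]; congr 1; omega]
          exact Nat.mul_le_mul_left _ hp.two_le
        omega
      have h := hu.exchange (pow_pos hp.pos v) (pow_pos hp.pos (t - 1)) (by rw [hc]; exact hab)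
      rw [hnorm, mul_zero] at h
      refine (hunit (s := t - 1) (by omega) ?_).mul_right_eq_zero.1 h
      have : p ^ (t - 1 + 1) = p ^ t := by congr 1; omega
      have := pow_pos hp.pos v
      omega
    · rw [normIdx, if_neg hc] at hnorm
      have case12 : ∀ v, p ^ v + p ^ t ≤ n → u (p ^ v) = 0 := by
        intro v hle
        rcases eq_or_lt_of_le hle with heq | hlt
        · rw [hu.1 _ (pow_pos hp.pos v) (by have := pow_pos hp.pos t; omega), show n - p ^ v = p ^ t by omega, hnorm]
        · have h := hu.exchange (pow_pos hp.pos v) (pow_pos hp.pos t) hlt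
          rw [hnorm, mul_zero] at h
          exact (hunit (s := t) (by omega) (by omega)).mul_right_eq_zero.1 h
      intro v hv
      rcases le_or_gt (p ^ v + p ^ t) n with hle | hgt
      · exact case12 v hle
      have hvt : v ≤ t := by
        by_contra hlt
        have : p ^ (t + 1) ≤ p ^ v := Nat.pow_le_pow_right hp.pos (by omega)
        omega
      rcases eq_or_lt_of_le hvt with rfl | hvt'
      · exact hnorm
      obtain ⟨s, n', hn', hns⟩ := Nat.exists_eq_pow_mul_and_not_dvd hn p hp.ne_one
      have hst : s < t := by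
        by_contra hle
        obtain ⟨c, hc'⟩ : p ^ t ∣ n := hns ▸ Dvd.dvd.mul_right (pow_dvd_pow p (not_lt.1 hle)) n'
        have hne : p ^ t < n := lt_of_le_of_ne htn (Ne.symm hc)
        have hc2 : 2 ≤ c := by
          by_contra h2
          interval_cases c <;> omega
        have : p ^ t * 2 ≤ p ^ t * c := Nat.mul_le_mul_left _ hc2
        have := Nat.pow_lt_pow_right hp.one_lt hvt'
        omega
      obtain ⟨r, hr⟩ : p ^ s ∣ n - p ^ t :=
        Nat.dvd_sub (hns ▸ dvd_mul_right _ _) (pow_dvd_pow p hst.le)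
      have hr1 : 1 ≤ r := by
        by_contra h0
        have : r = 0 := by omega
        rw [this, mul_zero] at hr
        omega
      have hr' : p ^ s * 1 ≤ p ^ s * r := Nat.mul_le_mul_left _ hr1
      have hs : u (p ^ s) = 0 := case12 s (by omega)
      have hsv : s < v := (Nat.pow_lt_pow_iff_right hp.one_lt).1 (show p ^ s < p ^ v by omega)
      have hab : p ^ v + p ^ s < n := by
        have h2 : p ^ v * 2 ≤ p ^ t := le_trans (Nat.mul_le_mul_left _ hp.two_le)
          (by rw [← pow_succ]; exact Nat.pow_le_pow_right hp.pos hvt')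
        omega
      have h := hu.exchange (pow_pos hp.pos v) (pow_pos hp.pos s) hab
      rw [hs, mul_zero, cast_choose_pow p] at h
      refine IsUnit.mul_right_eq_zero (a := (((n - p ^ v) / p ^ s : ℕ) : A)) ?_ |>.1 h
      rw [CharP.isUnit_natCast_iff hp]
      rw [hns, show p ^ v = p ^ s * p ^ (v - s) by rw [← pow_add]; congr 1; omega, ← Nat.mul_sub,
        Nat.mul_div_cancel_left _ (pow_pos hp.pos s)]
      intro hd
      refine hn' ((Nat.dvd_sub_iff_left ?_ (dvd_pow_self p (by omega))).1 hd)
      by_contra hlt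
      have h4 := Nat.mul_le_mul_left (p ^ s) (le_of_not_ge hlt)
      rw [← hns, ← pow_add, show s + (v - s) = v by omega] at h4
      omega
  have h1 : p ^ Nat.log p i ≤ i := Nat.pow_log_le_self p hi.ne'
  rcases eq_or_lt_of_le h1 with heq | hlt
  · rw [← heq]; exact hpow _ (by omega)
  · have h := hu.2 (p ^ Nat.log p i) (i - p ^ Nat.log p i) (pow_pos hp.pos _) (by omega) (by omega)
    rw [hpow _ (by omega), mul_zero, Nat.add_sub_cancel' h1] at h
    exact (hunit h1 (Nat.lt_pow_succ_log_self hp.one_lt i)).mul_right_eq_zero.1 h.symm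

/-- The symmetric cocycle conditions. -/
def IsCocycle (F : MvPolynomial (Fin 2) A) : Prop :=
  MvPolynomial.aeval ![MvPolynomial.X 1, MvPolynomial.X 0] F = F ∧
    MvPolynomial.aeval ![MvPolynomial.X 0, MvPolynomial.X 1 + MvPolynomial.X 2] F
        + MvPolynomial.aeval ![MvPolynomial.X 1, MvPolynomial.X 2] F
        - MvPolynomial.aeval ![MvPolynomial.X 0 + MvPolynomial.X 1, MvPolynomial.X 2] F
        - MvPolynomial.aeval ![MvPolynomial.X 0, MvPolynomial.X 1] F = (0 : MvPolynomial (Fin 3) A)

end CharP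

/-- The exponent `(a, b, c)`. -/
noncomputable def e3 (a b c : ℕ) : Fin 3 →₀ ℕ :=
  Finsupp.single 0 a + Finsupp.single 1 b + Finsupp.single 2 c

@[simp] theorem e3_zero (a b c : ℕ) : e3 a b c 0 = a := by simp [e3]
@[simp] theorem e3_one (a b c : ℕ) : e3 a b c 1 = b := by simp [e3]
@[simp] theorem e3_two (a b c : ℕ) : e3 a b c 2 = c := by simp [e3]

theorem e3_inj {a b c x y z : ℕ} : e3 a b c = e3 x y z ↔ a = x ∧ b = y ∧ c = z := by
  refine ⟨fun h => ⟨?_, ?_, ?_⟩, fun h => by rw [h.1, h.2.1, h.2.2]⟩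
  · simpa using congrArg (fun d : Fin 3 →₀ ℕ => d 0) h
  · simpa using congrArg (fun d : Fin 3 →₀ ℕ => d 1) h
  · simpa using congrArg (fun d : Fin 3 →₀ ℕ => d 2) h

theorem eq_e3 (d : Fin 3 →₀ ℕ) : d = e3 (d 0) (d 1) (d 2) := by
  ext x; fin_cases x <;> simp

theorem X_pow_three (a b c : ℕ) :
    (MvPolynomial.X 0 ^ a * MvPolynomial.X 1 ^ b * MvPolynomial.X 2 ^ c : MvPolynomial (Fin 3) A) =
      MvPolynomial.monomial (e3 a b c) 1 := by
  simp [e3, MvPolynomial.X_pow_eq_monomial, MvPolynomial.monomial_mul]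

theorem sum_ite_pair {s : ℕ} (f : ℕ → A) (a b : ℕ) :
    (∑ m ∈ range (s + 1), if m = a ∧ s - m = b then f m else 0) = if s = a + b then f a else 0 := by
  rcases le_or_gt a s with has | hsa
  · rw [Finset.sum_eq_single a]
    · simp only [true_and]
      by_cases h : s = a + b
      · rw [if_pos (show s - a = b by omega), if_pos h]
      · rw [if_neg (show ¬ s - a = b by omega), if_neg h]
    · intro m _ hm; rw [if_neg fun h => hm h.1]
    · exact fun h => absurd (Finset.mem_range.2 (by omega)) h
  · rw [if_neg (by omega), Finset.sum_eq_zero]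
    intro m hm
    simp only [Finset.mem_range] at hm
    rw [if_neg (by omega)]

theorem coeff_add_right (F : MvPolynomial (Fin 2) A) (a b c : ℕ) :
    (MvPolynomial.aeval ![MvPolynomial.X 0, MvPolynomial.X 1 + MvPolynomial.X 2] F : MvPolynomial (Fin 3) A).coeff
      (e3 a b c) = ((b + c).choose b : A) * F.coeff (e2 a (b + c)) := by
  induction F using MvPolynomial.induction_on' with
  | add F G hF hG => rw [map_add, MvPolynomial.coeff_add, hF, hG, MvPolynomial.coeff_add, mul_add]
  | monomial d r =>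
    rw [eq_e2 d, MvPolynomial.aeval_monomial, Finsupp.prod_fintype _ _ (fun _ => pow_zero _),
      Fin.prod_univ_two, MvPolynomial.algebraMap_eq, MvPolynomial.coeff_C_mul, MvPolynomial.coeff_monomial]
    simp only [Matrix.cons_val_zero, Matrix.cons_val_one, e2_zero, e2_one, e2_inj, add_pow, Finset.mul_sum,
      MvPolynomial.coeff_sum]
    have hterm : ∀ m ∈ range (d 1 + 1),
        ((MvPolynomial.X 0 : MvPolynomial (Fin 3) A) ^ d 0 * (MvPolynomial.X 1 ^ m * MvPolynomial.X 2 ^ (d 1 - m) *
          ((d 1).choose m : MvPolynomial (Fin 3) A))).coeff (e3 a b c) =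
        if m = b ∧ d 1 - m = c then (if d 0 = a then ((d 1).choose m : A) else 0) else 0 := fun m _ => by
      rw [← mul_assoc, ← mul_assoc, X_pow_three, ← map_natCast (MvPolynomial.C (R := A)), mul_comm,
        MvPolynomial.coeff_C_mul, MvPolynomial.coeff_monomial]
      simp only [e3_inj]
      by_cases h0 : d 0 = a <;> simp [h0]
    rw [← Finset.mul_sum, Finset.sum_congr rfl hterm, sum_ite_pair]
    split_ifs <;> simp_all <;> ring

theorem coeff_add_left (F : MvPolynomial (Fin 2) A) (a b c : ℕ) :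
    (MvPolynomial.aeval ![MvPolynomial.X 0 + MvPolynomial.X 1, MvPolynomial.X 2] F : MvPolynomial (Fin 3) A).coeff
      (e3 a b c) = ((a + b).choose a : A) * F.coeff (e2 (a + b) c) := by
  induction F using MvPolynomial.induction_on' with
  | add F G hF hG => rw [map_add, MvPolynomial.coeff_add, hF, hG, MvPolynomial.coeff_add, mul_add]
  | monomial d r =>
    rw [eq_e2 d, MvPolynomial.aeval_monomial, Finsupp.prod_fintype _ _ (fun _ => pow_zero _),
      Fin.prod_univ_two, MvPolynomial.algebraMap_eq, MvPolynomial.coeff_C_mul, MvPolynomial.coeff_monomial]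
    simp only [Matrix.cons_val_zero, Matrix.cons_val_one, e2_zero, e2_one, e2_inj, add_pow, Finset.sum_mul,
      MvPolynomial.coeff_sum]
    have hterm : ∀ m ∈ range (d 0 + 1),
        ((MvPolynomial.X 0 : MvPolynomial (Fin 3) A) ^ m * MvPolynomial.X 1 ^ (d 0 - m) *
          ((d 0).choose m : MvPolynomial (Fin 3) A) * MvPolynomial.X 2 ^ d 1).coeff (e3 a b c) =
        if m = a ∧ d 0 - m = b then (if d 1 = c then ((d 0).choose m : A) else 0) else 0 := fun m _ => by
      rw [mul_right_comm, X_pow_three, ← map_natCast (MvPolynomial.C (R := A)), mul_comm,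
        MvPolynomial.coeff_C_mul, MvPolynomial.coeff_monomial]
      simp only [e3_inj]
      by_cases h0 : d 1 = c <;> simp [h0]
    rw [Finset.sum_congr rfl hterm, sum_ite_pair]
    split_ifs <;> simp_all <;> ring

theorem coeff_X1X2 (F : MvPolynomial (Fin 2) A) (a b c : ℕ) :
    (MvPolynomial.aeval ![MvPolynomial.X 1, MvPolynomial.X 2] F : MvPolynomial (Fin 3) A).coeff (e3 a b c) =
      if a = 0 then F.coeff (e2 b c) else 0 := by
  induction F using MvPolynomial.induction_on' with
  | add F G hF hG => rw [map_add, MvPolynomial.coeff_add, hF, hG, MvPolynomial.coeff_add]; split_ifs <;> simp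
  | monomial d r =>
    rw [eq_e2 d, MvPolynomial.aeval_monomial, Finsupp.prod_fintype _ _ (fun _ => pow_zero _),
      Fin.prod_univ_two, MvPolynomial.algebraMap_eq, MvPolynomial.coeff_C_mul, MvPolynomial.coeff_monomial]
    simp only [Matrix.cons_val_zero, Matrix.cons_val_one, e2_zero, e2_one, e2_inj]
    rw [← one_mul ((MvPolynomial.X 1 : MvPolynomial (Fin 3) A) ^ d 0), ← pow_zero (MvPolynomial.X 0),
      X_pow_three, MvPolynomial.coeff_monomial]
    simp only [e3_inj]
    split_ifs <;> simp_all

theorem coeff_X0X1 (F : MvPolynomial (Fin 2) A) (a b c : ℕ) :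
    (MvPolynomial.aeval ![MvPolynomial.X 0, MvPolynomial.X 1] F : MvPolynomial (Fin 3) A).coeff (e3 a b c) =
      if c = 0 then F.coeff (e2 a b) else 0 := by
  induction F using MvPolynomial.induction_on' with
  | add F G hF hG => rw [map_add, MvPolynomial.coeff_add, hF, hG, MvPolynomial.coeff_add]; split_ifs <;> simp
  | monomial d r =>
    rw [eq_e2 d, MvPolynomial.aeval_monomial, Finsupp.prod_fintype _ _ (fun _ => pow_zero _),
      Fin.prod_univ_two, MvPolynomial.algebraMap_eq, MvPolynomial.coeff_C_mul, MvPolynomial.coeff_monomial]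
    simp only [Matrix.cons_val_zero, Matrix.cons_val_one, e2_zero, e2_one, e2_inj]
    rw [← mul_one ((MvPolynomial.X 0 : MvPolynomial (Fin 3) A) ^ d 0 * MvPolynomial.X 1 ^ d 1),
      ← pow_zero (MvPolynomial.X 2), X_pow_three, MvPolynomial.coeff_monomial]
    simp only [e3_inj]
    split_ifs <;> simp_all

theorem coeff_swap (F : MvPolynomial (Fin 2) A) (i j : ℕ) :
    (MvPolynomial.aeval ![MvPolynomial.X 1, MvPolynomial.X 0] F : MvPolynomial (Fin 2) A).coeff (e2 i j) =
      F.coeff (e2 j i) := by
  induction F using MvPolynomial.induction_on' with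
  | add F G hF hG => rw [map_add, MvPolynomial.coeff_add, hF, hG, MvPolynomial.coeff_add]
  | monomial d r =>
    rw [eq_e2 d, MvPolynomial.aeval_monomial, Finsupp.prod_fintype _ _ (fun _ => pow_zero _),
      Fin.prod_univ_two, MvPolynomial.algebraMap_eq, MvPolynomial.coeff_C_mul, MvPolynomial.coeff_monomial]
    simp only [Matrix.cons_val_zero, Matrix.cons_val_one, e2_zero, e2_one, e2_inj]
    rw [mul_comm (MvPolynomial.X 1 ^ d 0 : MvPolynomial (Fin 2) A), X_pow_mul_X_pow, MvPolynomial.coeff_monomial]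
    simp only [e2_inj]
    split_ifs <;> simp_all

/-- The degree `n` part. -/
noncomputable def slice (F : MvPolynomial (Fin 2) A) (n i : ℕ) : A := F.coeff (e2 i (n - i))

theorem isCocycle_iff (F : MvPolynomial (Fin 2) A) :
    IsCocycle F ↔ (∀ n, 0 < n → F.coeff (e2 n 0) = 0 ∧ F.coeff (e2 0 n) = 0) ∧ ∀ n, Coc n (slice F n) := by
  constructor
  · rintro ⟨hs, hc⟩
    have hsym : ∀ i j, F.coeff (e2 j i) = F.coeff (e2 i j) := fun i j => by rw [← coeff_swap, hs]
    have hco : ∀ a b c, ((b + c).choose b : A) * F.coeff (e2 a (b + c)) + (if a = 0 then F.coeff (e2 b c) else 0)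
        - ((a + b).choose a : A) * F.coeff (e2 (a + b) c) - (if c = 0 then F.coeff (e2 a b) else 0) = 0 :=
      fun a b c => by
        have := congrArg (MvPolynomial.coeff (e3 a b c)) hc
        rwa [MvPolynomial.coeff_sub, MvPolynomial.coeff_sub, MvPolynomial.coeff_add, coeff_add_right,
          coeff_add_left, coeff_X1X2, coeff_X0X1, MvPolynomial.coeff_zero] at this
    refine ⟨fun n hn => ?_, fun n => ⟨fun i hi hin => ?_, fun a b ha hb hab => ?_⟩⟩
    · have := hco n 0 0
      simp [hn.ne'] at this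
      exact ⟨this, (hsym n 0).trans this⟩
    · simp only [slice]
      rw [show n - (n - i) = i by omega]
      exact hsym _ _
    · have := hco a b (n - (a + b))
      rw [if_neg ha.ne', if_neg (by omega), show b + (n - (a + b)) = n - a by omega, add_zero, sub_zero,
        sub_eq_zero] at this
      exact this
  · rintro ⟨h0, hC⟩
    have hsym : ∀ i j, F.coeff (e2 j i) = F.coeff (e2 i j) := by
      intro i j
      rcases Nat.eq_zero_or_pos i with rfl | hi
      · rcases Nat.eq_zero_or_pos j with rfl | hj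
        · rfl
        · rw [(h0 j hj).1, (h0 j hj).2]
      · rcases Nat.eq_zero_or_pos j with rfl | hj
        · rw [(h0 i hi).1, (h0 i hi).2]
        · have := (hC (i + j)).1 i hi (by omega)
          simp only [slice, Nat.add_sub_cancel_left, show i + j - j = i by omega] at this
          exact this.symm
    refine ⟨MvPolynomial.ext _ _ fun d => ?_, MvPolynomial.ext _ _ fun d => ?_⟩
    · rw [eq_e2 d, coeff_swap, hsym]
    rw [eq_e3 d, MvPolynomial.coeff_sub, MvPolynomial.coeff_sub, MvPolynomial.coeff_add, coeff_add_right,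
      coeff_add_left, coeff_X1X2, coeff_X0X1, MvPolynomial.coeff_zero]
    generalize d 0 = a, d 1 = b, d 2 = c
    clear hsym
    rcases Nat.eq_zero_or_pos a with rfl | ha <;> rcases Nat.eq_zero_or_pos b with rfl | hb <;>
      rcases Nat.eq_zero_or_pos c with rfl | hc <;>
      simp_all [Nat.pos_iff_ne_zero] <;> try ring
    have := (hC (a + b + c)).2 a b (Nat.pos_of_ne_zero ha) (Nat.pos_of_ne_zero hb) (by omega)
    simp only [slice, show a + b + c - a = b + c by omega, show a + b + c - (a + b) = c by omega] at this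
    rw [this, add_comm b a, sub_self]

end Groth.Agent.H23Ga
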