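import Mathlib
import Groth.Agent.H23Ga.Cocycle

/-!
Classification of symmetric additive two-cocycles in characteristic `p`.
-/

set_option autoImplicit false

universe u

open Finset

namespace Groth.Agent.H23Ga

variable {A : Type u} [CommRing A]

theorem Coc.congr {n : ℕ} {u v : ℕ → A} (hu : Coc n u) (h : ∀ i, 0 < i → i < n → u i = v i) : Coc n v := by
  refine ⟨fun i h1 h2 => by rw [← h i h1 h2, ← h (n - i) (by omega) (by omega), hu.1 i h1 h2],
    fun a b ha hb hab => ?_⟩
  rw [← h a ha (by omega), ← h (a + b) (by omega) hab, hu.2 a b ha hb hab]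

theorem Coc.sum {ι : Type*} (s : Finset ι) {n : ℕ} {u : ι → ℕ → A} (hu : ∀ k ∈ s, Coc n (u k)) :
    Coc n fun i => ∑ k ∈ s, u k i := by
  refine ⟨fun i h1 h2 => Finset.sum_congr rfl fun k hk => (hu k hk).1 i h1 h2, fun a b ha hb hab => ?_⟩
  simp only [Finset.mul_sum]
  exact Finset.sum_congr rfl fun k hk => (hu k hk).2 a b ha hb hab

/-- The coboundary of a polynomial in one variable. -/
noncomputable def bd (G : Polynomial A) : MvPolynomial (Fin 2) A :=
  Polynomial.aeval (MvPolynomial.X 0 + MvPolynomial.X 1 : MvPolynomial (Fin 2) A) G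
    - Polynomial.aeval (MvPolynomial.X 0 : MvPolynomial (Fin 2) A) G
    - Polynomial.aeval (MvPolynomial.X 1 : MvPolynomial (Fin 2) A) G

theorem coeff_bd (G : Polynomial A) (i j : ℕ) :
    (bd G).coeff (e2 i j) = ((i + j).choose i : A) * G.coeff (i + j)
      - G.coeff i * (if j = 0 then 1 else 0) - (if i = 0 then 1 else 0) * G.coeff j := by
  have h0 := coeff_aeval_mul G (1 : Polynomial A) i j
  have h1 := coeff_aeval_mul (1 : Polynomial A) G i j
  rw [map_one, mul_one] at h0
  rw [map_one, one_mul] at h1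
  rw [bd, MvPolynomial.coeff_sub, MvPolynomial.coeff_sub, coeff_aeval_add, h0, h1, Polynomial.coeff_one,
    Polynomial.coeff_one]

theorem slice_bd (G : Polynomial A) {n i : ℕ} (h1 : 0 < i) (h2 : i < n) :
    slice (bd G) n i = (n.choose i : A) * G.coeff n := by
  rw [slice, coeff_bd, if_neg (by omega), if_neg (by omega), Nat.add_sub_cancel' h2.le]
  simp

section CharP

variable (p : ℕ) [Fact p.Prime] [CharP A p]

/-- `S (X ^ (p ^ k), Y ^ (p ^ k))`. -/
noncomputable def Sk (k : ℕ) : MvPolynomial (Fin 2) A :=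
  MvPolynomial.aeval ![(MvPolynomial.X 0 ^ p ^ k : MvPolynomial (Fin 2) A), MvPolynomial.X 1 ^ p ^ k]
    (∑ j ∈ Finset.Ioo 0 p, MvPolynomial.C ((p.choose j / p : ℕ) : A) *
      MvPolynomial.X 0 ^ j * MvPolynomial.X 1 ^ (p - j) : MvPolynomial (Fin 2) A)

theorem coeff_Sk (k i l : ℕ) : (Sk (A := A) p k).coeff (e2 i l) =
    if i + l = p ^ (k + 1) ∧ 0 < i ∧ 0 < l then sCoef p k i else 0 := by
  have hq : 0 < p ^ k := pow_pos (Fact.out : p.Prime).pos k
  have hterm : ∀ j ∈ Finset.Ioo 0 p, (MvPolynomial.aeval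
      ![(MvPolynomial.X 0 ^ p ^ k : MvPolynomial (Fin 2) A), MvPolynomial.X 1 ^ p ^ k]
      (MvPolynomial.C ((p.choose j / p : ℕ) : A) * MvPolynomial.X 0 ^ j * MvPolynomial.X 1 ^ (p - j))).coeff (e2 i l) =
      if p ^ k * j = i ∧ p ^ k * (p - j) = l then ((p.choose j / p : ℕ) : A) else 0 := by
    intro j _
    rw [map_mul, map_mul, map_pow, map_pow, MvPolynomial.aeval_C, MvPolynomial.aeval_X, MvPolynomial.aeval_X,
      MvPolynomial.algebraMap_eq, mul_assoc]
    simp only [Matrix.cons_val_zero, Matrix.cons_val_one, ← pow_mul]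
    rw [X_pow_mul_X_pow, MvPolynomial.coeff_C_mul, MvPolynomial.coeff_monomial]
    simp only [e2_inj, mul_ite, mul_one, mul_zero]
  rw [Sk, map_sum, MvPolynomial.coeff_sum, Finset.sum_congr rfl hterm]
  by_cases h : i + l = p ^ (k + 1) ∧ 0 < i ∧ 0 < l
  · rw [if_pos h, sCoef]
    obtain ⟨hs, hi, hl⟩ := h
    split_ifs with hd
    · obtain ⟨j, rfl⟩ := hd
      have hj0 : 0 < j := Nat.pos_of_mul_pos_left hi
      have hjp : j < p := by
        refine Nat.lt_of_mul_lt_mul_left (a := p ^ k) ?_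
        rw [← pow_succ]; omega
      rw [Finset.sum_eq_single j, if_pos, Nat.mul_div_cancel_left _ hq]
      · refine ⟨rfl, ?_⟩
        rw [Nat.mul_sub, ← pow_succ]; omega
      · intro b _ hb
        rw [if_neg]
        exact fun h => hb (Nat.eq_of_mul_eq_mul_left hq h.1)
      · exact fun h => absurd (Finset.mem_Ioo.2 ⟨hj0, hjp⟩) h
    · exact Finset.sum_eq_zero fun b _ => if_neg fun h => hd ⟨b, h.1.symm⟩
  · rw [if_neg h]
    refine Finset.sum_eq_zero fun b hb => if_neg fun hb' => h ?_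
    obtain ⟨hb0, hbp⟩ := Finset.mem_Ioo.1 hb
    refine ⟨?_, ?_, ?_⟩
    · rw [← hb'.1, ← hb'.2, ← Nat.mul_add, Nat.add_sub_cancel' hbp.le, pow_succ]
    · rw [← hb'.1]; exact Nat.mul_pos hq hb0
    · rw [← hb'.2]; exact Nat.mul_pos hq (by omega)

theorem slice_Sk (k : ℕ) {n i : ℕ} (h1 : 0 < i) (h2 : i < n) :
    slice (Sk (A := A) p k) n i = if n = p ^ (k + 1) then sCoef p k i else 0 := by
  rw [slice, coeff_Sk]
  split_ifs <;> first | rfl | omega

theorem slice_form (G : Polynomial A) (N : ℕ) (r : ℕ → A) {n i : ℕ} (h1 : 0 < i) (h2 : i < n) :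
    slice (bd G + ∑ k ∈ range N, MvPolynomial.C (r k) * Sk p k) n i =
      (n.choose i : A) * G.coeff n + ∑ k ∈ range N, if n = p ^ (k + 1) then r k * sCoef p k i else 0 := by
  rw [slice, MvPolynomial.coeff_add, MvPolynomial.coeff_sum]
  refine congrArg₂ _ (slice_bd G h1 h2) (Finset.sum_congr rfl fun k _ => ?_)
  rw [MvPolynomial.coeff_C_mul, show (Sk (A := A) p k).coeff (e2 i (n - i)) = slice (Sk p k) n i from rfl,
    slice_Sk p k h1 h2, mul_ite, mul_zero]

theorem coeff_form_edge (G : Polynomial A) (N : ℕ) (r : ℕ → A) {i l : ℕ} (h : i = 0 ∨ l = 0) :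
    (bd G + ∑ k ∈ range N, MvPolynomial.C (r k) * Sk p k).coeff (e2 i l) =
      if i = 0 ∧ l = 0 then -G.coeff 0 else 0 := by
  rw [MvPolynomial.coeff_add, MvPolynomial.coeff_sum, Finset.sum_eq_zero (fun k _ => by
    rw [MvPolynomial.coeff_C_mul, coeff_Sk, if_neg (by omega), mul_zero]), add_zero, coeff_bd]
  rcases h with rfl | rfl <;> split_ifs <;> simp_all

theorem isCocycle_form (G : Polynomial A) (N : ℕ) (r : ℕ → A) :
    IsCocycle (bd G + ∑ k ∈ range N, MvPolynomial.C (r k) * Sk p k) := by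
  rw [isCocycle_iff]
  refine ⟨fun n hn => ⟨?_, ?_⟩, fun n => ?_⟩
  · rw [coeff_form_edge p G N r (Or.inr rfl), if_neg (by omega)]
  · rw [coeff_form_edge p G N r (Or.inl rfl), if_neg (by omega)]
  · refine Coc.congr ?_ fun i h1 h2 => (slice_form p G N r h1 h2).symm
    refine ⟨fun i h1 h2 => ?_, fun a b ha hb hab => ?_⟩
    · dsimp only; rw [Nat.choose_symm h2.le]
      congr 1
      refine Finset.sum_congr rfl fun k _ => ?_
      split_ifs with h
      · subst h; rw [(coc_sCoef (A := A) p k).1 i h1 h2]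
      · rfl
    · dsimp only; rw [mul_add, mul_add, ← mul_assoc, ← mul_assoc, (coc_choose (A := A) n).2 a b ha hb hab,
        Finset.mul_sum, Finset.mul_sum]
      congr 1
      refine Finset.sum_congr rfl fun k _ => ?_
      split_ifs with h
      · subst h; rw [mul_left_comm, (coc_sCoef (A := A) p k).2 a b ha hb hab, mul_left_comm]
      · rw [mul_zero, mul_zero]

/-- Lazard: a symmetric cocycle is a coboundary plus a combination of the `S_k`. -/
theorem exists_decomp {F : MvPolynomial (Fin 2) A} (hF : IsCocycle F) (J : Ideal A)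
    (hJ : ∀ d, F.coeff d ∈ J) :
    ∃ (G : Polynomial A) (N : ℕ) (r : ℕ → A), (∀ n, G.coeff n ∈ J) ∧ (∀ k, r k ∈ J) ∧
      F = bd G + ∑ k ∈ range N, MvPolynomial.C (r k) * Sk p k := by
  classical
  have hp : p.Prime := Fact.out
  obtain ⟨hedge, hcoc⟩ := (isCocycle_iff F).1 hF
  let g : ℕ → A := fun n => if n = 0 then -F.coeff (e2 0 0) else
    if n = p ^ Nat.log p n then 0 else
      Ring.inverse (n.choose (p ^ Nat.log p n) : A) * slice F n (p ^ Nat.log p n)
  set D := F.totalDegree + 1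
  have hbig : ∀ {n i : ℕ}, D ≤ n → i ≤ n → slice F n i = 0 := by
    intro n i hn hi
    refine MvPolynomial.coeff_eq_zero_of_totalDegree_lt ?_
    have : ∀ x ∉ (e2 i (n - i)).support, (e2 i (n - i)) x = 0 := fun x hx => Finsupp.notMem_support_iff.1 hx
    rw [Finset.sum_subset (Finset.subset_univ _) (fun x _ hx => this x hx), Fin.sum_univ_two, e2_zero, e2_one]
    omega
  let G : Polynomial A := ∑ n ∈ range D, Polynomial.monomial n (g n)
  have hG : ∀ n, G.coeff n = if n < D then g n else 0 := fun n => by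
    simp only [G, Polynomial.finsetSum_coeff, Polynomial.coeff_monomial, Finset.sum_ite_eq', Finset.mem_range]
  let r : ℕ → A := fun k => slice F (p ^ (k + 1)) (p ^ k)
  refine ⟨G, D, r, fun n => ?_, fun k => hJ _, ?_⟩
  · rw [hG]
    dsimp only [g]
    split_ifs
    · exact J.neg_mem (hJ _)
    · exact J.zero_mem
    · exact J.mul_mem_left _ (hJ _)
    · exact J.zero_mem
  refine MvPolynomial.ext _ _ fun d => ?_
  rw [eq_e2 d]
  generalize d 0 = i, d 1 = l
  by_cases he : i = 0 ∨ l = 0
  · rw [coeff_form_edge p G D r he]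
    rcases he with rfl | rfl
    · rcases Nat.eq_zero_or_pos l with rfl | hl
      · simp [hG, g, D]
      · rw [if_neg (by omega), (hedge l hl).2]
    · rcases Nat.eq_zero_or_pos i with rfl | hi
      · simp [hG, g, D]
      · rw [if_neg (by omega), (hedge i hi).1]
  obtain ⟨n, rfl⟩ : ∃ n, l = n - i := ⟨i + l, by omega⟩
  have hi : 0 < i := by omega
  have hin : i < n := by omega
  set W := bd G + ∑ k ∈ range D, MvPolynomial.C (r k) * Sk p k
  show slice F n i = slice W n i
  refine sub_eq_zero.1 ((Coc.sub (hcoc n) (((isCocycle_iff W).1 (isCocycle_form p G D r)).2 n)).eq_zero p ?_ i hi hin)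
  have hn0 : n ≠ 0 := by omega
  have htn : p ^ Nat.log p n ≤ n := Nat.pow_log_le_self p hn0
  have htop := Nat.lt_pow_succ_log_self hp.one_lt n
  rw [Pi.sub_apply, sub_eq_zero]
  by_cases hpow : n = p ^ Nat.log p n
  · obtain ⟨k, hk⟩ : ∃ k, Nat.log p n = k + 1 := ⟨Nat.log p n - 1, by
      rcases Nat.eq_zero_or_pos (Nat.log p n) with h | h
      · rw [h, pow_zero] at hpow; omega
      · omega⟩
    have hnk : n = p ^ (k + 1) := hk ▸ hpow
    have hlt : p ^ k < n := hnk ▸ Nat.pow_lt_pow_right hp.one_lt (Nat.lt_succ_self k)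
    rw [normIdx, if_pos hpow, show Nat.log p n - 1 = k by omega, slice_form p G D r (pow_pos hp.pos k) hlt,
      hG, show g n = 0 by simp only [g, if_neg hn0, if_pos hpow]]
    simp only [ite_self, mul_zero, zero_add]
    rw [Finset.sum_eq_single k]
    · rw [if_pos hnk, sCoef, if_pos dvd_rfl, Nat.div_self (pow_pos hp.pos k), Nat.choose_one_right,
        Nat.div_self hp.pos, Nat.cast_one, mul_one]
      simp only [r]
      rw [← hnk]
    · intro b _ hb
      rw [if_neg fun h => hb (by have := Nat.pow_right_injective hp.two_le (hnk.symm.trans h); omega)]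
    · intro h
      rw [if_pos hnk, show r k = 0 from hbig (by
        have := Nat.lt_pow_self (n := k + 1) hp.one_lt
        simp only [Finset.mem_range, not_lt] at h
        omega) (Nat.pow_le_pow_right hp.pos (Nat.le_succ k)), zero_mul]
  · have hlt : p ^ Nat.log p n < n := lt_of_le_of_ne htn (Ne.symm hpow)
    rw [normIdx, if_neg hpow, slice_form p G D r (pow_pos hp.pos _) hlt, hG,
      Finset.sum_eq_zero (fun b _ => if_neg fun h => hpow (by rw [h, Nat.log_pow hp.one_lt])), add_zero]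
    split_ifs with hD
    · simp only [g, if_neg hn0, if_neg hpow]
      rw [← mul_assoc, Ring.mul_inverse_cancel, one_mul]
      rw [cast_choose_pow p]
      exact isUnit_cast_of_lt p (Nat.div_pos htn (pow_pos hp.pos _))
        (Nat.div_lt_of_lt_mul (by rwa [← pow_succ]))
    · rw [mul_zero, hbig (not_lt.1 hD) htn]

end CharP

end Groth.Agent.H23Ga
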