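import Mathlib
import Groth.Agent.H23Ga.Decomp

/-!
Multiplicative symmetric cocycles split when Frobenius is surjective.
-/

set_option autoImplicit false

universe u

open Finset

namespace Groth.Agent.H23Ga

variable {R : Type u} [CommRing R]

/-- Polynomials with all coefficients in `J`. -/
noncomputable abbrev KI {σ : Type*} (J : Ideal R) : Ideal (MvPolynomial σ R) := J.map MvPolynomial.C

theorem mem_KI_iff {σ : Type*} {J : Ideal R} {T : MvPolynomial σ R} : T ∈ KI J ↔ ∀ d, T.coeff d ∈ J :=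
  MvPolynomial.mem_map_C_iff

theorem aeval_mem_KI {σ τ : Type*} {J : Ideal R} (v : σ → MvPolynomial τ R) {T : MvPolynomial σ R}
    (hT : T ∈ KI J) : MvPolynomial.aeval v T ∈ KI (σ := τ) J := by
  have h : KI (σ := σ) J ≤ (KI (σ := τ) J).comap (MvPolynomial.aeval v).toRingHom := by
    rw [KI, Ideal.map_le_iff_le_comap]
    intro c hc
    simp only [Ideal.mem_comap, AlgHom.toRingHom_eq_coe, RingHom.coe_coe, MvPolynomial.aeval_C,
      MvPolynomial.algebraMap_eq]
    exact Ideal.mem_map_of_mem _ hc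
  exact h hT

theorem mul_mem_KI_succ {σ : Type*} {I : Ideal R} {m : ℕ} (hm : 1 ≤ m) {S T : MvPolynomial σ R}
    (hS : S ∈ KI (I ^ m)) (hT : T ∈ KI (I ^ m)) : S * T ∈ KI (I ^ (m + 1)) := by
  have h := Ideal.mul_mem_mul hS hT
  rw [← Ideal.map_mul, ← pow_add] at h
  exact Ideal.map_mono (Ideal.pow_le_pow_right (by omega)) h

theorem map_aeval' {B : Type*} [CommRing B] (π : R →+* B) {σ τ : Type*} (v : σ → MvPolynomial τ R)
    (T : MvPolynomial σ R) :
    MvPolynomial.map π (MvPolynomial.aeval v T) =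
      MvPolynomial.aeval (fun i => MvPolynomial.map π (v i)) (MvPolynomial.map π T) := by
  induction T using MvPolynomial.induction_on with
  | C c => simp
  | add a b ha hb => rw [map_add, map_add, map_add, map_add, ha, hb]
  | mul_X a i ha => rw [map_mul, map_mul, map_mul, map_mul, MvPolynomial.aeval_X, MvPolynomial.map_X, MvPolynomial.aeval_X, ha]

/-- `f ↦ f(X) f(Y) / f(X + Y)`. -/
noncomputable def del (R : Type u) [CommRing R] : (Polynomial R)ˣ →* (MvPolynomial (Fin 2) R)ˣ :=
  Units.map (Polynomial.aeval (MvPolynomial.X 0 : MvPolynomial (Fin 2) R)).toMonoidHom *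
    Units.map (Polynomial.aeval (MvPolynomial.X 1 : MvPolynomial (Fin 2) R)).toMonoidHom *
      (Units.map (Polynomial.aeval (MvPolynomial.X 0 + MvPolynomial.X 1 : MvPolynomial (Fin 2) R)).toMonoidHom)⁻¹

theorem del_mul (f : (Polynomial R)ˣ) :
    (del R f : MvPolynomial (Fin 2) R) *
        Polynomial.aeval (MvPolynomial.X 0 + MvPolynomial.X 1 : MvPolynomial (Fin 2) R) (f : Polynomial R) =
      Polynomial.aeval (MvPolynomial.X 0 : MvPolynomial (Fin 2) R) (f : Polynomial R) *
        Polynomial.aeval (MvPolynomial.X 1 : MvPolynomial (Fin 2) R) (f : Polynomial R) := by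
  have h : del R f * Units.map (Polynomial.aeval (MvPolynomial.X 0 + MvPolynomial.X 1 : MvPolynomial (Fin 2) R)).toMonoidHom f =
      Units.map (Polynomial.aeval (MvPolynomial.X 0 : MvPolynomial (Fin 2) R)).toMonoidHom f *
        Units.map (Polynomial.aeval (MvPolynomial.X 1 : MvPolynomial (Fin 2) R)).toMonoidHom f := by
    simp [del, mul_assoc]
  exact congrArg Units.val h

/-- Multiplicative symmetric cocycles. -/
def IsMulCoc (h : MvPolynomial (Fin 2) R) : Prop :=
  MvPolynomial.aeval ![(MvPolynomial.X 1 : MvPolynomial (Fin 2) R), MvPolynomial.X 0] h = h ∧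
    MvPolynomial.aeval ![(MvPolynomial.X 1 : MvPolynomial (Fin 3) R), MvPolynomial.X 2] h *
        MvPolynomial.aeval ![MvPolynomial.X 0, MvPolynomial.X 1 + MvPolynomial.X 2] h =
      MvPolynomial.aeval ![MvPolynomial.X 0 + MvPolynomial.X 1, MvPolynomial.X 2] h *
        MvPolynomial.aeval ![MvPolynomial.X 0, MvPolynomial.X 1] h

theorem IsMulCoc.mul {h h' : MvPolynomial (Fin 2) R} (a : IsMulCoc h) (b : IsMulCoc h') : IsMulCoc (h * h') := by
  refine ⟨by rw [map_mul, a.1, b.1], ?_⟩
  simp only [map_mul]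
  rw [mul_mul_mul_comm, a.2, b.2, mul_mul_mul_comm]

theorem isMulCoc_del (f : (Polynomial R)ˣ) : IsMulCoc (del R f : MvPolynomial (Fin 2) R) := by
  have hD := del_mul f
  set D : MvPolynomial (Fin 2) R := (del R f : MvPolynomial (Fin 2) R)
  have hu : ∀ {τ : Type} (t : MvPolynomial τ R), IsUnit (Polynomial.aeval t (f : Polynomial R)) :=
    fun t => f.isUnit.map (Polynomial.aeval t)
  have hsub : ∀ {τ : Type} (v : Fin 2 → MvPolynomial τ R),
      MvPolynomial.aeval v D * Polynomial.aeval (v 0 + v 1) (f : Polynomial R) =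
        Polynomial.aeval (v 0) (f : Polynomial R) * Polynomial.aeval (v 1) (f : Polynomial R) := by
    intro τ v
    have h := congrArg (MvPolynomial.aeval v) hD
    rwa [map_mul, map_mul, ← Polynomial.aeval_algHom_apply, ← Polynomial.aeval_algHom_apply,
      ← Polynomial.aeval_algHom_apply, map_add, MvPolynomial.aeval_X, MvPolynomial.aeval_X] at h
  constructor
  · apply (hu (MvPolynomial.X 0 + MvPolynomial.X 1 : MvPolynomial (Fin 2) R)).mul_right_cancel
    have h := hsub ![(MvPolynomial.X 1 : MvPolynomial (Fin 2) R), MvPolynomial.X 0]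
    simp only [Matrix.cons_val_zero, Matrix.cons_val_one] at h
    rw [add_comm (MvPolynomial.X 1)] at h
    rw [h, hD, mul_comm]
  · have h1 := hsub ![(MvPolynomial.X 1 : MvPolynomial (Fin 3) R), MvPolynomial.X 2]
    have h2 := hsub ![(MvPolynomial.X 0 : MvPolynomial (Fin 3) R), MvPolynomial.X 1 + MvPolynomial.X 2]
    have h3 := hsub ![(MvPolynomial.X 0 + MvPolynomial.X 1 : MvPolynomial (Fin 3) R), MvPolynomial.X 2]
    have h4 := hsub ![(MvPolynomial.X 0 : MvPolynomial (Fin 3) R), MvPolynomial.X 1]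
    simp only [Matrix.cons_val_zero, Matrix.cons_val_one, ← add_assoc] at h1 h2 h3 h4
    apply ((hu (MvPolynomial.X 1 + MvPolynomial.X 2 : MvPolynomial (Fin 3) R)).mul
      ((hu (MvPolynomial.X 0 + MvPolynomial.X 1 + MvPolynomial.X 2 : MvPolynomial (Fin 3) R)).mul
        (hu (MvPolynomial.X 0 + MvPolynomial.X 1 : MvPolynomial (Fin 3) R)))).mul_right_cancel
    generalize MvPolynomial.aeval ![(MvPolynomial.X 1 : MvPolynomial (Fin 3) R), MvPolynomial.X 2] D = d1 at *
    generalize MvPolynomial.aeval ![(MvPolynomial.X 0 : MvPolynomial (Fin 3) R), MvPolynomial.X 1 + MvPolynomial.X 2] D = d2 at *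
    generalize MvPolynomial.aeval ![(MvPolynomial.X 0 + MvPolynomial.X 1 : MvPolynomial (Fin 3) R), MvPolynomial.X 2] D = d3 at *
    generalize MvPolynomial.aeval ![(MvPolynomial.X 0 : MvPolynomial (Fin 3) R), MvPolynomial.X 1] D = d4 at *
    generalize Polynomial.aeval (MvPolynomial.X 0 : MvPolynomial (Fin 3) R) (f : Polynomial R) = fx at *
    generalize Polynomial.aeval (MvPolynomial.X 1 : MvPolynomial (Fin 3) R) (f : Polynomial R) = fy at *
    generalize Polynomial.aeval (MvPolynomial.X 2 : MvPolynomial (Fin 3) R) (f : Polynomial R) = fz at *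
    generalize Polynomial.aeval (MvPolynomial.X 1 + MvPolynomial.X 2 : MvPolynomial (Fin 3) R) (f : Polynomial R) = fyz at *
    generalize Polynomial.aeval (MvPolynomial.X 0 + MvPolynomial.X 1 : MvPolynomial (Fin 3) R) (f : Polynomial R) = fxy at *
    generalize Polynomial.aeval (MvPolynomial.X 0 + MvPolynomial.X 1 + MvPolynomial.X 2 : MvPolynomial (Fin 3) R) (f : Polynomial R) = fxyz at *
    calc d1 * d2 * (fyz * (fxyz * fxy)) = (d1 * fyz) * (d2 * fxyz) * fxy := by ring
      _ = (fy * fz) * (fx * fyz) * fxy := by rw [h1, h2]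
      _ = (fxy * fz) * (fx * fy) * fyz := by ring
      _ = (d3 * fxyz) * (d4 * fxy) * fyz := by rw [h3, h4]
      _ = d3 * d4 * (fyz * (fxyz * fxy)) := by ring

theorem prod_sub_one_mem {σ : Type*} {I : Ideal R} {m : ℕ} (hm : 1 ≤ m) {ι : Type*} (s : Finset ι)
    (x : ι → MvPolynomial σ R) (hx : ∀ k ∈ s, x k - 1 ∈ KI (I ^ m)) :
    (∏ k ∈ s, x k) - 1 ∈ KI (I ^ m) ∧
      (∏ k ∈ s, x k) - 1 - ∑ k ∈ s, (x k - 1) ∈ KI (I ^ (m + 1)) := by
  classical
  induction s using Finset.induction_on with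
  | empty => simp
  | @insert a s ha ih =>
    obtain ⟨h1, h2⟩ := ih fun k hk => hx k (Finset.mem_insert_of_mem hk)
    have ha' := hx a (Finset.mem_insert_self a s)
    rw [Finset.prod_insert ha, Finset.sum_insert ha]
    have e1 : x a * ∏ k ∈ s, x k - 1 =
        (x a - 1) * (∏ k ∈ s, x k - 1) + (x a - 1) + (∏ k ∈ s, x k - 1) := by ring
    refine ⟨?_, ?_⟩
    · rw [e1]
      exact add_mem (add_mem (Ideal.mul_mem_left _ _ h1) ha') h1
    · rw [e1, show (x a - 1) * (∏ k ∈ s, x k - 1) + (x a - 1) + (∏ k ∈ s, x k - 1) - ((x a - 1) + ∑ k ∈ s, (x k - 1)) =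
        (x a - 1) * (∏ k ∈ s, x k - 1) + ((∏ k ∈ s, x k - 1) - ∑ k ∈ s, (x k - 1)) by ring]
      exact add_mem (mul_mem_KI_succ hm ha' h1) h2

/-- `X ↦ s X ^ q`. -/
noncomputable def scale (s : R) (q : ℕ) : MvPolynomial (Fin 2) R →ₐ[R] MvPolynomial (Fin 2) R :=
  MvPolynomial.aeval ![MvPolynomial.C s * MvPolynomial.X 0 ^ q, MvPolynomial.C s * MvPolynomial.X 1 ^ q]

theorem coeff_scale (s : R) {q : ℕ} (hq : 0 < q) (T : MvPolynomial (Fin 2) R) (i l : ℕ) :
    (scale s q T).coeff (e2 i l) =
      if q ∣ i ∧ q ∣ l then s ^ (i / q + l / q) * T.coeff (e2 (i / q) (l / q)) else 0 := by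
  induction T using MvPolynomial.induction_on' with
  | add F G hF hG => rw [map_add, MvPolynomial.coeff_add, hF, hG, MvPolynomial.coeff_add]; split_ifs <;> ring
  | monomial d c =>
    rw [scale, eq_e2 d, MvPolynomial.aeval_monomial, Finsupp.prod_fintype _ _ (fun _ => pow_zero _),
      Fin.prod_univ_two, MvPolynomial.algebraMap_eq, MvPolynomial.coeff_monomial]
    simp only [Matrix.cons_val_zero, Matrix.cons_val_one, e2_zero, e2_one, mul_pow, ← pow_mul]
    rw [mul_mul_mul_comm, ← map_pow, ← map_pow, ← map_mul, X_pow_mul_X_pow, ← mul_assoc, ← map_mul,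
      MvPolynomial.coeff_C_mul, MvPolynomial.coeff_monomial]
    simp only [e2_inj]
    by_cases hd : q * d 0 = i ∧ q * d 1 = l
    · obtain ⟨rfl, rfl⟩ := hd
      rw [if_pos ⟨rfl, rfl⟩, if_pos ⟨dvd_mul_right _ _, dvd_mul_right _ _⟩, Nat.mul_div_cancel_left _ hq,
        Nat.mul_div_cancel_left _ hq, if_pos ⟨rfl, rfl⟩]
      ring
    · rw [if_neg hd, mul_zero]
      split_ifs with h1 h2
      · exact absurd ⟨h2.1 ▸ Nat.mul_div_cancel' h1.1, h2.2 ▸ Nat.mul_div_cancel' h1.2⟩ hd
      · rw [mul_zero]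
      · rfl

section CharP

variable (p : ℕ) [Fact p.Prime] [CharP R p]

/-- The exponential polynomial truncated at `p`. -/
noncomputable def E0 : Polynomial R := expT p 1 1

theorem coeff_E0 (i : ℕ) :
    (E0 (R := R) p).coeff i = if i < p then Ring.inverse (i.factorial : R) else 0 := by
  simp [E0, expT, Finset.mem_range]

/-- `E0(X) E0(Y) - E0(X + Y)`. -/
noncomputable def defect : MvPolynomial (Fin 2) R :=
  Polynomial.aeval (MvPolynomial.X 0 : MvPolynomial (Fin 2) R) (E0 (R := R) p) *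
      Polynomial.aeval (MvPolynomial.X 1 : MvPolynomial (Fin 2) R) (E0 (R := R) p) -
    Polynomial.aeval (MvPolynomial.X 0 + MvPolynomial.X 1 : MvPolynomial (Fin 2) R) (E0 (R := R) p)

theorem inverse_factorial_mul {i j : ℕ} (h : i + j < p) :
    Ring.inverse (i.factorial : R) * Ring.inverse (j.factorial : R) =
      ((i + j).choose i : R) * Ring.inverse ((i + j).factorial : R) := by
  apply (isUnit_factorial (A := R) p h).mul_right_cancel
  rw [mul_assoc (((i + j).choose i : R)), Ring.inverse_mul_cancel _ (isUnit_factorial p h), mul_one,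
    ← Nat.choose_mul_factorial_mul_factorial (show i ≤ i + j by omega), Nat.add_sub_cancel_left]
  push_cast
  calc Ring.inverse (i.factorial : R) * Ring.inverse (j.factorial : R) *
        (((i + j).choose i : R) * (i.factorial : R) * (j.factorial : R))
      = ((i + j).choose i : R) * (Ring.inverse (i.factorial : R) * (i.factorial : R)) *
          (Ring.inverse (j.factorial : R) * (j.factorial : R)) := by ring
    _ = _ := by rw [Ring.inverse_mul_cancel _ (isUnit_factorial p (by omega)),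
        Ring.inverse_mul_cancel _ (isUnit_factorial p (by omega)), mul_one, mul_one]

theorem coeff_defect_of_lt {i j : ℕ} (h : i + j < p) : (defect (R := R) p).coeff (e2 i j) = 0 := by
  rw [defect, MvPolynomial.coeff_sub, coeff_aeval_mul, coeff_aeval_add, coeff_E0, coeff_E0, coeff_E0,
    if_pos (by omega), if_pos (by omega), if_pos h, inverse_factorial_mul p h, sub_self]

theorem coeff_defect_one : (defect (R := R) p).coeff (e2 1 (p - 1)) = -1 := by
  have hp : p.Prime := Fact.out
  have h2 := hp.two_le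
  rw [defect, MvPolynomial.coeff_sub, coeff_aeval_mul, coeff_aeval_add, coeff_E0, coeff_E0, coeff_E0,
    if_pos (by omega), if_pos (by omega), if_neg (by omega), mul_zero, sub_zero, Nat.factorial_one,
    Nat.cast_one, Ring.inverse_one, one_mul]
  have hw : ((p - 1).factorial : R) = -1 := by
    have := congrArg (ZMod.castHom (dvd_refl p) R) (ZMod.wilsons_lemma p)
    rw [map_natCast, map_neg, map_one] at this
    exact this
  rw [hw, show (-1 : R) = ((-1 : Rˣ) : R) by simp, Ring.inverse_unit, show ((-1 : Rˣ)⁻¹) = -1 by simp]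

/-- `E0(-(X + Y))`. -/
noncomputable def D' : MvPolynomial (Fin 2) R :=
  Polynomial.aeval (-(MvPolynomial.X 0 + MvPolynomial.X 1) : MvPolynomial (Fin 2) R) (E0 (R := R) p)

theorem coeff_zero_D' : (D' (R := R) p).coeff (e2 0 0) = 1 := by
  rw [show e2 0 0 = 0 by simp [e2], ← MvPolynomial.constantCoeff_eq]
  have h : MvPolynomial.constantCoeff (D' (R := R) p) = (E0 (R := R) p).eval 0 := by
    rw [D', Polynomial.aeval_def, Polynomial.hom_eval₂, MvPolynomial.algebraMap_eq,
      MvPolynomial.constantCoeff_comp_C, map_neg, map_add, MvPolynomial.constantCoeff_X,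
      MvPolynomial.constantCoeff_X, add_zero, neg_zero]
    rfl
  rw [h, E0]
  exact expT_eval_zero _ one_pos

variable {p} {I : Ideal R} {m : ℕ} {s : R}

theorem scale_defect_mem (hs : s ^ p ∈ I ^ m) {q : ℕ} (hq : 0 < q) : scale s q (defect p) ∈ KI (I ^ m) := by
  rw [mem_KI_iff]
  intro d
  rw [eq_e2 d, coeff_scale s hq]
  split_ifs with h
  · rcases lt_or_ge (d 0 / q + d 1 / q) p with hlt | hge
    · rw [coeff_defect_of_lt p hlt, mul_zero]; exact zero_mem _
    · exact Ideal.mul_mem_right _ _ (by rw [← Nat.add_sub_cancel' hge, pow_add]; exact Ideal.mul_mem_right _ _ hs)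
  · exact zero_mem _

theorem isUnit_expT {q : ℕ} (hq : 0 < q) (hs : IsNilpotent s) : IsUnit (expT p s q) := by
  rw [Polynomial.isUnit_iff_coeff_isUnit_isNilpotent]
  refine ⟨?_, fun i hi => ?_⟩
  · rw [Polynomial.coeff_zero_eq_eval_zero, expT_eval_zero s hq]
    exact isUnit_one
  · simp only [expT, Polynomial.finsetSum_coeff, Polynomial.coeff_C_mul, Polynomial.coeff_X_pow]
    refine isNilpotent_sum fun j _ => ?_
    split_ifs with h
    · rw [mul_one]
      exact Commute.isNilpotent_mul_left (Commute.all _ _)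
        (hs.pow_of_pos (by rintro rfl; rw [zero_mul] at h; exact hi h))
    · rw [mul_zero]; exact IsNilpotent.zero

/-- The cocycle of `exp_p (s X ^ q)` modulo `I ^ (m + 1)`. -/
theorem del_expT_sub (hm : 1 ≤ m) (hs : s ^ p ∈ I ^ m) (hnil : IsNilpotent s) {q n : ℕ} (hq : q = p ^ n) :
    (del R (isUnit_expT (p := p) (s := s) (q := q) (hq ▸ pow_pos (Fact.out : p.Prime).pos n) hnil).unit :
        MvPolynomial (Fin 2) R) - 1 ∈ KI (I ^ m) ∧
    (del R (isUnit_expT (p := p) (s := s) (q := q) (hq ▸ pow_pos (Fact.out : p.Prime).pos n) hnil).unit :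
        MvPolynomial (Fin 2) R) - 1 - scale s q (defect p * D' p) ∈ KI (I ^ (m + 1)) := by
  have hq0 : 0 < q := hq ▸ pow_pos (Fact.out : p.Prime).pos n
  set f := (isUnit_expT (p := p) (s := s) (q := q) hq0 hnil).unit with hf
  have hD := del_mul f
  set δ : MvPolynomial (Fin 2) R := (del R f : MvPolynomial (Fin 2) R)
  have hgen : ∀ t : MvPolynomial (Fin 2) R, Polynomial.aeval t (expT p s q) =
      Polynomial.aeval (MvPolynomial.C s * t ^ q) (E0 (R := R) p) := fun t => by
    simp only [E0, expT, map_sum, map_mul, Polynomial.aeval_C, map_pow, Polynomial.aeval_X, one_pow,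
      mul_one, MvPolynomial.algebraMap_eq, mul_pow, mul_assoc, ← pow_mul, mul_comm q]
  haveI : CharP (MvPolynomial (Fin 2) R) p := inferInstance
  have hsum : (MvPolynomial.C s * (MvPolynomial.X 0 + MvPolynomial.X 1) ^ q : MvPolynomial (Fin 2) R) =
      scale s q (MvPolynomial.X 0 + MvPolynomial.X 1) := by
    subst hq
    rw [add_pow_char_pow, mul_add, map_add]
    simp [scale]
  have hsX : ∀ i : Fin 2, (MvPolynomial.C s * MvPolynomial.X i ^ q : MvPolynomial (Fin 2) R) = scale s q (MvPolynomial.X i) := by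
    intro i; fin_cases i <;> simp [scale]
  rw [show (f : Polynomial R) = expT p s q from IsUnit.unit_spec _, hgen, hgen, hgen, hsum, hsX 0, hsX 1,
    Polynomial.aeval_algHom_apply, Polynomial.aeval_algHom_apply, Polynomial.aeval_algHom_apply] at hD
  set a := scale s q (Polynomial.aeval (MvPolynomial.X 0 + MvPolynomial.X 1 : MvPolynomial (Fin 2) R) (E0 (R := R) p))
  have hP : (δ - 1) * a = scale s q (defect p) := by
    rw [defect, map_sub, map_mul, ← hD]; ring
  -- `a` is inverse to `scale (D')` modulo the ideal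
  have hW : a * scale s q (D' p) - 1 ∈ KI (I ^ m) := by
    rw [mem_KI_iff]
    intro d
    have e : a * scale s q (D' p) - 1 = scale s q
        (Polynomial.aeval (MvPolynomial.X 0 + MvPolynomial.X 1 : MvPolynomial (Fin 2) R) (E0 (R := R) p) * D' p - 1) := by
      rw [map_sub, map_mul, map_one]
    rw [e, eq_e2 d, coeff_scale s hq0]
    split_ifs with h
    · rcases lt_or_ge (d 0 / q + d 1 / q) p with hlt | hge
      · convert zero_mem (I ^ m)
        convert mul_zero (s ^ (d 0 / q + d 1 / q))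
        exact coeff_lt_eq_zero hlt
      · exact Ideal.mul_mem_right _ _ (by rw [← Nat.add_sub_cancel' hge, pow_add]; exact Ideal.mul_mem_right _ _ hs)
    · exact zero_mem _
  have hu : IsUnit a := by
    have h := (f.isUnit).map (Polynomial.aeval (MvPolynomial.X 0 + MvPolynomial.X 1 : MvPolynomial (Fin 2) R))
    rwa [show (f : Polynomial R) = expT p s q from IsUnit.unit_spec _, hgen, hsum,
      Polynomial.aeval_algHom_apply] at h
  have h1 : δ - 1 ∈ KI (I ^ m) := by
    obtain ⟨b, hb⟩ := hu.exists_right_inv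
    rw [show δ - 1 = (δ - 1) * a * b by rw [mul_assoc, hb, mul_one], hP]
    exact Ideal.mul_mem_right _ _ (scale_defect_mem hs hq0)
  refine ⟨h1, ?_⟩
  rw [map_mul, ← hP, show δ - 1 - (δ - 1) * a * scale s q (D' p) = -((δ - 1) * (a * scale s q (D' p) - 1)) by ring]
  exact neg_mem (mul_mem_KI_succ hm h1 hW)
where
  coeff_lt_eq_zero {i j : ℕ} (h : i + j < p) :
      (Polynomial.aeval (MvPolynomial.X 0 + MvPolynomial.X 1 : MvPolynomial (Fin 2) R) (E0 (R := R) p) * D' p - 1).coeff
        (e2 i j) = 0 := by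
    have e : Polynomial.aeval (MvPolynomial.X 0 + MvPolynomial.X 1 : MvPolynomial (Fin 2) R) (E0 (R := R) p) * D' p - 1 =
        MvPolynomial.aeval ![(MvPolynomial.X 0 + MvPolynomial.X 1 : MvPolynomial (Fin 2) R),
          -(MvPolynomial.X 0 + MvPolynomial.X 1)] (defect (R := R) p) := by
      have h0 : Polynomial.aeval (0 : MvPolynomial (Fin 2) R) (E0 (R := R) p) = 1 := by
        rw [← Polynomial.coeff_zero_eq_aeval_zero', coeff_E0, if_pos (Fact.out : p.Prime).pos]
        simp
      rw [defect, map_sub, map_mul, ← Polynomial.aeval_algHom_apply, ← Polynomial.aeval_algHom_apply,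
        ← Polynomial.aeval_algHom_apply, map_add, MvPolynomial.aeval_X, MvPolynomial.aeval_X]
      simp only [Matrix.cons_val_zero, Matrix.cons_val_one, add_neg_cancel, h0, D']
    rw [e, (defect (R := R) p).as_sum, map_sum, MvPolynomial.coeff_sum]
    refine Finset.sum_eq_zero fun d _ => ?_
    rcases lt_or_ge (d 0 + d 1) p with hlt | hge
    · rw [eq_e2 d, coeff_defect_of_lt p hlt, map_zero, map_zero, MvPolynomial.coeff_zero]
    · rw [eq_e2 d, MvPolynomial.aeval_monomial, Finsupp.prod_fintype _ _ (fun _ => pow_zero _),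
        Fin.prod_univ_two, e2_zero, e2_one, MvPolynomial.algebraMap_eq, MvPolynomial.coeff_C_mul]
      simp only [Matrix.cons_val_zero, Matrix.cons_val_one]
      rw [neg_pow, mul_left_comm, ← pow_add, mul_comm, show ((-1 : MvPolynomial (Fin 2) R) ^ d 1) =
        MvPolynomial.C ((-1) ^ d 1) by simp, MvPolynomial.coeff_C_mul,
        MvPolynomial.coeff_add_pow, e2_zero, e2_one, if_neg, Nat.cast_zero, mul_zero, zero_mul]
      rw [Finset.HasAntidiagonal.mem_antidiagonal]
      simp only
      omega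

theorem coeff_defect_mul_D' : (defect (R := R) p * D' p).coeff (e2 1 (p - 1)) = -1 := by
  classical
  have h2 := (Fact.out : p.Prime).two_le
  rw [MvPolynomial.coeff_mul, Finset.sum_eq_single (e2 1 (p - 1), e2 0 0)]
  · rw [coeff_defect_one, coeff_zero_D', mul_one]
  · rintro ⟨a, b⟩ hab hne
    rw [Finset.HasAntidiagonal.mem_antidiagonal] at hab
    dsimp only at hab ⊢
    have h0 := congrArg (fun d : Fin 2 →₀ ℕ => d 0) hab
    have h1 := congrArg (fun d : Fin 2 →₀ ℕ => d 1) hab
    simp only [Finsupp.add_apply, e2_zero, e2_one] at h0 h1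
    rcases lt_or_ge (a 0 + a 1) p with hlt | hge
    · rw [eq_e2 a, coeff_defect_of_lt p hlt, zero_mul]
    · exfalso
      refine hne (Prod.ext ?_ ?_)
      · rw [eq_e2 a, e2_inj]; omega
      · rw [eq_e2 b, e2_inj]; omega
  · intro h
    refine absurd (Finset.HasAntidiagonal.mem_antidiagonal.2 ?_) h
    ext x; fin_cases x <;> simp

end CharP


section Main

variable (p : ℕ) [Fact p.Prime] [CharP R p]

theorem map_eq_zero_iff_mem (J : Ideal R) (T : MvPolynomial (Fin 2) R) :
    MvPolynomial.map (Ideal.Quotient.mk J) T = 0 ↔ T ∈ KI J := by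
  rw [mem_KI_iff, MvPolynomial.ext_iff]
  simp [MvPolynomial.coeff_map, Ideal.Quotient.eq_zero_iff_mem]

theorem map_eq_zero_of_mem {σ : Type*} (J : Ideal R) {T : MvPolynomial σ R} (h : T ∈ KI J) :
    MvPolynomial.map (Ideal.Quotient.mk J) T = 0 := by
  rw [MvPolynomial.ext_iff]
  intro d
  rw [MvPolynomial.coeff_map, MvPolynomial.coeff_zero, Ideal.Quotient.eq_zero_iff_mem]
  exact mem_KI_iff.1 h d

theorem isCocycle_map {h : MvPolynomial (Fin 2) R} (hh : IsMulCoc h) {I : Ideal R} {m : ℕ} (hm : 1 ≤ m)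
    (hH : h - 1 ∈ KI (I ^ m)) : IsCocycle (MvPolynomial.map (Ideal.Quotient.mk (I ^ (m + 1))) (h - 1)) := by
  obtain ⟨hs, hc⟩ := hh
  set π := Ideal.Quotient.mk (I ^ (m + 1))
  have hv : ∀ {n : ℕ} (v : Fin 2 → MvPolynomial (Fin n) R), MvPolynomial.map π (MvPolynomial.aeval v (h - 1)) =
      MvPolynomial.aeval (fun i => MvPolynomial.map π (v i)) (MvPolynomial.map π (h - 1)) := fun v => map_aeval' π v _
  constructor
  · have e := hv ![(MvPolynomial.X 1 : MvPolynomial (Fin 2) R), MvPolynomial.X 0]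
    rw [show (fun i => MvPolynomial.map π (![(MvPolynomial.X 1 : MvPolynomial (Fin 2) R), MvPolynomial.X 0] i)) =
      ![MvPolynomial.X 1, MvPolynomial.X 0] from funext fun i => by fin_cases i <;> simp] at e
    rw [← e, map_sub, map_one, hs]
  · have h1 := hv ![(MvPolynomial.X 1 : MvPolynomial (Fin 3) R), MvPolynomial.X 2]
    have h2 := hv ![(MvPolynomial.X 0 : MvPolynomial (Fin 3) R), MvPolynomial.X 1 + MvPolynomial.X 2]
    have h3 := hv ![(MvPolynomial.X 0 + MvPolynomial.X 1 : MvPolynomial (Fin 3) R), MvPolynomial.X 2]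
    have h4 := hv ![(MvPolynomial.X 0 : MvPolynomial (Fin 3) R), MvPolynomial.X 1]
    rw [show (fun i => MvPolynomial.map π (![(MvPolynomial.X 1 : MvPolynomial (Fin 3) R), MvPolynomial.X 2] i)) =
      ![MvPolynomial.X 1, MvPolynomial.X 2] from funext fun i => by fin_cases i <;> simp] at h1
    rw [show (fun i => MvPolynomial.map π (![(MvPolynomial.X 0 : MvPolynomial (Fin 3) R), MvPolynomial.X 1 + MvPolynomial.X 2] i)) =
      ![MvPolynomial.X 0, MvPolynomial.X 1 + MvPolynomial.X 2] from funext fun i => by fin_cases i <;> simp] at h2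
    rw [show (fun i => MvPolynomial.map π (![(MvPolynomial.X 0 + MvPolynomial.X 1 : MvPolynomial (Fin 3) R), MvPolynomial.X 2] i)) =
      ![MvPolynomial.X 0 + MvPolynomial.X 1, MvPolynomial.X 2] from funext fun i => by fin_cases i <;> simp] at h3
    rw [show (fun i => MvPolynomial.map π (![(MvPolynomial.X 0 : MvPolynomial (Fin 3) R), MvPolynomial.X 1] i)) =
      ![MvPolynomial.X 0, MvPolynomial.X 1] from funext fun i => by fin_cases i <;> simp] at h4
    rw [← h1, ← h2, ← h3, ← h4, ← map_add, ← map_sub, ← map_sub]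
    refine map_eq_zero_of_mem _ ?_
    simp only [map_sub, map_one]
    set a := MvPolynomial.aeval ![(MvPolynomial.X 1 : MvPolynomial (Fin 3) R), MvPolynomial.X 2] h
    set b := MvPolynomial.aeval ![(MvPolynomial.X 0 : MvPolynomial (Fin 3) R), MvPolynomial.X 1 + MvPolynomial.X 2] h
    set c := MvPolynomial.aeval ![(MvPolynomial.X 0 + MvPolynomial.X 1 : MvPolynomial (Fin 3) R), MvPolynomial.X 2] h
    set d := MvPolynomial.aeval ![(MvPolynomial.X 0 : MvPolynomial (Fin 3) R), MvPolynomial.X 1] h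
    rw [show b - 1 + (a - 1) - (c - 1) - (d - 1) = (c - 1) * (d - 1) - (a - 1) * (b - 1) + (a * b - c * d) by ring,
      hc, sub_self, add_zero]
    have hmem : ∀ v : Fin 2 → MvPolynomial (Fin 3) R, MvPolynomial.aeval v h - 1 ∈ KI (I ^ m) := fun v => by
      have := aeval_mem_KI v hH
      rwa [map_sub, map_one] at this
    exact sub_mem (mul_mem_KI_succ hm (hmem _) (hmem _)) (mul_mem_KI_succ hm (hmem _) (hmem _))

theorem del_one_add_sub {I : Ideal R} {m : ℕ} (hm : 1 ≤ m) {G : Polynomial R} (hG : ∀ n, G.coeff n ∈ I ^ m)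
    (g : (Polynomial R)ˣ) (hg : (g : Polynomial R) = 1 + G) :
    (del R g : MvPolynomial (Fin 2) R) - 1 + bd G ∈ KI (I ^ (m + 1)) := by
  have hD := del_mul g
  have hu : IsUnit (Polynomial.aeval (MvPolynomial.X 0 + MvPolynomial.X 1 : MvPolynomial (Fin 2) R) (g : Polynomial R)) :=
    g.isUnit.map _
  rw [hg] at hD hu
  simp only [map_add, map_one] at hD hu
  have hmem : ∀ t : MvPolynomial (Fin 2) R, Polynomial.aeval t G ∈ KI (I ^ m) := fun t => by
    rw [Polynomial.aeval_eq_sum_range]
    exact sum_mem fun i _ => by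
      rw [Algebra.smul_def, MvPolynomial.algebraMap_eq]
      exact Ideal.mul_mem_right _ _ (Ideal.mem_map_of_mem _ (hG i))
  set d : MvPolynomial (Fin 2) R := (del R g : MvPolynomial (Fin 2) R)
  rw [bd]
  set a := Polynomial.aeval (MvPolynomial.X 0 + MvPolynomial.X 1 : MvPolynomial (Fin 2) R) G
  set x := Polynomial.aeval (MvPolynomial.X 0 : MvPolynomial (Fin 2) R) G
  set y := Polynomial.aeval (MvPolynomial.X 1 : MvPolynomial (Fin 2) R) G
  have e : (d - 1) * (1 + a) = x + y - a + x * y := by linear_combination hD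
  have h1 : d - 1 ∈ KI (I ^ m) := by
    obtain ⟨b, hb⟩ := hu.exists_right_inv
    rw [show d - 1 = (d - 1) * (1 + a) * b by rw [mul_assoc, hb, mul_one], e]
    exact Ideal.mul_mem_right _ _ (add_mem (sub_mem (add_mem (hmem _) (hmem _)) (hmem _)) (Ideal.mul_mem_left _ _ (hmem _)))
  rw [show d - 1 + (a - x - y) = x * y - (d - 1) * a by linear_combination e]
  exact sub_mem (mul_mem_KI_succ hm (hmem _) (hmem _)) (mul_mem_KI_succ hm h1 (hmem _))

theorem step (hF : Function.Surjective (frobenius R p)) {I : Ideal R} (hI : IsNilpotent I) {m : ℕ} (hm : 1 ≤ m)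
    {h : MvPolynomial (Fin 2) R} (hh : IsMulCoc h) (hH : h - 1 ∈ KI (I ^ m)) :
    ∃ g : (Polynomial R)ˣ, h * (del R g : MvPolynomial (Fin 2) R) - 1 ∈ KI (I ^ (m + 1)) := by
  classical
  have hp : p.Prime := Fact.out
  by_cases htop : I ^ (m + 1) = ⊤
  · exact ⟨1, mem_KI_iff.2 fun d => by rw [htop]; trivial⟩
  set π := Ideal.Quotient.mk (I ^ (m + 1))
  haveI : Nontrivial (R ⧸ I ^ (m + 1)) := Ideal.Quotient.nontrivial_iff.2 htop
  haveI : CharP (R ⧸ I ^ (m + 1)) p := (CharP.charP_iff_prime_eq_zero hp).2 (by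
    rw [← map_natCast π, CharP.cast_eq_zero, map_zero])
  have hnil : ∀ x ∈ I ^ m, IsNilpotent x := fun x hx => by
    obtain ⟨N, hN⟩ := hI
    refine ⟨N, ?_⟩
    have := Ideal.pow_mem_pow (Ideal.pow_le_self (by omega) hx) N
    rw [hN] at this
    exact this
  let r : ℕ → R := fun k => (h - 1).coeff (e2 (p ^ k) (p ^ (k + 1) - p ^ k))
  have hr : ∀ k, r k ∈ I ^ m := fun k => mem_KI_iff.1 hH _
  choose s hs using fun k => hF (r k)
  simp only [frobenius_def] at hs
  have hsnil : ∀ k, IsNilpotent (s k) := fun k => IsNilpotent.of_pow (hs k ▸ hnil _ (hr k))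
  let e : ℕ → (Polynomial R)ˣ := fun k => (isUnit_expT (p := p) (s := s k) (q := p ^ k) (pow_pos hp.pos k) (hsnil k)).unit
  have he := fun k => del_expT_sub (p := p) (I := I) hm (s := s k) (hs k ▸ hr k) (hsnil k) (q := p ^ k) (n := k) rfl
  set D := (h - 1).totalDegree + 1
  let E := ∏ k ∈ range D, (del R (e k) : MvPolynomial (Fin 2) R)
  obtain ⟨hE1, hE2⟩ := prod_sub_one_mem hm (range D) (fun k => (del R (e k) : MvPolynomial (Fin 2) R))
    fun k _ => (he k).1
  have hcoc1 : IsMulCoc (h * E) := by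
    refine hh.mul (Finset.prod_induction _ IsMulCoc (fun _ _ => IsMulCoc.mul) ⟨map_one _, by simp⟩ fun k _ => isMulCoc_del _)
  have hH1 : h * E - 1 ∈ KI (I ^ m) := by
    rw [show h * E - 1 = (h - 1) * E + (E - 1) by ring]
    exact add_mem (Ideal.mul_mem_right _ _ hH) hE1
  have hcong : h * E - 1 - ((h - 1) + ∑ k ∈ range D, scale (s k) (p ^ k) (defect p * D' p)) ∈ KI (I ^ (m + 1)) := by
    rw [show h * E - 1 - ((h - 1) + ∑ k ∈ range D, scale (s k) (p ^ k) (defect p * D' p)) =
      (h - 1) * (E - 1) + ((E - 1) - ∑ k ∈ range D, ((del R (e k) : MvPolynomial (Fin 2) R) - 1)) +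
        ∑ k ∈ range D, (((del R (e k) : MvPolynomial (Fin 2) R) - 1) - scale (s k) (p ^ k) (defect p * D' p)) by
      simp only [Finset.sum_sub_distrib]; ring]
    exact add_mem (add_mem (mul_mem_KI_succ hm hH hE1) hE2) (sum_mem fun k _ => (he k).2)
  have hterm : ∀ j k, π ((scale (s k) (p ^ k) (defect p * D' p)).coeff (e2 (p ^ j) (p ^ (j + 1) - p ^ j))) =
      if j = k then -π (r j) else 0 := by
    intro j k
    have hq : 0 < p ^ k := pow_pos hp.pos k
    rw [coeff_scale _ hq]
    rcases lt_trichotomy j k with hjk | rfl | hjk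
    · rw [if_neg (by omega : ¬ j = k), if_neg, map_zero]
      rintro ⟨h1, -⟩
      exact absurd ((Nat.pow_dvd_pow_iff_le_right hp.one_lt).1 h1) (by omega)
    · rw [if_pos rfl, if_pos ⟨dvd_rfl, Nat.dvd_sub (pow_dvd_pow p (Nat.le_succ j)) dvd_rfl⟩,
        Nat.div_self hq, show (p ^ (j + 1) - p ^ j) / p ^ j = p - 1 by
          rw [pow_succ, ← Nat.mul_sub_one, Nat.mul_div_cancel_left _ hq],
        coeff_defect_mul_D', show 1 + (p - 1) = p by have := hp.two_le; omega, hs, mul_neg_one, map_neg]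
    · have hd1 : p ^ k ∣ p ^ j := pow_dvd_pow p hjk.le
      have hd2 : p ^ k ∣ p ^ (j + 1) - p ^ j := Nat.dvd_sub (pow_dvd_pow p (by omega)) hd1
      rw [if_neg (by omega : ¬ j = k), if_pos ⟨hd1, hd2⟩, Ideal.Quotient.eq_zero_iff_mem, ← Nat.add_div_of_dvd_left hd2]
      refine Ideal.mul_mem_right _ _ ?_
      have hle : 2 * p ≤ (p ^ j + (p ^ (j + 1) - p ^ j)) / p ^ k := by
        rw [Nat.add_sub_cancel' (Nat.pow_le_pow_right hp.pos (Nat.le_succ j)), Nat.pow_div (by omega) hp.pos]
        calc 2 * p ≤ p * p := Nat.mul_le_mul_right p hp.two_le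
          _ = p ^ 2 := (sq p).symm
          _ ≤ p ^ (j + 1 - k) := Nat.pow_le_pow_right hp.pos (by omega)
      have e2p : ∀ t, s k ^ (2 * p + t) = r k ^ 2 * s k ^ t := fun t => by
        rw [pow_add, mul_comm 2 p, pow_mul, hs]
      rw [← Nat.add_sub_cancel' hle, e2p]
      refine Ideal.mul_mem_right _ _ (Ideal.pow_le_pow_right (show m + 1 ≤ m * 2 by omega) ?_)
      rw [pow_mul]
      exact Ideal.pow_mem_pow (hr k) 2
  have hval : ∀ j, MvPolynomial.coeff (e2 (p ^ j) (p ^ (j + 1) - p ^ j)) (MvPolynomial.map π (h * E - 1)) = 0 := by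
    intro j
    have h0 := map_eq_zero_of_mem (I ^ (m + 1)) hcong
    rw [map_sub, sub_eq_zero] at h0
    rw [h0, MvPolynomial.coeff_map, MvPolynomial.coeff_add, MvPolynomial.coeff_sum, map_add, map_sum,
      Finset.sum_congr rfl fun k _ => hterm j k, Finset.sum_ite_eq]
    split_ifs with hj
    · exact add_neg_cancel _
    · rw [add_zero, MvPolynomial.coeff_eq_zero_of_totalDegree_lt, map_zero]
      rw [Finset.sum_subset (Finset.subset_univ _) (fun x _ hx => Finsupp.notMem_support_iff.1 hx),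
        Fin.sum_univ_two, e2_zero, e2_one]
      have := Nat.lt_pow_self (n := j + 1) hp.one_lt
      have := Nat.pow_le_pow_right hp.pos (Nat.le_succ j)
      simp only [Finset.mem_range, not_lt, D] at hj
      omega
  obtain ⟨G', N, r', hG', -, hdec⟩ := exists_decomp p (isCocycle_map hcoc1 hm hH1) (Ideal.map π (I ^ m))
    fun d => by rw [MvPolynomial.coeff_map]; exact Ideal.mem_map_of_mem _ (mem_KI_iff.1 hH1 d)
  have hr' : ∀ k < N, r' k = 0 := by
    intro k hk
    have hlt : p ^ k < p ^ (k + 1) := Nat.pow_lt_pow_right hp.one_lt (Nat.lt_succ_self k)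
    have h1 := slice_form (A := R ⧸ I ^ (m + 1)) p G' N r' (pow_pos hp.pos k) hlt
    rw [← hdec, slice, hval, Finset.sum_eq_single k, if_pos rfl, sCoef, if_pos dvd_rfl,
      Nat.div_self (pow_pos hp.pos k), Nat.choose_one_right, Nat.div_self hp.pos, Nat.cast_one, mul_one] at h1
    · have h2 : ((p ^ (k + 1)).choose (p ^ k) : R ⧸ I ^ (m + 1)) = 0 := by
        rw [cast_choose_pow p, Nat.pow_div (Nat.le_succ k) hp.pos, show k + 1 - k = 1 by omega, pow_one, CharP.cast_eq_zero]
      rw [h2, zero_mul, zero_add] at h1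
      exact h1.symm
    · intro b _ hb
      rw [if_neg fun h => hb (by have := Nat.pow_right_injective hp.two_le h; omega)]
    · exact fun h => absurd (Finset.mem_range.2 hk) h
  rw [Finset.sum_eq_zero (fun k hk => by rw [hr' k (Finset.mem_range.1 hk), map_zero, zero_mul]), add_zero] at hdec
  choose G0 hG0 hG0e using fun n => (Ideal.mem_map_iff_of_surjective π Ideal.Quotient.mk_surjective).1 (hG' n)
  let G : Polynomial R := ∑ n ∈ range (G'.natDegree + 1), Polynomial.monomial n (G0 n)
  have hGc : ∀ n, G.coeff n = if n < G'.natDegree + 1 then G0 n else 0 := fun n => by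
    simp only [G, Polynomial.finsetSum_coeff, Polynomial.coeff_monomial, Finset.sum_ite_eq', Finset.mem_range]
  have hGm : ∀ n, G.coeff n ∈ I ^ m := fun n => by
    rw [hGc]; split_ifs
    · exact hG0 n
    · exact zero_mem _
  have hmap : MvPolynomial.map π (bd G) = bd G' := by
    refine MvPolynomial.ext _ _ fun d => ?_
    have hc : ∀ n, π (G.coeff n) = G'.coeff n := fun n => by
      rw [hGc]; split_ifs with hn
      · exact hG0e n
      · rw [map_zero, Polynomial.coeff_eq_zero_of_natDegree_lt (by omega)]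
    rw [eq_e2 d, MvPolynomial.coeff_map, coeff_bd, coeff_bd]
    simp only [map_sub, map_mul, map_natCast, hc, apply_ite π, map_one, map_zero]
  have hGu : IsUnit (1 + G) := IsNilpotent.isUnit_one_add (Polynomial.isNilpotent_iff.2 fun n => hnil _ (hGm n))
  refine ⟨(∏ k ∈ range D, e k) * hGu.unit, ?_⟩
  have hd := del_one_add_sub hm hGm hGu.unit (IsUnit.unit_spec _)
  set d : MvPolynomial (Fin 2) R := (del R hGu.unit : MvPolynomial (Fin 2) R)
  have hfin : h * E - 1 - bd G ∈ KI (I ^ (m + 1)) := by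
    rw [← map_eq_zero_iff_mem, map_sub, hmap, ← hdec, sub_self]
  have hd' : d - 1 ∈ KI (I ^ m) := by
    rw [show d - 1 = (d - 1 + bd G) - bd G by ring]
    refine sub_mem (Ideal.map_mono (Ideal.pow_le_pow_right (Nat.le_succ m)) hd) ?_
    rw [show bd G = (h * E - 1) - (h * E - 1 - bd G) by ring]
    exact sub_mem hH1 (Ideal.map_mono (Ideal.pow_le_pow_right (Nat.le_succ m)) hfin)
  rw [map_mul, map_prod, Units.val_mul, Units.coe_prod]
  rw [show h * (E * d) - 1 = (h * E - 1) * (d - 1) + (h * E - 1 - bd G) + (d - 1 + bd G) by ring]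
  exact add_mem (add_mem (mul_mem_KI_succ hm hH1 hd') hfin) hd

theorem exists_split (hF : Function.Surjective (frobenius R p)) {h : MvPolynomial (Fin 2) R} (hu : IsUnit h)
    (h1 : MvPolynomial.constantCoeff h = 1) (hh : IsMulCoc h) :
    ∃ f : Polynomial R, IsUnit f ∧
      Polynomial.aeval (MvPolynomial.X 0 + MvPolynomial.X 1 : MvPolynomial (Fin 2) R) f =
        Polynomial.aeval (MvPolynomial.X 0 : MvPolynomial (Fin 2) R) f *
          Polynomial.aeval (MvPolynomial.X 1 : MvPolynomial (Fin 2) R) f * h := by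
  classical
  let I : Ideal R := Ideal.span ((h - 1).support.image (h - 1).coeff : Set R)
  have hI : IsNilpotent I := by
    rw [Ideal.FG.isNilpotent_iff_le_nilradical (I := I) (Submodule.fg_span (Finset.finite_toSet _)), Ideal.span_le]
    intro x hx
    obtain ⟨d, -, rfl⟩ := Finset.mem_image.1 (Finset.mem_coe.1 hx)
    rw [SetLike.mem_coe, mem_nilradical, MvPolynomial.coeff_sub, MvPolynomial.coeff_one]
    rcases eq_or_ne 0 d with rfl | hd
    · rw [if_pos rfl, ← MvPolynomial.constantCoeff_eq, h1, sub_self]; exact IsNilpotent.zero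
    · rw [if_neg hd, sub_zero]; exact (MvPolynomial.isUnit_iff.1 hu).2 d hd.symm
  have h0 : h - 1 ∈ KI (I ^ 1) := by
    rw [pow_one, mem_KI_iff]
    intro d
    by_cases hd : d ∈ (h - 1).support
    · exact Ideal.subset_span (Finset.mem_coe.2 (Finset.mem_image_of_mem _ hd))
    · rw [MvPolynomial.notMem_support_iff.1 hd]; exact zero_mem _
  have main : ∀ m, 1 ≤ m → ∃ g : (Polynomial R)ˣ, h * (del R g : MvPolynomial (Fin 2) R) - 1 ∈ KI (I ^ m) := by
    intro m hm
    induction m, hm using Nat.le_induction with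
    | base => exact ⟨1, by simpa using h0⟩
    | succ m hm ih =>
      obtain ⟨g, hg⟩ := ih
      obtain ⟨g', hg'⟩ := step p hF hI hm (hh.mul (isMulCoc_del g)) hg
      exact ⟨g * g', by rwa [map_mul, Units.val_mul, ← mul_assoc]⟩
  obtain ⟨N, hN⟩ := hI
  obtain ⟨g, hg⟩ := main (N + 1) (Nat.succ_pos N)
  have hzero : h * (del R g : MvPolynomial (Fin 2) R) = 1 := by
    refine sub_eq_zero.1 (MvPolynomial.ext _ _ fun d => ?_)
    have := mem_KI_iff.1 hg d
    rw [pow_succ, hN, zero_mul] at this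
    exact this
  refine ⟨g, g.isUnit, ?_⟩
  rw [← del_mul g]
  linear_combination (-Polynomial.aeval (MvPolynomial.X 0 + MvPolynomial.X 1 : MvPolynomial (Fin 2) R) (g : Polynomial R)) * hzero

end Main

end Groth.Agent.H23Ga
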