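import Groth.Agent.H23Ga.GmLine
import Groth.Agent.H23Ga.Split
import Mathlib.Algebra.MvPolynomial.Nilpotent
import Mathlib.CategoryTheory.Abelian.Injective.Basic

/-!
# Extensions of the additive group by the multiplicative group

A homomorphism `φ : 𝔾ₐ ⟶ I/𝔾ₘ` into the quotient of an injective lifts as soon as its universal section lifts and
multiplicative symmetric cocycles split.
-/

set_option autoImplicit false
set_option backward.isDefEq.respectTransparency false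
set_option linter.style.haveILetI false

universe u

open CategoryTheory AlgebraicGeometry Opposite

namespace Groth.Agent.H23Ga.GaExt

open GmLift DualPts

variable {R : Type u} [CommRing R]

/-- The base. -/
noncomputable abbrev B0 (R : Type u) [CommRing R] : Scheme.{u} := Spec (CommRingCat.of R)

/-- The test object of an algebra over the base. -/
noncomputable abbrev pt (C : Type u) [CommRing C] [Algebra R C] : Over (B0 R) := alg (𝟙 (B0 R)) C

/-- The structure map of functions. -/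
noncomputable def rW (W : Over (B0 R)) : R →+* Γ(W.left, ⊤) := (W.hom.appTop.hom).comp (γ R).symm.toRingHom

theorem rW_comp {W W' : Over (B0 R)} (h : W' ⟶ W) : (h.left.appTop.hom).comp (rW W) = rW W' := by
  rw [rW, rW, ← Over.w h, Scheme.Hom.comp_appTop]
  rfl

theorem rW_pt (C : Type u) [CommRing C] [Algebra R C] :
    (γ C).toRingHom.comp (rW (pt (R := R) C)) = algebraMap R C := by
  refine RingHom.ext fun r => ?_
  change γ C ((Spec.map (CommRingCat.ofHom (algebraMap R C)) ≫ 𝟙 (B0 R)).appTop ((γ R).symm r)) = _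
  rw [Category.comp_id]
  refine (ConcreteCategory.congr_hom (Scheme.ΓSpecIso_naturality (CommRingCat.ofHom (algebraMap R C))) _).trans ?_
  exact congrArg (algebraMap R C) ((γ R).apply_symm_apply r)

section Classify

variable {C : Type u} [CommRing C] [Algebra R C] {W : Over (B0 R)}

/-- The morphism classifying a ring map compatible with the structure map. -/
noncomputable def cls (k : C →+* Γ(W.left, ⊤)) (hk : k.comp (algebraMap R C) = rW W) : W ⟶ pt C :=
  Over.homMk (W.left.toSpecΓ ≫ Spec.map (CommRingCat.ofHom k)) (by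
    refine ext_of_isAffine ?_
    rw [← cancel_epi (Scheme.ΓSpecIso (CommRingCat.of R)).inv]
    refine CommRingCat.hom_ext (RingHom.ext fun r => ?_)
    change ((W.left.toSpecΓ ≫ Spec.map (CommRingCat.ofHom k)) ≫
      Spec.map (CommRingCat.ofHom (algebraMap R C)) ≫ 𝟙 (B0 R)).appTop ((γ R).symm r) = rW W r
    rw [Category.comp_id, Category.assoc, ← Spec.map_comp, ← CommRingCat.ofHom_comp, hk]
    have h2 : (Scheme.ΓSpecIso (CommRingCat.of R)).inv ≫
        (W.left.toSpecΓ ≫ Spec.map (CommRingCat.ofHom (rW W))).appTop = CommRingCat.ofHom (rW W) := by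
      simp
    exact ConcreteCategory.congr_hom h2 r)

theorem cls_appTop (k : C →+* Γ(W.left, ⊤)) (hk : k.comp (algebraMap R C) = rW W) (c : C) :
    (cls k hk).left.appTop ((γ C).symm c) = k c := by
  have h2 : (Scheme.ΓSpecIso (CommRingCat.of C)).inv ≫
      (W.left.toSpecΓ ≫ Spec.map (CommRingCat.ofHom k)).appTop = CommRingCat.ofHom k := by
    simp
  exact ConcreteCategory.congr_hom h2 c

theorem pt_hom_ext {m m' : W ⟶ pt (R := R) C}
    (h : ∀ c : C, m.left.appTop ((γ C).symm c) = m'.left.appTop ((γ C).symm c)) : m = m' := by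
  ext : 1
  haveI : IsAffine (pt (R := R) C).left := inferInstanceAs (IsAffine (Spec (CommRingCat.of C)))
  refine ext_of_isAffine ?_
  rw [← cancel_epi (Scheme.ΓSpecIso (CommRingCat.of C)).inv]
  exact CommRingCat.hom_ext (RingHom.ext h)

end Classify

open Polynomial

section Line

variable {W W' : Over (B0 R)}

/-- The morphism to the line given by a function. -/
noncomputable def clsX (a : Γ(W.left, ⊤)) : W ⟶ pt R[X] :=
  cls (eval₂RingHom (rW W) a) (RingHom.ext fun r => eval₂_C _ _)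

theorem clsX_appTop (a : Γ(W.left, ⊤)) (p : R[X]) : (clsX a).left.appTop ((γ R[X]).symm p) = p.eval₂ (rW W) a :=
  cls_appTop _ _ p

theorem comp_clsX (h : W' ⟶ W) (a : Γ(W.left, ⊤)) : h ≫ clsX a = clsX (h.left.appTop a) := by
  refine pt_hom_ext fun p => ?_
  rw [clsX_appTop, Over.comp_left, Scheme.Hom.comp_appTop]
  change h.left.appTop ((clsX a).left.appTop ((γ R[X]).symm p)) = _
  rw [clsX_appTop, hom_eval₂, rW_comp]

/-- The morphism to the plane given by two functions. -/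
noncomputable def cls2 (a b : Γ(W.left, ⊤)) : W ⟶ pt (MvPolynomial (Fin 2) R) :=
  cls (MvPolynomial.eval₂Hom (rW W) ![a, b]) (MvPolynomial.eval₂Hom_comp_C _ _)

theorem cls2_appTop (a b : Γ(W.left, ⊤)) (p : MvPolynomial (Fin 2) R) :
    (cls2 a b).left.appTop ((γ (MvPolynomial (Fin 2) R)).symm p) = p.eval₂ (rW W) ![a, b] :=
  cls_appTop _ _ p

end Line

variable (𝒮 : Seq (B0 R))

section Value

variable {W W' : Over (B0 R)} (t : 𝒮.I.obj.obj (op (pt R[X])))

/-- The values of a section over the line. -/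
noncomputable def tV (a : Γ(W.left, ⊤)) : 𝒮.I.obj.obj (op W) := 𝒮.I.obj.map (clsX a).op t

theorem tV_map (h : W' ⟶ W) (a : Γ(W.left, ⊤)) :
    𝒮.I.obj.map h.op (tV 𝒮 t a) = tV 𝒮 t (h.left.appTop a) := by
  rw [tV, tV, ← comp_clsX, op_comp, Functor.map_comp]
  rfl

variable (φ : CGrpSh2.Ga Kf (B0 R) ⟶ 𝒮.Q)

/-- The universal section. -/
noncomputable def univ : 𝒮.Q.obj.obj (op (pt R[X])) :=
  φ.hom.app (op (pt R[X])) (gaSec Kf (W := pt R[X]) ((γ R[X]).symm X))

theorem map_univ (a : Γ(W.left, ⊤)) :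
    𝒮.Q.obj.map (clsX a).op (univ 𝒮 φ) = φ.hom.app (op W) (gaSec Kf a) := by
  rw [univ, show 𝒮.Q.obj.map (clsX a).op (φ.hom.app (op (pt R[X])) (gaSec Kf (W := pt R[X]) ((γ R[X]).symm X))) =
    φ.hom.app (op W) ((CGrpSh2.Ga Kf (B0 R)).obj.map (clsX a).op (gaSec Kf (W := pt R[X]) ((γ R[X]).symm X))) from
    (ConcreteCategory.congr_hom (φ.hom.naturality (clsX a).op) _).symm, gaSec_map, clsX_appTop, eval₂_X]

variable {t φ} (ht : 𝒮.π.hom.app (op (pt R[X])) t = univ 𝒮 φ)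
include ht

theorem π_tV (a : Γ(W.left, ⊤)) : 𝒮.π.hom.app (op W) (tV 𝒮 t a) = φ.hom.app (op W) (gaSec Kf a) := by
  rw [tV, show 𝒮.π.hom.app (op W) (𝒮.I.obj.map (clsX a).op t) =
    𝒮.Q.obj.map (clsX a).op (𝒮.π.hom.app (op (pt R[X])) t) from
    ConcreteCategory.congr_hom (𝒮.π.hom.naturality (clsX a).op) t, ht, map_univ]

theorem exists_defect :
    ∃ hp : MvPolynomial (Fin 2) R, IsUnit hp ∧ ∀ (W : Over (B0 R)) (a b : Γ(W.left, ⊤)),
      ∃ d : (CGrpSh2.Gm Kf (B0 R)).obj.obj (op W), gmVal d = hp.eval₂ (rW W) ![a, b] ∧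
        𝒮.ι.hom.app (op W) d = tV 𝒮 t a + tV 𝒮 t b - tV 𝒮 t (a + b) := by
  let P := MvPolynomial (Fin 2) R
  let u : Γ((pt (R := R) P).left, ⊤) := (γ P).symm (MvPolynomial.X 0)
  let v : Γ((pt (R := R) P).left, ⊤) := (γ P).symm (MvPolynomial.X 1)
  obtain ⟨d, hd⟩ := TorsorH1.sect_exact 𝒮.exact' (pt P) (tV 𝒮 t u + tV 𝒮 t v - tV 𝒮 t (u + v)) (by
    change 𝒮.π.hom.app (op (pt P)) _ = 0
    rw [map_sub, map_add, π_tV 𝒮 ht, π_tV 𝒮 ht, π_tV 𝒮 ht, gaSec_add, map_add, sub_self])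
  refine ⟨γ P (gmVal (W := pt P) d), IsUnit.map (γ P) (isUnit_gmVal (W := pt P) d), fun W a b => ?_⟩
  refine ⟨(CGrpSh2.Gm Kf (B0 R)).obj.map (cls2 a b).op d, ?_, ?_⟩
  · rw [gmVal_map, ← cls2_appTop, RingEquiv.symm_apply_apply]
  · rw [show 𝒮.ι.hom.app (op W) ((CGrpSh2.Gm Kf (B0 R)).obj.map (cls2 a b).op d) =
      𝒮.I.obj.map (cls2 a b).op (𝒮.ι.hom.app (op (pt P)) d) from
      ConcreteCategory.congr_hom (𝒮.ι.hom.naturality (cls2 a b).op) d]
    change 𝒮.I.obj.map (cls2 a b).op _ = _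
    rw [hd, map_sub, map_add, tV_map, tV_map, tV_map, map_add, cls2_appTop, cls2_appTop]
    simp [P]

end Value

/-- Extensions of the additive group by the multiplicative group are trivial if sections over the line lift
along the zero section and cocycles split. -/
theorem subsingleton_ext
    (hlift : ∀ (𝒮 : Seq (B0 R)) (y : Spec (CommRingCat.of R[X]) ⟶ B0 R) (q : 𝒮.Q.obj.obj (op (Over.mk y))),
      (∃ x, 𝒮.π.hom.app (op (Over.mk (Spec.map (CommRingCat.ofHom (evalRingHom (0 : R))) ≫ y))) x =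
        𝒮.Q.obj.map (hom (evalRingHom (0 : R)) rfl).op q) → ∃ x, 𝒮.π.hom.app (op (Over.mk y)) x = q)
    (hsplit : ∀ h : MvPolynomial (Fin 2) R, IsUnit h → MvPolynomial.constantCoeff h = 1 → IsMulCoc h →
      ∃ f : R[X], IsUnit f ∧
        Polynomial.aeval (MvPolynomial.X 0 + MvPolynomial.X 1 : MvPolynomial (Fin 2) R) f =
          Polynomial.aeval (MvPolynomial.X 0 : MvPolynomial (Fin 2) R) f *
            Polynomial.aeval (MvPolynomial.X 1 : MvPolynomial (Fin 2) R) f * h) :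
    Subsingleton (CGrpSh.ExtS Kf (Red.Ga (B0 R)) (Red.Gm (B0 R)) 1) := by
  refine subsingleton_of_forall_eq 0 fun z => ?_
  let M := CGrpSh2.Gm Kf (B0 R)
  let ι := Injective.ι M
  have hS : (ShortComplex.mk ι (Limits.cokernel.π ι) (Limits.cokernel.condition ι)).ShortExact :=
    { exact := ShortComplex.exact_of_g_is_cokernel _ (Limits.cokernelIsCokernel ι) }
  let 𝒮 : Seq (B0 R) := ⟨Injective.under M, Limits.cokernel ι, ι, Limits.cokernel.π ι, Limits.cokernel.condition ι, hS⟩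
  obtain ⟨x, hx⟩ := Abelian.Ext.covariant_sequence_exact₁ (CGrpSh.pts Kf (Red.Ga (B0 R))) hS z
    (@Abelian.Ext.eq_zero_of_injective _ _ _ _ _ (Injective.under M) _ _ _) (zero_add 1)
  obtain ⟨φ, rfl⟩ := Abelian.Ext.addEquiv₀.symm.surjective x
  suffices hlifts : ∃ ψ : CGrpSh2.Ga Kf (B0 R) ⟶ 𝒮.I, ψ ≫ 𝒮.π = φ by
    obtain ⟨ψ, rfl⟩ := hlifts
    rw [← hx, Abelian.Ext.addEquiv₀_symm_apply, ← Abelian.Ext.mk₀_comp_mk₀,
      Abelian.Ext.comp_assoc_of_second_deg_zero,
      show (Abelian.Ext.mk₀ 𝒮.π).comp hS.extClass (zero_add 1) = 0 from hS.comp_extClass, Abelian.Ext.comp_zero]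
  -- a section over the line lifting the universal one, zero at the origin
  let O : Over (B0 R) := Over.mk (Spec.map (CommRingCat.ofHom (evalRingHom (0 : R))) ≫ (pt (R := R) R[X]).hom)
  obtain ⟨t₀, ht₀⟩ : ∃ t₀, 𝒮.π.hom.app (op (pt R[X])) t₀ = univ 𝒮 φ := by
    refine hlift 𝒮 (pt (R := R) R[X]).hom (univ 𝒮 φ) ⟨0, ?_⟩
    rw [map_zero]
    symm
    have h0 : (CGrpSh2.Ga Kf (B0 R)).obj.map (hom (y := (pt (R := R) R[X]).hom) (evalRingHom (0 : R)) rfl).op
        (gaSec Kf (W := pt R[X]) ((γ R[X]).symm X)) = 0 := by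
      rw [← gaSec_zero (W := O), gaSec_map]
      congr 1
      refine (γ R).injective ?_
      rw [map_zero]
      refine (γ_hom (y := (pt (R := R) R[X]).hom) _ rfl _).trans ?_
      simp
    rw [univ]
    refine ((ConcreteCategory.congr_hom (φ.hom.naturality _) _).symm).trans ?_
    change φ.hom.app _ ((CGrpSh2.Ga Kf (B0 R)).obj.map _ _) = 0
    rw [h0, map_zero]
  let t : 𝒮.I.obj.obj (op (pt R[X])) := t₀ - tV 𝒮 t₀ (W := pt R[X]) 0
  have ht : 𝒮.π.hom.app (op (pt R[X])) t = univ 𝒮 φ := by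
    rw [map_sub, π_tV 𝒮 ht₀, gaSec_zero, map_zero, ht₀, sub_zero]
  have tV_eq : ∀ (W : Over (B0 R)) (a : Γ(W.left, ⊤)), tV 𝒮 t a = tV 𝒮 t₀ a - tV 𝒮 t₀ 0 := fun W a => by
    change 𝒮.I.obj.map (clsX a).op (t₀ - tV 𝒮 t₀ (W := pt R[X]) 0) = _
    rw [map_sub, tV_map, map_zero]
    rfl
  have tV_zero : ∀ W : Over (B0 R), tV 𝒮 t (0 : Γ(W.left, ⊤)) = 0 := fun W => by rw [tV_eq, sub_self]
  obtain ⟨hp, hpu, hdef⟩ := exists_defect 𝒮 ht
  have key : ∀ (W : Over (B0 R)) (a b c d : Γ(W.left, ⊤)),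
      tV 𝒮 t a + tV 𝒮 t b - tV 𝒮 t (a + b) = tV 𝒮 t c + tV 𝒮 t d - tV 𝒮 t (c + d) →
      hp.eval₂ (rW W) ![a, b] = hp.eval₂ (rW W) ![c, d] := fun W a b c d h => by
    obtain ⟨d1, hd1, he1⟩ := hdef W a b
    obtain ⟨d2, hd2, he2⟩ := hdef W c d
    rw [← hd1, ← hd2, TorsorH1.sect_injective 𝒮.exact' W (he1.trans (h.trans he2.symm))]
  have hev : ∀ (n : ℕ) (a : Fin 2 → MvPolynomial (Fin n) R),
      γ (MvPolynomial (Fin n) R) (hp.eval₂ (rW (pt (MvPolynomial (Fin n) R)))
        ![(γ _).symm (a 0), (γ _).symm (a 1)]) = MvPolynomial.aeval a hp := fun n a => by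
    refine (MvPolynomial.eval₂_comp_left (γ (MvPolynomial (Fin n) R)).toRingHom _ _ hp).trans ?_
    rw [rW_pt, MvPolynomial.aeval_def]
    congr 1
    funext i
    fin_cases i <;> exact (γ _).apply_symm_apply _
  have hconst : MvPolynomial.constantCoeff hp = 1 := by
    obtain ⟨d1, hd1, he1⟩ := hdef (pt R) (0 : Γ((pt (R := R) R).left, ⊤)) 0
    rw [add_zero, add_sub_cancel_right, tV_zero] at he1
    have hd0 : d1 = 0 := TorsorH1.sect_injective 𝒮.exact' (pt R) (he1.trans (map_zero _).symm)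
    rw [hd0, gmVal_zero] at hd1
    have h := congrArg (γ R).toRingHom hd1
    rw [map_one, MvPolynomial.eval₂_comp_left, rW_pt] at h
    rw [h, show (⇑(γ R).toRingHom ∘ ![(0 : Γ((pt (R := R) R).left, ⊤)), 0]) = fun _ => (0 : R) from
      funext fun i => by fin_cases i <;> simp, MvPolynomial.eval₂_zero'_apply]
    rfl
  have hcoc : IsMulCoc hp := by
    refine ⟨?_, ?_⟩
    · have h := congrArg (γ (MvPolynomial (Fin 2) R))
        (key (pt (MvPolynomial (Fin 2) R)) ((γ _).symm (MvPolynomial.X 1)) ((γ _).symm (MvPolynomial.X 0))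
          ((γ _).symm (MvPolynomial.X 0)) ((γ _).symm (MvPolynomial.X 1))
          (by rw [add_comm ((γ _).symm (MvPolynomial.X 1))]; abel))
      refine ((hev 2 ![MvPolynomial.X 1, MvPolynomial.X 0]).symm.trans h).trans ((hev 2 ![MvPolynomial.X 0, MvPolynomial.X 1]).trans ?_)
      rw [show (![MvPolynomial.X 0, MvPolynomial.X 1] : Fin 2 → MvPolynomial (Fin 2) R) = MvPolynomial.X from
        funext fun i => by fin_cases i <;> rfl, MvPolynomial.aeval_X_left_apply]
    · let W := pt (R := R) (MvPolynomial (Fin 3) R)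
      let a : Γ(W.left, ⊤) := (γ _).symm (MvPolynomial.X 0)
      let b : Γ(W.left, ⊤) := (γ _).symm (MvPolynomial.X 1)
      let c : Γ(W.left, ⊤) := (γ _).symm (MvPolynomial.X 2)
      obtain ⟨d1, hd1, he1⟩ := hdef W b c
      obtain ⟨d2, hd2, he2⟩ := hdef W a (b + c)
      obtain ⟨d3, hd3, he3⟩ := hdef W (a + b) c
      obtain ⟨d4, hd4, he4⟩ := hdef W a b
      have h : d1 + d2 = d3 + d4 := TorsorH1.sect_injective 𝒮.exact' W (by
        change 𝒮.ι.hom.app (op W) _ = 𝒮.ι.hom.app (op W) _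
        rw [map_add, map_add, he1, he2, he3, he4, add_assoc a b c]
        abel)
      have h' := congrArg (fun e => γ (MvPolynomial (Fin 3) R) (gmVal e)) h
      simp only [gmVal_add, map_mul, hd1, hd2, hd3, hd4] at h'
      rw [← hev 3 ![MvPolynomial.X 1, MvPolynomial.X 2], ← hev 3 ![MvPolynomial.X 0, MvPolynomial.X 1 + MvPolynomial.X 2],
        ← hev 3 ![MvPolynomial.X 0 + MvPolynomial.X 1, MvPolynomial.X 2], ← hev 3 ![MvPolynomial.X 0, MvPolynomial.X 1]]
      simpa [a, b, c] using h'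
  obtain ⟨f, hfu, hf⟩ := hsplit hp hpu hconst hcoc
  have hfW : ∀ (W : Over (B0 R)) (a : Γ(W.left, ⊤)), IsUnit (f.eval₂ (rW W) a) := fun W a =>
    hfu.map (eval₂RingHom (rW W) a)
  have hfadd : ∀ (W : Over (B0 R)) (a b : Γ(W.left, ⊤)),
      f.eval₂ (rW W) (a + b) = f.eval₂ (rW W) a * f.eval₂ (rW W) b * hp.eval₂ (rW W) ![a, b] := fun W a b => by
    have h := congrArg (MvPolynomial.eval₂Hom (rW W) ![a, b]) hf
    rw [map_mul, map_mul, aeval_def, aeval_def, aeval_def, hom_eval₂, hom_eval₂, hom_eval₂] at h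
    simpa [MvPolynomial.algebraMap_eq, MvPolynomial.eval₂Hom_comp_C] using h
  let F : ∀ (W : Over (B0 R)), Γ(W.left, ⊤) → 𝒮.I.obj.obj (op W) := fun W a =>
    tV 𝒮 t a + 𝒮.ι.hom.app (op W) (gmSec Kf (f.eval₂ (rW W) a) (hfW W a))
  have F_add : ∀ (W : Over (B0 R)) (a b : Γ(W.left, ⊤)), F W (a + b) = F W a + F W b := fun W a b => by
    obtain ⟨d, hd, he⟩ := hdef W a b
    have hg : gmSec Kf (f.eval₂ (rW W) (a + b)) (hfW W _) =
        gmSec Kf (f.eval₂ (rW W) a) (hfW W a) + gmSec Kf (f.eval₂ (rW W) b) (hfW W b) + d := gmVal_inj (K := Kf) (by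
      rw [gmVal_add, gmVal_add, gmVal_gmSec, gmVal_gmSec, gmVal_gmSec, hd, hfadd])
    change tV 𝒮 t (a + b) + _ = tV 𝒮 t a + _ + (tV 𝒮 t b + _)
    rw [hg, map_add, map_add, he]
    abel
  let ψ : CGrpSh2.Ga Kf (B0 R) ⟶ 𝒮.I :=
    ⟨{ app := fun U => ConcreteCategory.ofHom (C := AddCommGrpCat.{u + 1})
          (X := (CGrpSh2.Ga Kf (B0 R)).obj.obj (op (unop U))) (Y := 𝒮.I.obj.obj (op (unop U)))
          (AddMonoidHom.mk' (fun x => F (unop U) (gaVal (K := Kf) x)) fun x x' => by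
            rw [gaVal_add]; exact F_add _ _ _)
       naturality := fun U U' h => by
         refine AddCommGrpCat.ext fun x => ?_
         change F (unop U') (gaVal (K := Kf) ((CGrpSh2.Ga Kf (B0 R)).obj.map h.unop.op x)) =
           𝒮.I.obj.map h.unop.op (F (unop U) (gaVal (K := Kf) x))
         rw [gaVal_map, map_add, tV_map]
         refine congrArg (tV 𝒮 t _ + ·) ?_
         rw [← show 𝒮.ι.hom.app (op (unop U')) ((CGrpSh2.Gm Kf (B0 R)).obj.map h.unop.op
             (gmSec Kf (f.eval₂ (rW (unop U)) (gaVal (K := Kf) x)) (hfW _ _))) =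
           𝒮.I.obj.map h.unop.op (𝒮.ι.hom.app (op (unop U)) (gmSec Kf (f.eval₂ (rW (unop U)) (gaVal (K := Kf) x)) (hfW _ _)))
           from ConcreteCategory.congr_hom (𝒮.ι.hom.naturality h.unop.op) _]
         refine congrArg _ (gmVal_inj (K := Kf) ?_)
         rw [gmVal_gmSec, gmVal_map, gmVal_gmSec, hom_eval₂, rW_comp] }⟩
  refine ⟨ψ, Sheaf.hom_ext (NatTrans.ext (funext fun U => AddCommGrpCat.ext fun x => ?_))⟩
  change 𝒮.π.hom.app (op (unop U)) (F (unop U) (gaVal (K := Kf) x)) = φ.hom.app (op (unop U)) x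
  rw [map_add, π_tV 𝒮 ht, gaSec_gaVal, ← ConcreteCategory.comp_apply (𝒮.ι.hom.app _), ← NatTrans.comp_app,
    show 𝒮.ι.hom ≫ 𝒮.π.hom = 0 from congrArg (fun φ : CGrpSh2.Gm Kf (B0 R) ⟶ 𝒮.Q => φ.hom) 𝒮.w]
  exact add_zero _

/-- Vanishing for a ring with surjective Frobenius. -/
theorem subsingleton_ext_of_frobenius (p : ℕ) [Fact p.Prime] [CharP R p]
    (hF : Function.Surjective (frobenius R p)) :
    Subsingleton (CGrpSh.ExtS Kf (Red.Ga (B0 R)) (Red.Gm (B0 R)) 1) := by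
  refine subsingleton_ext (fun 𝒮 y q h => exists_lift_polynomial ?_ q h) fun h hu h1 hc => exists_split p hF hu h1 hc
  haveI : Nontrivial R := CharP.nontrivial_of_char_ne_one (Fact.out : p.Prime).ne_one
  haveI : IsReduced (R ⧸ nilradical R) :=
    (Ideal.isRadical_iff_quotient_reduced _).1 (Ideal.radical_isRadical _)
  haveI : Nontrivial (R ⧸ nilradical R) := Ideal.Quotient.nontrivial_iff.2 (fun h => by
    have : (1 : R) ∈ nilradical R := by rw [h]; trivial
    exact not_isNilpotent_one this)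
  haveI : CharP (R ⧸ nilradical R) p := by
    refine (CharP.charP_iff_prime_eq_zero (Fact.out : p.Prime)).2 ?_
    rw [← map_natCast (Ideal.Quotient.mk (nilradical R)), CharP.cast_eq_zero, map_zero]
  refine isSeminormalRing_of_perfect p (R ⧸ nilradical R) fun x => ?_
  obtain ⟨r, rfl⟩ := Ideal.Quotient.mk_surjective x
  obtain ⟨s, rfl⟩ := hF r
  exact ⟨Ideal.Quotient.mk _ s, by simp [frobenius_def]⟩

/-- Vanishing for a reduced seminormal ring. -/
theorem subsingleton_ext_of_seminormal [IsReduced R] (hR : HTop.IsSeminormalRing R) :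
    Subsingleton (CGrpSh.ExtS Kf (Red.Ga (B0 R)) (Red.Gm (B0 R)) 1) := by
  refine subsingleton_ext (fun 𝒮 y q h => exists_lift_polynomial ?_ q h) fun h hu h1 _ => ?_
  · exact H18Subint.sn_of_ringEquiv
      ((RingEquiv.quotientBot R).symm.trans (Ideal.quotEquivOfEq (nilradical_eq_zero R).symm)) hR
  · obtain ⟨r, -, rfl⟩ := MvPolynomial.isUnit_iff_eq_C_of_isReduced.1 hu
    rw [MvPolynomial.constantCoeff_C] at h1
    exact ⟨1, isUnit_one, by simp [h1]⟩

end Groth.Agent.H23Ga.GaExt
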