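import Groth.Agent.H23Ga.GaExtSheaf
import Groth.Agent.H23Ga.GaExt
import Groth.Agent.H23Ga.DualExact
import Groth.Agent.H23Ga.Vanish

/-!
# The kernel of Frobenius on the additive group is its own dual
-/

set_option autoImplicit false
set_option backward.isDefEq.respectTransparency false
set_option linter.style.haveILetI false
set_option linter.unusedSectionVars false

universe u

open CategoryTheory CategoryTheory.Limits AlgebraicGeometry Opposite Polynomial

namespace Groth.Agent.H23Ga.AlphaDual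

open GmLift DualPts GaExtLocal
open GaExt (B0 rW rW_comp)

variable (p : ℕ) [Fact p.Prime] {R : Type u} [CommRing R] [CharP R p]

theorem natCast_eq_zero (W : Over (B0 R)) : (p : Γ(W.left, ⊤)) = 0 := by
  rw [← map_natCast (rW W), CharP.cast_eq_zero, map_zero]

/-- The truncated exponential of a function. -/
noncomputable def expo {W : Over (B0 R)} (t : Γ(W.left, ⊤)) : Γ(W.left, ⊤) :=
  ∑ j ∈ Finset.range p, rW W (Ring.inverse (j.factorial : R)) * t ^ j

theorem expo_map {W W' : Over (B0 R)} (h : W' ⟶ W) (t : Γ(W.left, ⊤)) :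
    expo p (h.left.appTop t) = h.left.appTop (expo p t) := by
  rw [expo, expo, map_sum]
  refine Finset.sum_congr rfl fun j _ => ?_
  rw [map_mul, map_pow, ← rW_comp h]
  rfl

theorem expo_zero {W : Over (B0 R)} : expo p (0 : Γ(W.left, ⊤)) = 1 := by
  rw [expo, Finset.sum_eq_single 0]
  · simp
  · intro j _ hj
    rw [zero_pow hj, mul_zero]
  · exact fun h => absurd (Finset.mem_range.2 (Fact.out : p.Prime).pos) h

theorem expo_mul_add {W : Over (B0 R)} (a x y : Γ(W.left, ⊤)) (h : a ^ p = 0) :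
    expo p (a * (x + y)) = expo p (a * x) * expo p (a * y) := by
  letI := (rW W).toAlgebra
  rw [mul_add]
  refine expT_add (A := R) p (B := Γ(W.left, ⊤)) _ _ fun i j hij => ?_
  rw [mul_pow, mul_pow, mul_mul_mul_comm, ← pow_add, pow_eq_zero_of_le hij h, zero_mul]

theorem isUnit_expo {W : Over (B0 R)} (a x : Γ(W.left, ⊤)) (h : a ^ p = 0) : IsUnit (expo p (a * x)) :=
  IsUnit.of_mul_eq_one (expo p (a * -x)) (by rw [← expo_mul_add p a x (-x) h, add_neg_cancel, mul_zero, expo_zero])

variable {p}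
variable (F : Red.Ga (B0 R) ⟶ Red.Ga (B0 R)) [IsMonHom F]

/-- The endomorphism of the sheaf. -/
noncomputable abbrev fF : CGrpSh2.Ga Kf (B0 R) ⟶ CGrpSh2.Ga Kf (B0 R) := CGrpSh.ptsMap Kf F

/-- The kernel sheaf. -/
noncomputable abbrev Ker : BigSite.Ab Kf (B0 R) := kernel (fF F)

/-- The short complex. -/
noncomputable abbrev seq : ShortComplex (BigSite.Ab Kf (B0 R)) :=
  ShortComplex.mk (kernel.ι (fF F)) (fF F) (kernel.condition _)

/-- The function of a section of the kernel. -/
noncomputable def val {W : Over (B0 R)} (s : (Ker F).obj.obj (op W)) : Γ(W.left, ⊤) :=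
  gaVal ((kernel.ι (fF F)).hom.app (op W) s)

theorem val_map {W W' : Over (B0 R)} (h : W' ⟶ W) (s : (Ker F).obj.obj (op W)) :
    val F ((Ker F).obj.map h.op s) = h.left.appTop (val F s) := by
  rw [val, val, ← gaVal_map]
  exact congrArg gaVal (ConcreteCategory.congr_hom ((kernel.ι (fF F)).hom.naturality h.op) s)

theorem val_add {W : Over (B0 R)} (s t : (Ker F).obj.obj (op W)) : val F (s + t) = val F s + val F t := by
  rw [val, map_add, gaVal_add]
  rfl

theorem val_inj {W : Over (B0 R)} {s t : (Ker F).obj.obj (op W)} (h : val F s = val F t) : s = t := by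
  haveI : Mono (kernel.ι (fF F)).hom := inferInstanceAs (Mono ((sheafToPresheaf _ _).map (kernel.ι (fF F))))
  exact (AddCommGrpCat.mono_iff_injective _).1 ((NatTrans.mono_iff_mono_app _).1 inferInstance (op W)) (gaVal_inj h)

variable (hF : ∀ (T : Over (B0 R)) (x : T ⟶ Red.Ga (B0 R)), Red.gaFn (x ≫ F) = Red.gaFn x ^ p)
include hF

theorem gaVal_fF {W : Over (B0 R)} (x : (CGrpSh2.Ga Kf (B0 R)).obj.obj (op W)) :
    gaVal ((fF F).hom.app (op W) x) = gaVal x ^ p :=
  hF W x.down.toMul

theorem val_pow {W : Over (B0 R)} (s : (Ker F).obj.obj (op W)) : val F s ^ p = 0 := by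
  rw [val, ← gaVal_fF F hF]
  have := ConcreteCategory.congr_hom (congrArg (fun m : Ker F ⟶ CGrpSh2.Ga Kf (B0 R) => m.hom.app (op W))
    (kernel.condition (fF F))) s
  exact (congrArg gaVal this).trans gaVal_zero

theorem exists_val {W : Over (B0 R)} (a : Γ(W.left, ⊤)) (ha : a ^ p = 0) :
    ∃ s : (Ker F).obj.obj (op W), val F s = a := by
  let E := sheafToPresheaf (QuotSh.J Kf (B0 R)) AddCommGrpCat.{u + 1} ⋙ (evaluation _ _).obj (op W)
  haveI : Mono (seq F).f := inferInstanceAs (Mono (kernel.ι (fF F)))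
  have hex : (seq F).Exact := ShortComplex.exact_of_f_is_kernel _ (kernelIsKernel (fF F))
  have h := hex.map_of_mono_of_preservesKernel E inferInstance inferInstance
  rw [ShortComplex.ab_exact_iff] at h
  obtain ⟨s, hs⟩ := h (gaSec Kf a) (gaVal_inj (show gaVal ((fF F).hom.app (op W) (gaSec Kf a)) = gaVal 0 by
    rw [gaVal_fF F hF, gaVal_gaSec, ha, gaVal_zero]))
  exact ⟨s, (congrArg gaVal hs).trans (gaVal_gaSec a)⟩

theorem epi_fF : Epi (fF F) := by
  rw [← Sheaf.isLocallySurjective_iff_epi' (A := AddCommGrpCat.{u + 1})]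
  refine ⟨fun {U} x => ?_⟩
  let Yc : U.left.affineOpens → Over (B0 R) := fun V => Over.mk (V.2.fromSpec ≫ U.hom)
  let g : ∀ V, Yc V ⟶ U := fun V => Over.homMk V.2.fromSpec rfl
  have hmem : Sieve.ofArrows Yc g ∈ QuotSh.J Kf (B0 R) U := by
    rw [GrothendieckTopology.mem_over_iff, Sieve.overEquiv_ofArrows]
    refine Precoverage.generate_mem_toGrothendieck
      ((Scheme.ofArrows_mem_precoverage_iff _).2 ⟨fun q => ?_, fun V => ⟨?_, ?_⟩⟩)
    · obtain ⟨V, hV, hq, -⟩ := exists_isAffineOpen_mem_and_subset (X := U.left) (x := q) (U := ⊤) trivial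
      refine ⟨⟨V, hV⟩, ?_⟩
      change q ∈ Set.range hV.fromSpec
      rw [hV.range_fromSpec]
      exact hq
    · exact inferInstanceAs (Flat V.2.fromSpec)
    · exact inferInstanceAs (LocallyOfFinitePresentation V.2.fromSpec)
  refine (QuotSh.J Kf (B0 R)).transitive hmem _ fun W f hf => ?_
  obtain ⟨W'', i, _, ⟨V⟩, rfl⟩ := hf
  rw [Sieve.pullback_comp]
  refine (QuotSh.J Kf (B0 R)).pullback_stable i ?_
  let A : Type u := Γ(U.left, V.1)
  let b : A := γ A ((g V).left.appTop (gaVal x))
  let P : A[X] := X ^ p - C b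
  have hP : P.Monic := monic_X_pow_sub_C b (Fact.out : p.Prime).ne_zero
  haveI : Module.Free A (AdjoinRoot P) := Module.Free.of_basis (AdjoinRoot.powerBasis' hP).basis
  haveI : Module.FaithfullyFlat A (AdjoinRoot P) := by
    rcases subsingleton_or_nontrivial A with hA | hA
    · exact { submodule_ne_top := fun m hm => absurd (Subsingleton.elim m ⊤) hm.ne_top }
    · haveI : Nontrivial (AdjoinRoot P) := Ideal.Quotient.nontrivial_iff.2 (by
        rw [Ne, Ideal.span_singleton_eq_top, hP.isUnit_iff]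
        intro h
        have h' := congrArg natDegree h
        rw [natDegree_X_pow_sub_C, natDegree_one] at h'
        exact (Fact.out : p.Prime).ne_zero h')
      infer_instance
  refine GaExtSheaf.mem_of_cover (y := (Yc V).hom) _ (AdjoinRoot P) ?_
  refine GrothendieckTopology.covering_of_eq_top _ (Sieve.ext fun Z h => ⟨fun _ => trivial, fun _ => ?_⟩)
  refine (Presheaf.imageSieve (fF F).hom x).downward_closed (f := algHom (Yc V).hom (AdjoinRoot P) ≫ g V)
    ⟨gaSec Kf ((γ (AdjoinRoot P)).symm (AdjoinRoot.root P)), ?_⟩ h |> fun h => by simpa [Sieve.pullback_apply] using h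
  refine gaVal_inj ?_
  rw [gaVal_fF F hF, gaVal_gaSec, gaVal_map, Over.comp_left, Scheme.Hom.comp_appTop]
  apply (γ (AdjoinRoot P)).injective
  rw [map_pow, RingEquiv.apply_symm_apply]
  refine Eq.trans ?_ (γ_hom (algebraMap A (AdjoinRoot P)) rfl _).symm
  have h0 := AdjoinRoot.eval₂_root P
  rw [eval₂_sub, eval₂_pow, eval₂_X, eval₂_C, sub_eq_zero] at h0
  exact h0

/-- The value of the pairing. -/
noncomputable def chiHom {T : Over (B0 R)} (s : (Ker F).obj.obj (op T)) {W : Over (B0 R)} (g : W ⟶ T) :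
    (Ker F).obj.obj (op W) →+ (CGrpSh2.Gm Kf (B0 R)).obj.obj (op W) :=
  AddMonoidHom.mk' (fun x => gmSec Kf (expo p (g.left.appTop (val F s) * val F x))
      (isUnit_expo p _ _ (by rw [← map_pow, val_pow F hF, map_zero]))) fun x x' => gmVal_inj (K := Kf) (by
    rw [gmVal_add, gmVal_gmSec, gmVal_gmSec, gmVal_gmSec, val_add,
      expo_mul_add p _ _ _ (by rw [← map_pow, val_pow F hF, map_zero])])

theorem gmVal_chiHom {T : Over (B0 R)} (s : (Ker F).obj.obj (op T)) {W : Over (B0 R)} (g : W ⟶ T)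
    (x : (Ker F).obj.obj (op W)) :
    gmVal (K := Kf) (chiHom F hF s g x) = expo p (g.left.appTop (val F s) * val F x) :=
  by rw [chiHom, AddMonoidHom.mk'_apply, gmVal_gmSec]

/-- The character of a section. -/
noncomputable def chi {T : Over (B0 R)} (s : (Ker F).obj.obj (op T)) :
    (Ker F).over T ⟶ (CGrpSh2.Gm Kf (B0 R)).over T :=
  ⟨{ app := fun U => ConcreteCategory.ofHom (C := AddCommGrpCat.{u + 1})
      (X := (Ker F).obj.obj (op (unop U).left)) (Y := (CGrpSh2.Gm Kf (B0 R)).obj.obj (op (unop U).left))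
      (chiHom F hF s (unop U).hom)
     naturality := fun U U' h => AddCommGrpCat.ext fun x => gmVal_inj (K := Kf) (by
       change gmVal (K := Kf) (chiHom F hF s (unop U').hom ((Ker F).obj.map h.unop.left.op x)) =
         gmVal (K := Kf) ((CGrpSh2.Gm Kf (B0 R)).obj.map h.unop.left.op (chiHom F hF s (unop U).hom x))
       rw [gmVal_map, gmVal_chiHom, gmVal_chiHom, val_map, ← expo_map, map_mul, ← Over.w h.unop,
         Over.comp_left, Scheme.Hom.comp_appTop]
       rfl) }⟩

theorem chi_add {T : Over (B0 R)} (s t : (Ker F).obj.obj (op T)) : chi F hF (s + t) = chi F hF s + chi F hF t := by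
  refine Sheaf.hom_ext (NatTrans.ext (funext fun U => AddCommGrpCat.ext fun x => gmVal_inj (K := Kf) ?_))
  change gmVal (K := Kf) (chiHom F hF (s + t) (unop U).hom x) =
    gmVal (K := Kf) (chiHom F hF s (unop U).hom x + chiHom F hF t (unop U).hom x)
  rw [gmVal_add, gmVal_chiHom, gmVal_chiHom, gmVal_chiHom, val_add, map_add, mul_comm (_ + _),
    expo_mul_add p _ _ _ (val_pow F hF x), mul_comm (val F x), mul_comm (val F x)]

/-- The pairing as a morphism to the dual. -/
noncomputable def pairing : Ker F ⟶ CGrpSh2.dualSh Kf (Ker F) :=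
  ⟨{ app := fun T => AddCommGrpCat.ofHom (AddMonoidHom.mk' (fun s => chi F hF (T := unop T) s) (chi_add F hF))
     naturality := fun T T' f => AddCommGrpCat.ext fun s => by
       refine Sheaf.hom_ext (NatTrans.ext (funext fun U => AddCommGrpCat.ext fun x => gmVal_inj (K := Kf) ?_))
       change gmVal (K := Kf) (chiHom F hF ((Ker F).obj.map f s) (unop U).hom x) =
         gmVal (K := Kf) (chiHom F hF s ((unop U).hom ≫ f.unop) x)
       rw [gmVal_chiHom, gmVal_chiHom, Over.comp_left, Scheme.Hom.comp_appTop]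
       congr 2
       exact congrArg _ (val_map F f.unop s) }⟩

section Affine

variable {A : Type u} [CommRing A] (y : Spec (CommRingCat.of A) ⟶ B0 R)

/-- The coefficient map. -/
noncomputable def coef : R →+* A := (γ A).toRingHom.comp (rW (Over.mk y))

theorem gs_coef {W : Over (B0 R)} (g : W ⟶ Over.mk y) (r : R) : gs g (coef y r) = rW W r := by
  rw [← rW_comp g]
  exact congrArg g.left.appTop ((γ A).symm_apply_apply _)

omit hF

theorem monic_X_pow_p : (X ^ p : A[X]).Monic := monic_X_pow p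

include hF

theorem exists_universal :
    ∃ x₀ : (Ker F).obj.obj (op (alg y (AdjoinRoot (X ^ p : A[X])))),
      val F x₀ = (γ (AdjoinRoot (X ^ p : A[X]))).symm (AdjoinRoot.root _) := by
  refine exists_val F hF _ ?_
  rw [← map_pow (γ _).symm, show AdjoinRoot.root (X ^ p : A[X]) ^ p = 0 by
    rw [← AdjoinRoot.mk_X, ← map_pow, AdjoinRoot.mk_self], map_zero]

/-- The polynomial of a character. -/
theorem exists_poly (χ : (Ker F).over (Over.mk y) ⟶ (CGrpSh2.Gm Kf (B0 R)).over (Over.mk y)) :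
    ∃ f : A[X], (∀ i, p ≤ i → f.coeff i = 0) ∧
      ∀ (W : Over (B0 R)) (g : W ⟶ Over.mk y) (x : (Ker F).obj.obj (op W)),
        gmVal (K := Kf) (χ.hom.app (op (Over.mk g)) x) = f.eval₂ (gs g) (val F x) := by
  obtain ⟨x₀, hx₀⟩ := exists_universal F hF y
  let Q : A[X] := X ^ p
  let z : AdjoinRoot Q := γ (AdjoinRoot Q) (gmVal (K := Kf) (χ.hom.app (op (Over.mk (algHom y (AdjoinRoot Q)))) x₀))
  obtain ⟨f₀, hf₀⟩ := AdjoinRoot.mk_surjective z
  refine ⟨f₀ %ₘ Q, fun i hi => ?_, fun W g x => ?_⟩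
  · rcases subsingleton_or_nontrivial A with hA | hA
    · exact Subsingleton.elim _ _
    · refine coeff_eq_zero_of_degree_lt (lt_of_lt_of_le (degree_modByMonic_lt _ (monic_X_pow p)) ?_)
      rw [degree_X_pow]
      exact_mod_cast hi
  · have hk : (Q).eval₂ (gs g) (val F x) = 0 := by simp [Q, val_pow F hF]
    let m : W ⟶ alg y (AdjoinRoot Q) := cls g (AdjoinRoot.lift (gs g) (val F x) hk)
      (RingHom.ext fun r => AdjoinRoot.lift_of hk)
    have hm : m ≫ algHom y (AdjoinRoot Q) = g := cls_algHom _ _ _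
    have hx : (Ker F).obj.map m.op x₀ = x := val_inj F (by
      rw [val_map, hx₀, cls_appTop, AdjoinRoot.lift_root])
    have hnat := ConcreteCategory.congr_hom (χ.hom.naturality
      (Over.homMk m hm : Over.mk g ⟶ Over.mk (algHom y (AdjoinRoot Q))).op) x₀
    calc gmVal (K := Kf) (χ.hom.app (op (Over.mk g)) x)
        = gmVal (K := Kf) (χ.hom.app (op (Over.mk g)) ((Ker F).obj.map m.op x₀)) := by rw [hx]
      _ = gmVal (K := Kf) ((CGrpSh2.Gm Kf (B0 R)).obj.map m.op (χ.hom.app (op (Over.mk (algHom y (AdjoinRoot Q)))) x₀)) :=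
          congrArg (gmVal (K := Kf)) hnat
      _ = m.left.appTop ((γ (AdjoinRoot Q)).symm z) := by
          rw [gmVal_map]
          exact congrArg m.left.appTop ((γ (AdjoinRoot Q)).symm_apply_apply _).symm
      _ = (f₀ %ₘ Q).eval₂ (gs g) (val F x) := by
          rw [cls_appTop, ← hf₀, AdjoinRoot.lift_mk]
          conv_lhs => rw [← modByMonic_add_div f₀ Q]
          rw [eval₂_add, eval₂_mul, hk, zero_mul, add_zero]

theorem eq_expT [Nontrivial A] (χ : (Ker F).over (Over.mk y) ⟶ (CGrpSh2.Gm Kf (B0 R)).over (Over.mk y))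
    {f : A[X]} (hdeg : ∀ i, p ≤ i → f.coeff i = 0)
    (hf : ∀ (W : Over (B0 R)) (g : W ⟶ Over.mk y) (x : (Ker F).obj.obj (op W)),
      gmVal (K := Kf) (χ.hom.app (op (Over.mk g)) x) = f.eval₂ (gs g) (val F x)) :
    ∃ a : A, a ^ p = 0 ∧
      f = ∑ j ∈ Finset.range p, Polynomial.C (coef y (Ring.inverse (j.factorial : R)) * a ^ j) * X ^ j := by
  classical
  have hp : p.Prime := Fact.out
  haveI : CharP A p := (CharP.charP_iff_prime_eq_zero hp).2 (by
    rw [← map_natCast (coef y), CharP.cast_eq_zero, map_zero])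
  have h0 : f.eval 0 = 1 := by
    apply (γ A).symm.injective
    have h := hf (Over.mk y) (𝟙 _) 0
    have hv : val F (0 : (Ker F).obj.obj (op (Over.mk y))) = 0 := by
      rw [val, map_zero, gaVal_zero]
    rw [map_zero, gmVal_zero, hv, eval₂_at_zero, gs_id, coeff_zero_eq_eval_zero] at h
    rw [map_one]
    exact h.symm
  let I : Ideal (MvPolynomial (Fin 2) A) :=
    Ideal.span {(MvPolynomial.X 0 ^ p : MvPolynomial (Fin 2) A), MvPolynomial.X 1 ^ p}
  let C2 := MvPolynomial (Fin 2) A ⧸ I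
  have hz : ∀ i : Fin 2, ((γ C2).symm (Ideal.Quotient.mk I (MvPolynomial.X i))) ^ p = 0 := by
    intro i
    rw [← map_pow, ← map_pow, Ideal.Quotient.eq_zero_iff_mem.2 ?_, map_zero]
    refine Ideal.subset_span ?_
    fin_cases i <;> simp
  obtain ⟨x0, hx0⟩ := exists_val F hF (W := alg y C2) _ (hz 0)
  obtain ⟨x1, hx1⟩ := exists_val F hF (W := alg y C2) _ (hz 1)
  have key : ∀ q : MvPolynomial (Fin 2) A,
      f.eval₂ (gs (algHom y C2)) ((γ C2).symm (Ideal.Quotient.mk I q)) =
        (γ C2).symm (Ideal.Quotient.mk I (aeval q f)) := by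
    intro q
    rw [aeval_def, hom_eval₂, gs_algHom]
    exact (hom_eval₂ f _ (γ C2).symm.toRingHom _).symm
  have hadd := hf (alg y C2) (algHom y C2) (x0 + x1)
  rw [map_add, gmVal_add, hf, hf, val_add, hx0, hx1, ← map_add (γ C2).symm, ← map_add (Ideal.Quotient.mk I), key, key, key, ← map_mul (γ C2).symm,
    ← map_mul (Ideal.Quotient.mk I)] at hadd
  have hB : DPBelow f.coeff (p ^ 1) := by
    refine ⟨by rw [coeff_zero_eq_eval_zero, h0], fun i j hi hj => ?_⟩
    have hmul := ((γ C2).symm.injective hadd).symm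
    rw [Ideal.Quotient.eq, Ideal.mem_span_pair] at hmul
    obtain ⟨u, v, huv⟩ := hmul
    have := congrArg (MvPolynomial.coeff (e2 i j)) huv
    rw [MvPolynomial.coeff_sub, coeff_aeval_add, coeff_aeval_mul, MvPolynomial.coeff_add,
      MvPolynomial.X_pow_eq_monomial, MvPolynomial.X_pow_eq_monomial, MvPolynomial.coeff_mul_monomial',
      MvPolynomial.coeff_mul_monomial', if_neg, if_neg, add_zero] at this
    · exact (sub_eq_zero.1 this.symm).symm
    · intro hle
      have := hle 1
      simp at this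
      rw [pow_one] at hi hj; omega
    · intro hle
      have := hle 0
      simp at this
      rw [pow_one] at hi hj; omega
  refine ⟨f.coeff 1, by simpa using hB.pow_eq_zero (n := 0) (by norm_num), ?_⟩
  have hd : f.natDegree < p ^ 1 := by
    rw [pow_one]
    by_contra hle
    rcases eq_or_ne f 0 with rfl | hf0
    · simp [hp.pos] at hle
    · exact leadingCoeff_ne_zero.2 hf0 (hdeg _ (not_lt.1 hle))
  refine (f.as_sum_range_C_mul_X_pow' hd).trans ((hB.sum_eq_prod le_rfl).trans ?_)
  rw [Finset.prod_range_one, pow_zero, expT]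
  refine Finset.sum_congr rfl fun j hj => ?_
  rw [mul_one]
  congr 3
  refine (isUnit_factorial (A := A) p (Finset.mem_range.1 hj)).mul_left_cancel ?_
  rw [Ring.mul_inverse_cancel _ (isUnit_factorial p (Finset.mem_range.1 hj)), ← map_natCast (coef y), ← map_mul,
    Ring.mul_inverse_cancel _ (isUnit_factorial p (Finset.mem_range.1 hj)), map_one]

theorem chi_surjective (χ : (Ker F).over (Over.mk y) ⟶ (CGrpSh2.Gm Kf (B0 R)).over (Over.mk y)) :
    ∃ s, chi F hF (T := Over.mk y) s = χ := by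
  obtain ⟨f, hdeg, hf⟩ := exists_poly F hF y χ
  suffices h : ∃ a : A, a ^ p = 0 ∧ ∀ (W : Over (B0 R)) (g : W ⟶ Over.mk y) (x : (Ker F).obj.obj (op W)),
      f.eval₂ (gs g) (val F x) = expo p (gs g a * val F x) by
    obtain ⟨a, ha, he⟩ := h
    obtain ⟨s, hs⟩ := exists_val F hF (W := Over.mk y) ((γ A).symm a) (by rw [← map_pow (γ A).symm, ha, map_zero])
    refine ⟨s, Sheaf.hom_ext (NatTrans.ext (funext fun U => AddCommGrpCat.ext fun x => gmVal_inj (K := Kf) ?_))⟩
    change gmVal (K := Kf) (chiHom F hF s (unop U).hom x) = _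
    rw [gmVal_chiHom, hs]
    exact (he _ _ _).symm.trans (hf _ (unop U).hom x).symm
  rcases subsingleton_or_nontrivial A with hA | hA
  · refine ⟨0, zero_pow (Fact.out : p.Prime).ne_zero, fun W g x => ?_⟩
    have h1 : (1 : Γ(W.left, ⊤)) = 0 := by rw [← map_one (gs g), Subsingleton.elim (1 : A) 0, map_zero]
    exact (subsingleton_of_zero_eq_one h1.symm).elim _ _
  · obtain ⟨a, ha, rfl⟩ := eq_expT F hF y χ hdeg hf
    refine ⟨a, ha, fun W g x => ?_⟩
    rw [expo, eval₂_finsetSum]
    refine Finset.sum_congr rfl fun j _ => ?_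
    rw [eval₂_mul, eval₂_C, eval₂_pow, eval₂_X, map_mul, map_pow, gs_coef F hF, mul_pow, mul_assoc]

theorem chi_injective {s : (Ker F).obj.obj (op (Over.mk y))} (h : chi F hF s = 0) : s = 0 := by
  have hv : val F (0 : (Ker F).obj.obj (op (Over.mk y))) = 0 := by rw [val, map_zero, gaVal_zero]
  rcases subsingleton_or_nontrivial A with hA | hA
  · refine val_inj F ((γ A).injective (Subsingleton.elim _ _))
  obtain ⟨x₀, hx₀⟩ := exists_universal F hF y
  let Q : A[X] := X ^ p
  have h1 : gmVal (K := Kf) (chiHom F hF s (algHom y (AdjoinRoot Q)) x₀) = 1 := by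
    have e : (chi F hF s).hom.app (op (Over.mk (algHom y (AdjoinRoot Q)))) x₀ = 0 := by
      rw [h]
      rfl
    exact (congrArg (gmVal (K := Kf)) e).trans gmVal_zero
  let a : A := γ A (val F s)
  rw [gmVal_chiHom, hx₀, show (algHom y (AdjoinRoot Q)).left.appTop (val F s) = gs (algHom y (AdjoinRoot Q)) a from
    (congrArg (algHom y (AdjoinRoot Q)).left.appTop ((γ A).symm_apply_apply _)).symm] at h1
  let f : A[X] := ∑ j ∈ Finset.range p, Polynomial.C (coef y (Ring.inverse (j.factorial : R)) * a ^ j) * X ^ j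
  have h2 : AdjoinRoot.mk Q (f - 1) = 0 := by
    rw [map_sub, map_one, sub_eq_zero, ← RingEquiv.apply_symm_apply (γ (AdjoinRoot Q)) (AdjoinRoot.mk Q f),
      ← map_one (γ (AdjoinRoot Q))]
    refine congrArg _ (Eq.trans ?_ h1)
    rw [expo, map_sum, map_sum]
    refine Finset.sum_congr rfl fun j _ => ?_
    rw [map_mul (AdjoinRoot.mk Q), map_pow, AdjoinRoot.mk_X, AdjoinRoot.mk_C, map_mul, map_mul, map_mul, map_pow,
      map_pow, mul_pow, mul_assoc, gs_algHom, ← gs_coef F hF y (algHom y (AdjoinRoot Q)), gs_algHom]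
    simp only [map_pow]
    rfl
  rw [AdjoinRoot.mk_eq_zero, X_pow_dvd_iff] at h2
  have h3 := h2 1 (Fact.out : p.Prime).one_lt
  simp only [f, coeff_sub, finsetSum_coeff, coeff_C_mul, coeff_X_pow, coeff_one] at h3
  rw [Finset.sum_eq_single 1 (fun j _ hj => by simp [Ne.symm hj])
    (fun h => absurd (Finset.mem_range.2 (Fact.out : p.Prime).one_lt) h)] at h3
  simp only [Nat.factorial_one, Nat.cast_one, Ring.inverse_one, map_one, one_mul, pow_one, if_true, mul_one,
    one_ne_zero, if_false, sub_zero] at h3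
  refine val_inj F (hv.symm ▸ (γ A).injective ?_)
  rw [map_zero]
  exact h3

end Affine

theorem isIso_pairing : IsIso (pairing F hF) := by
  haveI : Mono (pairing F hF) := by
    haveI : ∀ T, Mono ((pairing F hF).hom.app T) := fun T => by
      rw [AddCommGrpCat.mono_iff_injective]
      refine (injective_iff_map_eq_zero _).2 fun s hs => ?_
      refine eq_of_affine _ (unop T) s 0 fun D _ z j => ?_
      rw [map_zero]
      refine chi_injective F hF z ?_
      refine Eq.trans (ConcreteCategory.congr_hom ((pairing F hF).hom.naturality j.op) s) ?_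
      exact (congrArg ((CGrpSh2.dualSh Kf (Ker F)).obj.map j.op) hs).trans (map_zero _)
    haveI : Mono (pairing F hF).hom := NatTrans.mono_of_mono_app _
    exact (sheafToPresheaf _ _).mono_of_mono_map this
  haveI : Epi (pairing F hF) := by
    rw [← Sheaf.isLocallySurjective_iff_epi' (A := AddCommGrpCat.{u + 1})]
    refine ⟨fun {U} χ => ?_⟩
    let Y : U.left.affineOpens → Over (B0 R) := fun V => Over.mk (V.2.fromSpec ≫ U.hom)
    let g : ∀ V, Y V ⟶ U := fun V => Over.homMk V.2.fromSpec rfl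
    refine (QuotSh.J Kf (B0 R)).superset_covering (S := Sieve.ofArrows Y g) ?_ ?_
    · rintro Z f ⟨_, i, _, ⟨V⟩, rfl⟩
      refine (Presheaf.imageSieve (pairing F hF).hom χ).downward_closed ?_ i
      obtain ⟨s, hs⟩ := chi_surjective F hF (V.2.fromSpec ≫ U.hom)
        ((CGrpSh2.dualSh Kf (Ker F)).obj.map (g V).op χ)
      exact ⟨s, hs⟩
    · rw [GrothendieckTopology.mem_over_iff, Sieve.overEquiv_ofArrows]
      refine Precoverage.generate_mem_toGrothendieck
        ((Scheme.ofArrows_mem_precoverage_iff _).2 ⟨fun q => ?_, fun V => ⟨?_, ?_⟩⟩)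
      · obtain ⟨V, hV, hq, -⟩ := exists_isAffineOpen_mem_and_subset (X := U.left) (x := q) (U := ⊤) trivial
        refine ⟨⟨V, hV⟩, ?_⟩
        change q ∈ Set.range hV.fromSpec
        rw [hV.range_fromSpec]
        exact hq
      · exact inferInstanceAs (Flat V.2.fromSpec)
      · exact inferInstanceAs (LocallyOfFinitePresentation V.2.fromSpec)
  exact isIso_of_mono_of_epi _

theorem bijective_H_map (i : ℕ) (hi : 2 < i) :
    Function.Bijective (Sheaf.H.map ((CGrpSh2.dualFunctor Kf (B0 R)).map (fF F).op) i) := by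
  haveI := epi_fF F hF
  haveI := isIso_pairing F hF
  have hS : (seq F).ShortExact :=
    { exact := ShortComplex.exact_of_f_is_kernel _ (kernelIsKernel (fF F)) }
  have hGa : ∀ q, 0 < q → ∀ x : BigSite.H Kf (B0 R) (CGrpSh2.Ga Kf (B0 R)) q, x = 0 := fun q hq x => by
    haveI := subsingleton_H_Ga (S := B0 R) q hq
    exact Subsingleton.elim _ _
  have hK : ∀ q, 1 < q → ∀ x : BigSite.H Kf (B0 R) (CGrpSh2.dualSh Kf (Ker F)) q, x = 0 := by
    intro q hq x
    obtain ⟨n, rfl⟩ := Nat.exists_eq_add_one_of_ne_zero (by omega : q ≠ 0)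
    have h1 : ∀ z : BigSite.H Kf (B0 R) (Ker F) (n + 1), z = 0 := by
      intro z
      obtain ⟨w, hw⟩ := Abelian.Ext.covariant_sequence_exact₁ _ hS z (hGa _ (Nat.succ_pos n) _) rfl
      rw [← hw, hGa n (by omega) w, Abelian.Ext.zero_comp]
    have h2 := h1 (x.comp (Abelian.Ext.mk₀ (inv (pairing F hF))) (add_zero _))
    have h3 := congrArg (fun z => Abelian.Ext.comp z (Abelian.Ext.mk₀ (pairing F hF)) (add_zero _)) h2
    simpa using h3
  have hD := DualExact.shortExact_dualSC (QuotSh.J Kf (B0 R)) (CGrpSh2.Gm Kf (B0 R)) hS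
    (GaExtSheaf.isZero_extSh_one p (by simpa using natCast_eq_zero p (Over.mk (𝟙 (B0 R)))))
  refine ⟨(injective_iff_map_eq_zero _).2 fun x hx => ?_, fun x => ?_⟩
  · obtain ⟨n, rfl⟩ := Nat.exists_eq_add_one_of_ne_zero (by omega : i ≠ 0)
    obtain ⟨w, hw⟩ := Abelian.Ext.covariant_sequence_exact₁ _ hD x hx rfl
    rw [← hw, show w = 0 from hK n (by omega) w, Abelian.Ext.zero_comp]
  · obtain ⟨w, hw⟩ := Abelian.Ext.covariant_sequence_exact₂ _ hD x (hK i (by omega) _)
    exact ⟨w, hw⟩

end Groth.Agent.H23Ga.AlphaDual
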