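import Groth.Agent.H23Ga.Split

/-!
Multiplicative symmetric cocycles of `R[X, Y] / (X ^ q, Y ^ q)`, `q = p ^ n`, split when Frobenius is surjective.

Induction on the total degree: the leading part of the error is an additive cocycle, removed by a truncated exponential
(carry part) and a factor `1 + g X ^ N` (coboundary part).
-/

set_option autoImplicit false

universe u

open Finset

namespace Groth.Agent.H23Ga.Trunc

variable {R : Type u} [CommRing R] {σ τ : Type*}

/-- Exponents below `q`. -/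
def Small (q : ℕ) (d : σ →₀ ℕ) : Prop := ∀ i, d i < q

/-- Polynomials whose coefficients at small exponents of degree below `N` vanish. -/
noncomputable def Fil (q N : ℕ) : Ideal (MvPolynomial σ R) where
  carrier := { P | ∀ d, Small q d → d.degree < N → P.coeff d = 0 }
  add_mem' := fun hP hQ d h1 h2 => by rw [MvPolynomial.coeff_add, hP d h1 h2, hQ d h1 h2, add_zero]
  zero_mem' := fun d _ _ => MvPolynomial.coeff_zero d
  smul_mem' := fun c P hP d h1 h2 => by
    classical
    rw [smul_eq_mul, MvPolynomial.coeff_mul]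
    refine Finset.sum_eq_zero fun x hx => ?_
    rw [Finset.HasAntidiagonal.mem_antidiagonal] at hx
    subst hx
    rw [hP x.2 (fun i => lt_of_le_of_lt (Nat.le_add_left _ _) (h1 i))
      (lt_of_le_of_lt (by rw [map_add]; exact Nat.le_add_left _ _) h2), mul_zero]

theorem mem_Fil_iff {q N : ℕ} {P : MvPolynomial σ R} :
    P ∈ Fil q N ↔ ∀ d, Small q d → d.degree < N → P.coeff d = 0 := Iff.rfl

theorem mem_Fil_zero (q : ℕ) (P : MvPolynomial σ R) : P ∈ Fil q 0 := fun d _ h => absurd h (Nat.not_lt_zero _)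

theorem mem_Fil_one {q : ℕ} {P : MvPolynomial σ R} (h : MvPolynomial.constantCoeff P = 0) : P ∈ Fil q 1 :=
  fun d _ hd => by rw [(Finsupp.degree_eq_zero_iff d).1 (by omega), ← MvPolynomial.constantCoeff_eq, h]

theorem Fil_anti {q N N' : ℕ} (h : N ≤ N') : Fil (σ := σ) (R := R) q N' ≤ Fil q N :=
  fun _ hP d h1 h2 => hP d h1 (h2.trans_le h)

theorem mul_mem_Fil {q a b : ℕ} {P Q : MvPolynomial σ R} (hP : P ∈ Fil q a) (hQ : Q ∈ Fil q b) :
    P * Q ∈ Fil q (a + b) := fun d h1 h2 => by
  classical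
  rw [MvPolynomial.coeff_mul]
  refine Finset.sum_eq_zero fun x hx => ?_
  rw [Finset.HasAntidiagonal.mem_antidiagonal] at hx
  subst hx
  rw [map_add] at h2
  rcases lt_or_ge x.1.degree a with h | h
  · rw [hP x.1 (fun i => lt_of_le_of_lt (Nat.le_add_right _ _) (h1 i)) h, zero_mul]
  · rw [hQ x.2 (fun i => lt_of_le_of_lt (Nat.le_add_left _ _) (h1 i)) (by omega), mul_zero]

theorem pow_mem_Fil {q : ℕ} {P : MvPolynomial σ R} (hP : P ∈ Fil q 1) : ∀ k, P ^ k ∈ Fil q k
  | 0 => mem_Fil_zero q _
  | k + 1 => by rw [pow_succ]; exact mul_mem_Fil (pow_mem_Fil hP k) hP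

theorem mul_mem_succ {q N : ℕ} {P Q : MvPolynomial σ R} (hP : MvPolynomial.constantCoeff P = 0)
    (hQ : Q ∈ Fil q N) : P * Q ∈ Fil q (N + 1) := by
  rw [Nat.add_comm]
  exact mul_mem_Fil (mem_Fil_one hP) hQ

/-- The relations of the truncation. -/
def Vanish (q : ℕ) (P : MvPolynomial σ R) : Prop := ∀ d, Small q d → P.coeff d = 0

theorem Vanish.mem {q : ℕ} {P : MvPolynomial σ R} (h : Vanish q P) (N : ℕ) : P ∈ Fil q N := fun d hd _ => h d hd

theorem vanish_X_pow (q : ℕ) (i : σ) : Vanish q (MvPolynomial.X i ^ q : MvPolynomial σ R) := fun d hd => by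
  classical
  rw [MvPolynomial.X_pow_eq_monomial, MvPolynomial.coeff_monomial, if_neg]
  rintro rfl
  exact lt_irrefl q (by simpa using hd i)

theorem constantCoeff_aeval {v : σ → MvPolynomial τ R} (hv : ∀ i, MvPolynomial.constantCoeff (v i) = 0)
    (P : MvPolynomial σ R) :
    MvPolynomial.constantCoeff (MvPolynomial.aeval v P) = MvPolynomial.constantCoeff P :=
  DFunLike.congr_fun (MvPolynomial.ringHom_ext (f := MvPolynomial.constantCoeff.comp (MvPolynomial.aeval v).toRingHom)
    (g := MvPolynomial.constantCoeff) (fun r => by simp) fun i => by simp [hv i]) P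

theorem constantCoeff_aeval' {t : MvPolynomial τ R} (ht : MvPolynomial.constantCoeff t = 0) (f : Polynomial R) :
    MvPolynomial.constantCoeff (Polynomial.aeval t f) = f.coeff 0 := by
  rw [Polynomial.aeval_def, Polynomial.hom_eval₂, MvPolynomial.algebraMap_eq, MvPolynomial.constantCoeff_comp_C, ht,
    Polynomial.coeff_zero_eq_eval_zero]
  rfl

theorem aeval_mem_Fil {q N : ℕ} (hq : 0 < q) {v : σ → MvPolynomial τ R}
    (hv : ∀ i, MvPolynomial.constantCoeff (v i) = 0) (hvq : ∀ i, Vanish q (v i ^ q)) {P : MvPolynomial σ R}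
    (hP : P ∈ Fil q N) : MvPolynomial.aeval v P ∈ Fil q N := by
  classical
  rw [P.as_sum, map_sum]
  refine sum_mem fun d hd => ?_
  rw [MvPolynomial.aeval_monomial]
  refine Ideal.mul_mem_left _ _ ?_
  by_cases hs : Small q d
  · have hdeg : N ≤ d.degree := by
      by_contra h
      exact MvPolynomial.mem_support_iff.1 hd (hP d hs (by omega))
    refine Fil_anti hdeg ?_
    rw [Finsupp.prod, show d.degree = ∑ i ∈ d.support, d i from Finsupp.degree_apply d]
    induction d.support using Finset.induction_on with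
    | empty => exact mem_Fil_zero q _
    | @insert a s ha ih =>
      rw [Finset.prod_insert ha, Finset.sum_insert ha]
      exact mul_mem_Fil (pow_mem_Fil (mem_Fil_one (hv a)) (d a)) ih
  · obtain ⟨i, hi⟩ : ∃ i, q ≤ d i := by
      unfold Small at hs
      push Not at hs
      exact hs
    have hi' : i ∈ d.support := Finsupp.mem_support_iff.2 (by omega)
    rw [Finsupp.prod, ← Finset.mul_prod_erase _ _ hi', ← Nat.add_sub_cancel' hi, pow_add, mul_assoc]
    exact Ideal.mul_mem_right _ _ ((hvq i).mem N)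

theorem degree_e2 (i j : ℕ) : (e2 i j).degree = i + j := by simp [e2]

theorem degree_e3 (a b c : ℕ) : (e3 a b c).degree = a + b + c := by simp [e3]

theorem small_e2 {q i j : ℕ} : Small q (e2 i j) ↔ i < q ∧ j < q := by simp [Small, Fin.forall_fin_two]

theorem small_e3 {q a b c : ℕ} : Small q (e3 a b c) ↔ a < q ∧ b < q ∧ c < q := by simp [Small, Fin.forall_fin_succ]

/-- `f(X) f(Y) h - f(X + Y)`. -/
noncomputable def dev (f : Polynomial R) (h : MvPolynomial (Fin 2) R) : MvPolynomial (Fin 2) R :=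
  Polynomial.aeval (MvPolynomial.X 0 : MvPolynomial (Fin 2) R) f *
      Polynomial.aeval (MvPolynomial.X 1 : MvPolynomial (Fin 2) R) f * h -
    Polynomial.aeval (MvPolynomial.X 0 + MvPolynomial.X 1 : MvPolynomial (Fin 2) R) f

theorem aeval_dev (v : Fin 2 → MvPolynomial τ R) (f : Polynomial R) (h : MvPolynomial (Fin 2) R) :
    MvPolynomial.aeval v (dev f h) =
      Polynomial.aeval (v 0) f * Polynomial.aeval (v 1) f * MvPolynomial.aeval v h - Polynomial.aeval (v 0 + v 1) f := by
  rw [dev, map_sub, map_mul, map_mul, ← Polynomial.aeval_algHom_apply, ← Polynomial.aeval_algHom_apply,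
    ← Polynomial.aeval_algHom_apply, map_add, MvPolynomial.aeval_X, MvPolynomial.aeval_X]

variable (p : ℕ) [Fact p.Prime] [CharP R p]

theorem vanish_add_pow {n : ℕ} (i j : σ) :
    Vanish (p ^ n) ((MvPolynomial.X i + MvPolynomial.X j : MvPolynomial σ R) ^ p ^ n) := fun d hd => by
  rw [add_pow_char_pow, MvPolynomial.coeff_add, vanish_X_pow _ i d hd, vanish_X_pow _ j d hd, add_zero]

/-- The four substitutions of the cocycle condition. -/
noncomputable def assocDiff (F : MvPolynomial (Fin 2) R) : MvPolynomial (Fin 3) R :=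
  MvPolynomial.aeval ![MvPolynomial.X 0, MvPolynomial.X 1 + MvPolynomial.X 2] F
    + MvPolynomial.aeval ![MvPolynomial.X 1, MvPolynomial.X 2] F
    - MvPolynomial.aeval ![MvPolynomial.X 0 + MvPolynomial.X 1, MvPolynomial.X 2] F
    - MvPolynomial.aeval ![MvPolynomial.X 0, MvPolynomial.X 1] F

section Cocycle

variable {n N : ℕ} {D : MvPolynomial (Fin 2) R} (hD : D ∈ Fil (p ^ n) N)

omit [Fact p.Prime] [CharP R p] in
include hD in
theorem exists_leading : ∃ c : MvPolynomial (Fin 2) R, D - c ∈ Fil (p ^ n) (N + 1) ∧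
    ∀ i j, c.coeff (e2 i j) = if i + j = N ∧ i < p ^ n ∧ j < p ^ n then D.coeff (e2 i j) else 0 := by
  classical
  refine ⟨∑ i ∈ range (N + 1), MvPolynomial.monomial (e2 i (N - i))
    (if i < p ^ n ∧ N - i < p ^ n then D.coeff (e2 i (N - i)) else 0), ?_⟩
  have hc : ∀ i j, (∑ l ∈ range (N + 1), MvPolynomial.monomial (e2 l (N - l))
      (if l < p ^ n ∧ N - l < p ^ n then D.coeff (e2 l (N - l)) else 0)).coeff (e2 i j) =
      if i + j = N ∧ i < p ^ n ∧ j < p ^ n then D.coeff (e2 i j) else 0 := by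
    intro i j
    rw [MvPolynomial.coeff_sum]
    simp only [MvPolynomial.coeff_monomial, e2_inj]
    by_cases h : i + j = N
    · rw [Finset.sum_eq_single i]
      · rw [if_pos ⟨rfl, by omega⟩, show N - i = j by omega]
        simp [h]
      · intro b _ hb; rw [if_neg fun h' => hb h'.1]
      · intro h'; simp only [Finset.mem_range] at h'; omega
    · rw [if_neg fun h' => h h'.1, Finset.sum_eq_zero]
      intro b hb
      simp only [Finset.mem_range] at hb
      exact if_neg fun h' => h (by omega)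
  refine ⟨fun d hs hd => ?_, hc⟩
  rw [eq_e2 d] at hs hd ⊢
  rw [degree_e2] at hd
  rw [small_e2] at hs
  rw [MvPolynomial.coeff_sub, hc]
  split_ifs with h
  · exact sub_self _
  · rw [sub_zero]
    exact hD _ (small_e2.2 hs) (by rw [degree_e2]; omega)

theorem isCocycle_leading {c : MvPolynomial (Fin 2) R} (hc : D - c ∈ Fil (p ^ n) (N + 1))
    (hcoe : ∀ i j, c.coeff (e2 i j) = if i + j = N ∧ i < p ^ n ∧ j < p ^ n then D.coeff (e2 i j) else 0)
    (hs : MvPolynomial.aeval ![MvPolynomial.X 1, MvPolynomial.X 0] D - D ∈ Fil (p ^ n) (N + 1))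
    (ha : assocDiff D ∈ Fil (p ^ n) (N + 1)) : IsCocycle c := by
  have hq : 0 < p ^ n := pow_pos (Fact.out : p.Prime).pos n
  have hcz : ∀ i j, ¬ (i + j = N ∧ i < p ^ n ∧ j < p ^ n) → c.coeff (e2 i j) = 0 := fun i j h => by
    rw [hcoe, if_neg h]
  have hsub : ∀ {τ : Type} {v : Fin 2 → MvPolynomial τ R}, (∀ i, MvPolynomial.constantCoeff (v i) = 0) →
      (∀ i, Vanish (p ^ n) (v i ^ p ^ n)) →
      MvPolynomial.aeval v D - MvPolynomial.aeval v c ∈ Fil (p ^ n) (N + 1) := fun hv hvq => by
    rw [← map_sub]; exact aeval_mem_Fil hq hv hvq hc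
  have hsym : MvPolynomial.aeval ![MvPolynomial.X 1, MvPolynomial.X 0] c - c ∈ Fil (p ^ n) (N + 1) := by
    have h := hsub (v := ![(MvPolynomial.X 1 : MvPolynomial (Fin 2) R), MvPolynomial.X 0])
      (fun i => by fin_cases i <;> simp) (fun i => by fin_cases i <;> simpa using vanish_X_pow _ _)
    rw [show MvPolynomial.aeval ![(MvPolynomial.X 1 : MvPolynomial (Fin 2) R), MvPolynomial.X 0] c - c =
      (MvPolynomial.aeval ![(MvPolynomial.X 1 : MvPolynomial (Fin 2) R), MvPolynomial.X 0] D - D) -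
      (MvPolynomial.aeval ![(MvPolynomial.X 1 : MvPolynomial (Fin 2) R), MvPolynomial.X 0] D -
        MvPolynomial.aeval ![(MvPolynomial.X 1 : MvPolynomial (Fin 2) R), MvPolynomial.X 0] c) + (D - c) by ring]
    exact add_mem (sub_mem hs h) hc
  have hass : assocDiff c ∈ Fil (p ^ n) (N + 1) := by
    have h1 := hsub (v := ![(MvPolynomial.X 0 : MvPolynomial (Fin 3) R), MvPolynomial.X 1 + MvPolynomial.X 2])
      (fun i => by fin_cases i <;> simp)
      (fun i => by fin_cases i <;> first | simpa using vanish_X_pow _ _ | simpa using vanish_add_pow p _ _)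
    have h2 := hsub (v := ![(MvPolynomial.X 1 : MvPolynomial (Fin 3) R), MvPolynomial.X 2])
      (fun i => by fin_cases i <;> simp) (fun i => by fin_cases i <;> simpa using vanish_X_pow _ _)
    have h3 := hsub (v := ![(MvPolynomial.X 0 + MvPolynomial.X 1 : MvPolynomial (Fin 3) R), MvPolynomial.X 2])
      (fun i => by fin_cases i <;> simp)
      (fun i => by fin_cases i <;> first | simpa using vanish_X_pow _ _ | simpa using vanish_add_pow p _ _)
    have h4 := hsub (v := ![(MvPolynomial.X 0 : MvPolynomial (Fin 3) R), MvPolynomial.X 1])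
      (fun i => by fin_cases i <;> simp) (fun i => by fin_cases i <;> simpa using vanish_X_pow _ _)
    have h := sub_mem ha (sub_mem (sub_mem (add_mem h1 h2) h3) h4)
    convert h using 1
    simp only [assocDiff]
    ring
  constructor
  · refine MvPolynomial.ext _ _ fun d => ?_
    rw [eq_e2 d, coeff_swap]
    generalize d 0 = i, d 1 = j
    by_cases h : i + j = N ∧ i < p ^ n ∧ j < p ^ n
    · have := hsym (e2 i j) (small_e2.2 h.2) (by rw [degree_e2]; omega)
      rwa [MvPolynomial.coeff_sub, coeff_swap, sub_eq_zero] at this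
    · rw [hcz i j h, hcz j i fun h' => h ⟨by omega, h'.2.2, h'.2.1⟩]
  · refine MvPolynomial.ext _ _ fun d => ?_
    rw [eq_e3 d, MvPolynomial.coeff_zero]
    generalize d 0 = a, d 1 = b, d 2 = l
    by_cases h : a + b + l = N ∧ a < p ^ n ∧ b < p ^ n ∧ l < p ^ n
    · exact hass (e3 a b l) (small_e3.2 h.2) (by rw [degree_e3]; omega)
    · rw [MvPolynomial.coeff_sub, MvPolynomial.coeff_sub, MvPolynomial.coeff_add, coeff_add_right, coeff_add_left,
        coeff_X1X2, coeff_X0X1, hcz a (b + l) fun h' => h ⟨by omega, by omega⟩,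
        hcz (a + b) l fun h' => h ⟨by omega, by omega⟩]
      split_ifs with h1 h2 h3
      · rw [hcz b l fun h' => h ⟨by omega, by omega⟩, hcz a b fun h' => h ⟨by omega, by omega⟩]; simp
      · rw [hcz b l fun h' => h ⟨by omega, by omega⟩]; simp
      · rw [hcz a b fun h' => h ⟨by omega, by omega⟩]; simp
      · simp

end Cocycle

theorem dev_mul_sub_mem {q N : ℕ} {f e : Polynomial R} {h : MvPolynomial (Fin 2) R} (hf : f.coeff 0 = 1)
    (he : e.coeff 0 = 1) (hD : dev f h ∈ Fil q N) (hE : dev e 1 ∈ Fil q N) :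
    dev (f * e) h - (dev f h + dev e 1) ∈ Fil q (N + 1) := by
  rw [show dev (f * e) h - (dev f h + dev e 1) =
      (Polynomial.aeval (MvPolynomial.X 0 + MvPolynomial.X 1 : MvPolynomial (Fin 2) R) f - 1) * dev e 1 +
      (Polynomial.aeval (MvPolynomial.X 0 : MvPolynomial (Fin 2) R) e *
        Polynomial.aeval (MvPolynomial.X 1 : MvPolynomial (Fin 2) R) e - 1) * dev f h by
    simp only [dev, map_mul]; ring]
  refine add_mem (mul_mem_succ ?_ hE) (mul_mem_succ ?_ hD)
  · rw [map_sub, constantCoeff_aeval' (by simp), hf, map_one, sub_self]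
  · rw [map_sub, map_mul, constantCoeff_aeval' (by simp), constantCoeff_aeval' (by simp), he, map_one, mul_one,
      sub_self]

variable {p}

/-- The hypotheses on the truncated cocycle. -/
structure IsTruncCoc (n : ℕ) (h : MvPolynomial (Fin 2) R) : Prop where
  const : MvPolynomial.constantCoeff h = 1
  symm : Vanish (p ^ n) (MvPolynomial.aeval ![MvPolynomial.X 1, MvPolynomial.X 0] h - h)
  assoc : Vanish (p ^ n)
    (MvPolynomial.aeval ![(MvPolynomial.X 1 : MvPolynomial (Fin 3) R), MvPolynomial.X 2] h *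
        MvPolynomial.aeval ![MvPolynomial.X 0, MvPolynomial.X 1 + MvPolynomial.X 2] h -
      MvPolynomial.aeval ![MvPolynomial.X 0 + MvPolynomial.X 1, MvPolynomial.X 2] h *
        MvPolynomial.aeval ![MvPolynomial.X 0, MvPolynomial.X 1] h)

variable {n : ℕ} {h : MvPolynomial (Fin 2) R}

theorem dev_symm_mem (hh : IsTruncCoc (p := p) n h) (f : Polynomial R) (M : ℕ) :
    MvPolynomial.aeval ![MvPolynomial.X 1, MvPolynomial.X 0] (dev f h) - dev f h ∈ Fil (p ^ n) M := by
  rw [aeval_dev, dev]
  simp only [Matrix.cons_val_zero, Matrix.cons_val_one]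
  rw [add_comm (MvPolynomial.X 1 : MvPolynomial (Fin 2) R)]
  have := Ideal.mul_mem_left _ (Polynomial.aeval (MvPolynomial.X 0 : MvPolynomial (Fin 2) R) f *
    Polynomial.aeval (MvPolynomial.X 1 : MvPolynomial (Fin 2) R) f) (hh.symm.mem (N := M))
  convert this using 1
  ring

theorem dev_assoc_mem (hh : IsTruncCoc (p := p) n h) {f : Polynomial R} (hf : f.coeff 0 = 1) {N : ℕ}
    (hD : dev f h ∈ Fil (p ^ n) N) : assocDiff (dev f h) ∈ Fil (p ^ n) (N + 1) := by
  have hq : 0 < p ^ n := pow_pos (Fact.out : p.Prime).pos n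
  let v1 : Fin 2 → MvPolynomial (Fin 3) R := ![MvPolynomial.X 1, MvPolynomial.X 2]
  let v2 : Fin 2 → MvPolynomial (Fin 3) R := ![MvPolynomial.X 0, MvPolynomial.X 1 + MvPolynomial.X 2]
  let v3 : Fin 2 → MvPolynomial (Fin 3) R := ![MvPolynomial.X 0 + MvPolynomial.X 1, MvPolynomial.X 2]
  let v4 : Fin 2 → MvPolynomial (Fin 3) R := ![MvPolynomial.X 0, MvPolynomial.X 1]
  let P : Fin 3 → MvPolynomial (Fin 3) R := fun i => Polynomial.aeval (MvPolynomial.X i) f
  rw [show assocDiff (dev f h) =
      P 0 * P 1 * P 2 * (MvPolynomial.aeval v1 h * MvPolynomial.aeval v2 h -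
          MvPolynomial.aeval v3 h * MvPolynomial.aeval v4 h)
        - (P 0 * MvPolynomial.aeval v2 h - 1) * MvPolynomial.aeval v1 (dev f h)
        + (P 2 * MvPolynomial.aeval v3 h - 1) * MvPolynomial.aeval v4 (dev f h) by
    simp only [assocDiff, aeval_dev, v1, v2, v3, v4, P, Matrix.cons_val_zero, Matrix.cons_val_one, add_assoc]
    ring]
  refine add_mem (sub_mem (Ideal.mul_mem_left _ _ (hh.assoc.mem _)) (mul_mem_succ ?_ ?_)) (mul_mem_succ ?_ ?_)
  · rw [map_sub, map_mul, map_one, constantCoeff_aeval' (by simp),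
      constantCoeff_aeval (fun i => by fin_cases i <;> simp [v2]), hf, hh.const, mul_one, sub_self]
  · exact aeval_mem_Fil hq (fun i => by fin_cases i <;> simp [v1])
      (fun i => by fin_cases i <;> simpa [v1] using vanish_X_pow _ _) hD
  · rw [map_sub, map_mul, map_one, constantCoeff_aeval' (by simp),
      constantCoeff_aeval (fun i => by fin_cases i <;> simp [v3]), hf, hh.const, mul_one, sub_self]
  · exact aeval_mem_Fil hq (fun i => by fin_cases i <;> simp [v4])
      (fun i => by fin_cases i <;> simpa [v4] using vanish_X_pow _ _) hD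

/-- The carry part of the leading term is removed by a truncated exponential. -/
theorem exists_carry (hF : Function.Surjective (frobenius R p)) {f : Polynomial R} (hf : f.coeff 0 = 1) {N : ℕ}
    (hD : dev f h ∈ Fil (p ^ n) N) :
    ∃ f' : Polynomial R, f'.coeff 0 = 1 ∧ dev f' h ∈ Fil (p ^ n) N ∧
      ∀ k < n, N = p ^ (k + 1) → (dev f' h).coeff (e2 (p ^ k) (p ^ (k + 1) - p ^ k)) = 0 := by
  have hp : p.Prime := Fact.out
  by_cases hN : ∃ k < n, N = p ^ (k + 1)
  swap
  · exact ⟨f, hf, hD, fun k hk hk' => absurd ⟨k, hk, hk'⟩ hN⟩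
  obtain ⟨k, hk, rfl⟩ := hN
  have hq : 0 < p ^ k := pow_pos hp.pos k
  obtain ⟨s, hs⟩ := hF ((dev f h).coeff (e2 (p ^ k) (p ^ (k + 1) - p ^ k)))
  rw [frobenius_def] at hs
  let e := expT p s (p ^ k)
  have he : e.coeff 0 = 1 := by rw [Polynomial.coeff_zero_eq_eval_zero]; exact expT_eval_zero s hq
  have hdev : dev e 1 = scale s (p ^ k) (defect p) := by
    have hgen : ∀ t : MvPolynomial (Fin 2) R, Polynomial.aeval t e =
        Polynomial.aeval (MvPolynomial.C s * t ^ p ^ k) (E0 (R := R) p) := fun t => by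
      simp only [e, E0, expT, map_sum, map_mul, Polynomial.aeval_C, map_pow, Polynomial.aeval_X, one_pow,
        mul_one, MvPolynomial.algebraMap_eq, mul_pow, mul_assoc, ← pow_mul, mul_comm (p ^ k)]
    rw [dev, hgen, hgen, hgen, mul_one, add_pow_char_pow, mul_add, defect, map_sub, map_mul,
      ← Polynomial.aeval_algHom_apply, ← Polynomial.aeval_algHom_apply, ← Polynomial.aeval_algHom_apply, map_add]
    simp [scale]
  have hE : dev e 1 ∈ Fil (p ^ n) (p ^ (k + 1)) := fun d _ hd => by
    rw [eq_e2 d, degree_e2, pow_succ] at hd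
    rw [hdev, eq_e2 d, coeff_scale s hq]
    split_ifs with h'
    · rw [coeff_defect_of_lt p, mul_zero]
      rw [← Nat.add_div_of_dvd_left h'.2]
      exact Nat.div_lt_of_lt_mul hd
    · rfl
  have hmul := dev_mul_sub_mem hf he hD hE
  refine ⟨f * e, by rw [Polynomial.mul_coeff_zero, hf, he, mul_one], ?_, fun j _ hjk => ?_⟩
  · have := add_mem (Fil_anti (Nat.le_succ _) hmul) (add_mem hD hE)
    rwa [sub_add_cancel] at this
  obtain rfl : k = j := Nat.succ_injective (Nat.pow_right_injective hp.two_le hjk)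
  have hsub : p ^ (k + 1) - p ^ k = p ^ k * (p - 1) := by rw [pow_succ, Nat.mul_sub, mul_one]
  have hlt : p ^ (k + 1) ≤ p ^ n := Nat.pow_le_pow_right hp.pos hk
  have h0 := hmul (e2 (p ^ k) (p ^ (k + 1) - p ^ k))
    (small_e2.2 ⟨(Nat.pow_lt_pow_right hp.one_lt (Nat.lt_succ_self k)).trans_le hlt,
      (Nat.sub_lt (pow_pos hp.pos _) hq).trans_le hlt⟩)
    (by rw [degree_e2, Nat.add_sub_cancel' (Nat.pow_le_pow_right hp.pos (Nat.le_succ k))]; exact Nat.lt_succ_self _)
  rw [MvPolynomial.coeff_sub, sub_eq_zero] at h0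
  rw [h0, MvPolynomial.coeff_add, hdev, coeff_scale s hq, hsub, if_pos ⟨dvd_rfl, dvd_mul_right _ _⟩,
    Nat.div_self hq, Nat.mul_div_cancel_left _ hq, coeff_defect_one, show 1 + (p - 1) = p by
      have := hp.two_le; omega, hs, hsub]
  ring

theorem step (hF : Function.Surjective (frobenius R p)) (hh : IsTruncCoc (p := p) n h) {f : Polynomial R}
    (hf : f.coeff 0 = 1) {N : ℕ} (hN : 0 < N) (hD : dev f h ∈ Fil (p ^ n) N) :
    ∃ f' : Polynomial R, f'.coeff 0 = 1 ∧ dev f' h ∈ Fil (p ^ n) (N + 1) := by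
  have hp : p.Prime := Fact.out
  obtain ⟨f, hf, hD, hcarry⟩ := exists_carry hF hf hD
  obtain ⟨c, hc, hcoe⟩ := exists_leading (R := R) p hD
  have hcoc := isCocycle_leading p hc hcoe (dev_symm_mem hh f _) (dev_assoc_mem hh hf hD)
  obtain ⟨G, M, r, -, -, hdec⟩ := exists_decomp p hcoc ⊤ fun _ => trivial
  have hr : ∀ k < M, r k = 0 := by
    intro k hk
    have hlt : p ^ k < p ^ (k + 1) := Nat.pow_lt_pow_right hp.one_lt (Nat.lt_succ_self k)
    have h1 := slice_form (A := R) p G M r (pow_pos hp.pos k) hlt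
    rw [← hdec, slice, hcoe, Finset.sum_eq_single k, if_pos rfl, sCoef, if_pos dvd_rfl,
      Nat.div_self (pow_pos hp.pos k), Nat.choose_one_right, Nat.div_self hp.pos, Nat.cast_one, mul_one] at h1
    · have h2 : ((p ^ (k + 1)).choose (p ^ k) : R) = 0 := by
        rw [cast_choose_pow p, Nat.pow_div (Nat.le_succ k) hp.pos, show k + 1 - k = 1 by omega, pow_one,
          CharP.cast_eq_zero]
      rw [h2, zero_mul, zero_add] at h1
      rw [← h1]
      split_ifs with hsm
      · refine hcarry k ?_ (by omega)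
        exact (Nat.pow_lt_pow_iff_right hp.one_lt).1 hsm.2.1
      · rfl
    · intro b _ hb
      rw [if_neg fun h => hb (by have := Nat.pow_right_injective hp.two_le h; omega)]
    · exact fun h => absurd (Finset.mem_range.2 hk) h
  rw [Finset.sum_eq_zero (fun k hk => by rw [hr k (Finset.mem_range.1 hk), map_zero, zero_mul]), add_zero] at hdec
  let E : Polynomial R := Polynomial.monomial N (G.coeff N)
  have hbd : bd E = c := by
    refine MvPolynomial.ext _ _ fun d => ?_
    rw [eq_e2 d]
    generalize d 0 = i, d 1 = j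
    rw [coeff_bd]
    simp only [E, Polynomial.coeff_monomial]
    by_cases hij : i + j = N
    · subst hij
      conv_rhs => rw [hdec, coeff_bd]
      rcases Nat.eq_zero_or_pos i with rfl | hi <;> rcases Nat.eq_zero_or_pos j with rfl | hj <;>
        simp_all [Nat.pos_iff_ne_zero]
    · rw [if_neg (Ne.symm hij), mul_zero, hcoe, if_neg (c := i + j = N ∧ i < p ^ n ∧ j < p ^ n) fun h => hij h.1]
      rcases Nat.eq_zero_or_pos i with rfl | hi <;> rcases Nat.eq_zero_or_pos j with rfl | hj <;>
        simp_all [Nat.pos_iff_ne_zero] <;> omega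
  let e : Polynomial R := 1 + E
  have he : e.coeff 0 = 1 := by simp [e, E, Polynomial.coeff_monomial, hN.ne']
  have hXN : ∀ i : Fin 2, (MvPolynomial.X i : MvPolynomial (Fin 2) R) ∈ Fil (p ^ n) 1 := fun i =>
    mem_Fil_one (by simp)
  have hdev : dev e 1 + c ∈ Fil (p ^ n) (N + 1) := by
    have hsum : dev e 1 + c = MvPolynomial.C (G.coeff N) ^ 2 *
        ((MvPolynomial.X 0 : MvPolynomial (Fin 2) R) ^ N * MvPolynomial.X 1 ^ N) := by
      rw [← hbd, dev, bd]
      simp only [e, E, map_add, map_one, Polynomial.aeval_monomial, MvPolynomial.algebraMap_eq]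
      ring
    rw [hsum]
    exact Ideal.mul_mem_left _ _ (Fil_anti (by omega) (mul_mem_Fil (pow_mem_Fil (hXN 0) N) (pow_mem_Fil (hXN 1) N)))
  have hcN : c ∈ Fil (p ^ n) N := by
    have := sub_mem hD (Fil_anti (Nat.le_succ _) hc)
    rwa [sub_sub_cancel] at this
  have hE : dev e 1 ∈ Fil (p ^ n) N := by
    have := sub_mem (Fil_anti (Nat.le_succ _) hdev) hcN
    rwa [add_sub_cancel_right] at this
  refine ⟨f * e, by rw [Polynomial.mul_coeff_zero, hf, he, mul_one], ?_⟩
  have := add_mem (dev_mul_sub_mem hf he hD hE) (add_mem hdev hc)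
  convert this using 1
  ring

/-- A truncated cocycle splits. -/
theorem exists_split_trunc (hF : Function.Surjective (frobenius R p)) (hh : IsTruncCoc (p := p) n h) :
    ∃ f : Polynomial R, f.coeff 0 = 1 ∧ Vanish (p ^ n) (dev f h) := by
  have main : ∀ N, 1 ≤ N → ∃ f : Polynomial R, f.coeff 0 = 1 ∧ dev f h ∈ Fil (p ^ n) N := by
    intro N hN
    induction N, hN using Nat.le_induction with
    | base => exact ⟨1, Polynomial.coeff_one_zero, mem_Fil_one (by simp [dev, hh.const])⟩
    | succ N hN ih =>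
      obtain ⟨f, hf, hD⟩ := ih
      exact step hF hh hf hN hD
  obtain ⟨f, hf, hD⟩ := main (2 * p ^ n) (by have := pow_pos (Fact.out : p.Prime).pos n; omega)
  refine ⟨f, hf, fun d hd => hD d hd ?_⟩
  rw [eq_e2 d] at hd ⊢
  rw [degree_e2]
  have := small_e2.1 hd
  omega

end Groth.Agent.H23Ga.Trunc
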