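import Groth.Agent.H23Ga.GaExt
import Groth.Agent.H23Ga.SplitTrunc
import Groth.Prelude.Def_AlphaPn
import Mathlib.AlgebraicGeometry.Group.Affine

/-!
# Extensions of `α_{p^n}` by the multiplicative group over a ring with surjective Frobenius
-/

set_option autoImplicit false
set_option backward.isDefEq.respectTransparency false
set_option linter.style.haveILetI false

universe u

open CategoryTheory AlgebraicGeometry Opposite
open scoped MonObj

namespace Groth.Agent.H23Ga.AlphaExt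

open GmLift DualPts GaExt

variable (p : ℕ) [Fact p.Prime] (n : ℕ) (R : Type u) [CommRing R] [CharP R p]

/-- The group scheme. -/
noncomputable abbrev G : Over (B0 R) :=
  (Spec (CommRingCat.of (AlphaPn.A p n R))).asOver (Spec (CommRingCat.of R))

/-- Its sheaf of points. -/
noncomputable abbrev Sh : BigSite.Ab Kf (B0 R) := CGrpSh.pts Kf (G p n R)

variable {p n R} {W W' : Over (B0 R)}

theorem rW_eq_of (P : W ⟶ G p n R) (r : R) :
    P.left.appTop ((DualPts.γ (AlphaPn.A p n R)).symm (algebraMap R _ r)) = rW W r := by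
  rw [rW, ← Over.w P, Scheme.Hom.comp_appTop]
  change _ = P.left.appTop _
  refine congrArg _ ((DualPts.γ (AlphaPn.A p n R)).injective ?_)
  rw [RingEquiv.apply_symm_apply]
  symm
  refine (ConcreteCategory.congr_hom
    (Scheme.ΓSpecIso_naturality (CommRingCat.ofHom (algebraMap R (AlphaPn.A p n R)))) _).trans ?_
  exact congrArg (algebraMap R (AlphaPn.A p n R)) ((DualPts.γ R).apply_symm_apply r)

/-- The algebra of functions. -/
@[implicit_reducible] noncomputable def fnAlg (W : Over (B0 R)) : Algebra R Γ(W.left, ⊤) := (rW W).toAlgebra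

attribute [local instance] fnAlg

/-- The coordinate of a point. -/
noncomputable def val (P : W ⟶ G p n R) : Γ(W.left, ⊤) :=
  P.left.appTop ((DualPts.γ (AlphaPn.A p n R)).symm (AlphaPn.x p n R))

theorem val_comp (h : W' ⟶ W) (P : W ⟶ G p n R) : val (h ≫ P) = h.left.appTop (val P) := by
  rw [val, val, Over.comp_left, Scheme.Hom.comp_appTop]
  rfl

/-- The algebra map of a point. -/
noncomputable def algPt (P : W ⟶ G p n R) : AlphaPn.A p n R →ₐ[R] Γ(W.left, ⊤) :=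
  { (P.left.appTop.hom).comp (DualPts.γ (AlphaPn.A p n R)).symm.toRingHom with
    commutes' := fun r => rW_eq_of P r }

theorem algPt_x (P : W ⟶ G p n R) : algPt P (AlphaPn.x p n R) = val P := rfl

theorem val_pow (P : W ⟶ G p n R) : val P ^ p ^ n = 0 := by
  rw [← algPt_x, ← map_pow, AlphaPn.x_pow, map_zero]

theorem pt_ext {P Q : W ⟶ G p n R} (h : val P = val Q) : P = Q := by
  ext : 1
  haveI : IsAffine (G p n R).left := inferInstanceAs (IsAffine (Spec _))
  refine ext_of_isAffine ?_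
  rw [← cancel_epi (Scheme.ΓSpecIso (CommRingCat.of (AlphaPn.A p n R))).inv]
  exact CommRingCat.hom_ext
    (congrArg AlgHom.toRingHom (AlphaPn.algHom_ext (f := algPt P) (g := algPt Q) h))

/-- The map to the spectrum of functions. -/
noncomputable def toSpec (W : Over (B0 R)) :
    W ⟶ (Spec (CommRingCat.of Γ(W.left, ⊤))).asOver (Spec (CommRingCat.of R)) :=
  Over.homMk W.left.toSpecΓ (by
    refine ext_of_isAffine ?_
    rw [← cancel_epi (Scheme.ΓSpecIso (CommRingCat.of R)).inv]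
    refine CommRingCat.hom_ext (RingHom.ext fun r => ?_)
    have h2 : (Scheme.ΓSpecIso (CommRingCat.of R)).inv ≫
        (W.left.toSpecΓ ≫ Spec.map (CommRingCat.ofHom (rW W))).appTop = CommRingCat.ofHom (rW W) := by
      simp
    exact ConcreteCategory.congr_hom h2 r)

/-- The point of an algebra map. -/
noncomputable def mkPt (L : WithConv (AlphaPn.A p n R →ₐ[R] Γ(W.left, ⊤))) : W ⟶ G p n R :=
  toSpec W ≫ Spec.mapMulEquiv L

theorem val_mkPt (L : WithConv (AlphaPn.A p n R →ₐ[R] Γ(W.left, ⊤))) :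
    val (mkPt L) = L.ofConv (AlphaPn.x p n R) := by
  have h2 : (Scheme.ΓSpecIso (CommRingCat.of (AlphaPn.A p n R))).inv ≫
      (W.left.toSpecΓ ≫ Spec.map (CommRingCat.ofHom L.ofConv.toRingHom)).appTop =
      CommRingCat.ofHom L.ofConv.toRingHom := by
    simp
  exact ConcreteCategory.congr_hom h2 (AlphaPn.x p n R)

theorem val_mul (P Q : W ⟶ G p n R) : val (P * Q) = val P + val Q := by
  have hP : ∀ P : W ⟶ G p n R, mkPt (WithConv.toConv (algPt P)) = P := fun P =>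
    pt_ext ((val_mkPt (WithConv.toConv (algPt P))).trans (algPt_x P))
  have h : mkPt (WithConv.toConv (algPt P) * WithConv.toConv (algPt Q)) = P * Q := by
    rw [mkPt, map_mul, MonObj.comp_mul]
    exact congrArg₂ (· * ·) (hP P) (hP Q)
  rw [← h, val_mkPt, AlgHom.convMul_apply, AlphaPn.comul_x]
  simp [algPt_x]

theorem val_one : val (1 : W ⟶ G p n R) = 0 := by
  have h := val_mul (1 : W ⟶ G p n R) 1
  rw [one_mul] at h
  exact left_eq_add.1 h

theorem exists_pt (a : Γ(W.left, ⊤)) (ha : a ^ p ^ n = 0) : ∃ P : W ⟶ G p n R, val P = a :=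
  ⟨mkPt (WithConv.toConv (AlphaPn.lift p n R a ha)), (val_mkPt _).trans (AlphaPn.lift_x a ha)⟩

/-- A point as a section of the sheaf. -/
noncomputable abbrev sec (P : W ⟶ G p n R) : (Sh p n R).obj.obj (op W) := ULift.up (Additive.ofMul P)

variable (p n R)

/-- The truncated polynomial relations. -/
noncomputable def J (σ : Type) : Ideal (MvPolynomial σ R) :=
  Ideal.span (Set.range fun i => MvPolynomial.X i ^ p ^ n)

/-- The truncated polynomial ring. -/
abbrev T (σ : Type) : Type u := MvPolynomial σ R ⧸ J p n R σ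

variable {p n R}

theorem vanish_of_mem_J {σ : Type} {P : MvPolynomial σ R} (h : P ∈ J p n R σ) : Trunc.Vanish (p ^ n) P :=
  fun d hd => (show J p n R σ ≤ Trunc.Fil (p ^ n) (d.degree + 1) from Ideal.span_le.2 (by
    rintro _ ⟨i, rfl⟩
    exact (Trunc.vanish_X_pow _ i).mem _)) h d hd (Nat.lt_succ_self _)

theorem mem_J_of_vanish {σ : Type} {P : MvPolynomial σ R} (h : Trunc.Vanish (p ^ n) P) : P ∈ J p n R σ := by
  classical
  rw [P.as_sum]
  refine sum_mem fun d hd => ?_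
  have hs : ¬ Trunc.Small (p ^ n) d := fun hs => MvPolynomial.mem_support_iff.1 hd (h d hs)
  unfold Trunc.Small at hs
  push Not at hs
  obtain ⟨i, hi⟩ := hs
  have hle : Finsupp.single i (p ^ n) ≤ d := Finsupp.single_le_iff.2 hi
  rw [show MvPolynomial.monomial d (P.coeff d) =
      MvPolynomial.monomial (Finsupp.single i (p ^ n)) 1 *
        MvPolynomial.monomial (d - Finsupp.single i (p ^ n)) (P.coeff d) by
    rw [MvPolynomial.monomial_mul, one_mul, add_tsub_cancel_of_le hle], ← MvPolynomial.X_pow_eq_monomial]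
  exact Ideal.mul_mem_right _ _ (Ideal.subset_span ⟨i, rfl⟩)

/-- The morphism to a truncated affine space given by points. -/
theorem exists_classifying {σ : Type} (v : σ → Γ(W.left, ⊤)) (hv : ∀ i, v i ^ p ^ n = 0) :
    ∃ m : W ⟶ pt (R := R) (T p n R σ), ∀ F : MvPolynomial σ R,
      m.left.appTop ((DualPts.γ (T p n R σ)).symm (Ideal.Quotient.mk _ F)) = F.eval₂ (rW W) v := by
  let k : T p n R σ →+* Γ(W.left, ⊤) := Ideal.Quotient.lift _ (MvPolynomial.eval₂Hom (rW W) v) fun F hF =>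
    (show J p n R σ ≤ RingHom.ker (MvPolynomial.eval₂Hom (rW W) v) from Ideal.span_le.2 (by
      rintro _ ⟨i, rfl⟩
      simp [hv i])) hF
  have hk : k.comp (algebraMap R (T p n R σ)) = rW W := RingHom.ext fun r => by
    change (MvPolynomial.C r).eval₂ (rW W) v = rW W r
    simp
  exact ⟨cls k hk, fun F => cls_appTop k hk _⟩

theorem exists_coord_points (σ : Type) : ∃ P : σ → (pt (R := R) (T p n R σ) ⟶ G p n R), ∀ i,
    val (P i) = (DualPts.γ (T p n R σ)).symm (Ideal.Quotient.mk _ (MvPolynomial.X i)) := by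
  have h : ∀ i, (DualPts.γ (T p n R σ)).symm (Ideal.Quotient.mk _ (MvPolynomial.X i)) ^ p ^ n = 0 := fun i => by
    have hX : Ideal.Quotient.mk (J p n R σ) (MvPolynomial.X i ^ p ^ n) = 0 :=
      Ideal.Quotient.eq_zero_iff_mem.2 (Ideal.subset_span ⟨i, rfl⟩)
    refine ((map_pow (DualPts.γ (T p n R σ)).symm _ _).symm).trans ?_
    rw [← map_pow, hX, map_zero]
  exact ⟨fun i => (exists_pt (W := pt (T p n R σ)) _ (h i)).choose,
    fun i => (exists_pt (W := pt (T p n R σ)) _ (h i)).choose_spec⟩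

theorem eval₂_coord {σ : Type} {m : ℕ} (F : MvPolynomial (Fin m) R) (v : Fin m → MvPolynomial σ R) :
    DualPts.γ (T p n R σ) (F.eval₂ (rW (pt (R := R) (T p n R σ))) fun i => (DualPts.γ _).symm (Ideal.Quotient.mk _ (v i))) =
      Ideal.Quotient.mk _ (MvPolynomial.aeval v F) := by
  refine (MvPolynomial.eval₂_comp_left (DualPts.γ (T p n R σ)).toRingHom _ _ F).trans ?_
  rw [rW_pt, MvPolynomial.aeval_def, MvPolynomial.eval₂_comp_left (Ideal.Quotient.mk (J p n R σ))]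
  congr 1
  funext i
  exact (DualPts.γ _).apply_symm_apply _

section Lift

variable (𝒮 : Seq (B0 R)) (φ : Sh p n R ⟶ 𝒮.Q)

/-- The value of the homomorphism at the identity point. -/
noncomputable def univ : 𝒮.Q.obj.obj (op (G p n R)) := φ.hom.app (op (G p n R)) (sec (𝟙 _))

theorem map_univ (P : W ⟶ G p n R) : 𝒮.Q.obj.map P.op (univ 𝒮 φ) = φ.hom.app (op W) (sec P) := by
  refine (ConcreteCategory.congr_hom (φ.hom.naturality P.op) (sec (𝟙 _))).symm.trans ?_
  refine congrArg (φ.hom.app (op W)) (ULift.ext _ _ ?_)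
  change Additive.ofMul (P ≫ 𝟙 _) = Additive.ofMul P
  rw [Category.comp_id]

theorem φ_mul (P Q : W ⟶ G p n R) :
    φ.hom.app (op W) (sec (P * Q)) = φ.hom.app (op W) (sec P) + φ.hom.app (op W) (sec Q) :=
  map_add (φ.hom.app (op W)).hom (sec P) (sec Q)

theorem φ_one : φ.hom.app (op W) (sec (1 : W ⟶ G p n R)) = 0 :=
  map_zero (φ.hom.app (op W)).hom

theorem exists_lift_univ : ∃ t, 𝒮.π.hom.app (op (G p n R)) t = univ 𝒮 φ := by
  let A := AlphaPn.A p n R
  letI : Algebra A R := (AlphaPn.counitAlg p n R).toRingHom.toAlgebra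
  let q : 𝒮.Q.obj.obj (op (Over.mk (G p n R).hom)) := univ 𝒮 φ
  let z : alg (G p n R).hom R ⟶ G p n R := algHom (G p n R).hom R
  have hone : z = 1 := by
    refine pt_ext ?_
    rw [val_one]
    refine (DualPts.γ R).injective ((γ_hom (y := (G p n R).hom) _ rfl _).trans ?_)
    rw [RingEquiv.apply_symm_apply, map_zero]
    exact AlphaPn.counitAlg_x p n R
  have e' : Lifts 𝒮 q R := ⟨0, by
    rw [map_zero]
    symm
    refine (map_univ 𝒮 φ z).trans ?_
    rw [hone]
    exact φ_one 𝒮 φ⟩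
  obtain ⟨B, _, _, _, _, ⟨eB⟩⟩ := exists_cover_lift 𝒮 q
  obtain ⟨m, hm, hu⟩ := exists_lift_of_nil eB R
    (fun r => ⟨algebraMap R A r, (AlphaPn.counitAlg p n R).commutes r⟩) (fun a ha => by
      obtain ⟨f, rfl⟩ := AlphaPn.mk_surjective p n R a
      have hf : f.coeff 0 = 0 := by
        have h : AlphaPn.counitAlg p n R (Polynomial.aeval (AlphaPn.x p n R) f) = 0 := by
          rw [AlphaPn.aeval_x]; exact ha
        rwa [← Polynomial.aeval_algHom_apply, AlphaPn.counitAlg_x, ← Polynomial.coeff_zero_eq_aeval_zero] at h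
      obtain ⟨g, rfl⟩ := Polynomial.X_dvd_iff.2 hf
      rw [map_mul, AlphaPn.mk_X]
      exact (Commute.all _ _).isNilpotent_mul_right ⟨_, AlphaPn.x_pow p n R⟩) e'
  obtain ⟨e⟩ := exists_lift_base eB hm hu
  exact exists_of_lifts e

variable {𝒮 φ}

/-- The values of a section over the group. -/
noncomputable abbrev tV (t : 𝒮.I.obj.obj (op (G p n R))) (P : W ⟶ G p n R) : 𝒮.I.obj.obj (op W) :=
  𝒮.I.obj.map P.op t

theorem tV_map (t : 𝒮.I.obj.obj (op (G p n R))) (h : W' ⟶ W) (P : W ⟶ G p n R) :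
    𝒮.I.obj.map h.op (tV t P) = tV t (h ≫ P) := by
  rw [tV, tV, op_comp, Functor.map_comp]
  rfl

variable {t : 𝒮.I.obj.obj (op (G p n R))} (ht : 𝒮.π.hom.app (op (G p n R)) t = univ 𝒮 φ)
include ht

theorem π_tV (P : W ⟶ G p n R) : 𝒮.π.hom.app (op W) (tV t P) = φ.hom.app (op W) (sec P) := by
  rw [tV, show 𝒮.π.hom.app (op W) (𝒮.I.obj.map P.op t) = 𝒮.Q.obj.map P.op (𝒮.π.hom.app (op (G p n R)) t) from
    ConcreteCategory.congr_hom (𝒮.π.hom.naturality P.op) t, ht, map_univ]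

theorem exists_defect :
    ∃ hp : MvPolynomial (Fin 2) R, ∀ (W : Over (B0 R)) (P Q : W ⟶ G p n R),
      ∃ d : (CGrpSh2.Gm Kf (B0 R)).obj.obj (op W), gmVal d = hp.eval₂ (rW W) ![val P, val Q] ∧
        𝒮.ι.hom.app (op W) d = tV t P + tV t Q - tV t (P * Q) := by
  let W₂ := pt (R := R) (T p n R (Fin 2))
  obtain ⟨U, hU⟩ := exists_coord_points (p := p) (n := n) (R := R) (Fin 2)
  obtain ⟨d, hd⟩ := TorsorH1.sect_exact 𝒮.exact' W₂ (tV t (U 0) + tV t (U 1) - tV t (U 0 * U 1)) (by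
    change 𝒮.π.hom.app (op W₂) _ = 0
    rw [map_sub, map_add, π_tV ht, π_tV ht, π_tV ht, φ_mul, sub_self])
  obtain ⟨hp, hhp⟩ := Ideal.Quotient.mk_surjective (DualPts.γ (T p n R (Fin 2)) (gmVal (W := W₂) d))
  refine ⟨hp, fun W P Q => ?_⟩
  obtain ⟨m, hm⟩ := exists_classifying (σ := Fin 2) (p := p) (n := n) ![val P, val Q]
    (fun i => by fin_cases i <;> simp [val_pow])
  have hP : m ≫ U 0 = P := pt_ext (by rw [val_comp, hU, hm]; simp)
  have hQ : m ≫ U 1 = Q := pt_ext (by rw [val_comp, hU, hm]; simp)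
  refine ⟨(CGrpSh2.Gm Kf (B0 R)).obj.map m.op d, ?_, ?_⟩
  · rw [gmVal_map, ← hm, hhp, RingEquiv.symm_apply_apply]
  · rw [show 𝒮.ι.hom.app (op W) ((CGrpSh2.Gm Kf (B0 R)).obj.map m.op d) =
      𝒮.I.obj.map m.op (𝒮.ι.hom.app (op W₂) d) from
      ConcreteCategory.congr_hom (𝒮.ι.hom.naturality m.op) _, hd, map_sub, map_add, tV_map, tV_map, tV_map,
      MonObj.comp_mul, hP, hQ]

theorem isTruncCoc (htV : ∀ W : Over (B0 R), tV t (1 : W ⟶ G p n R) = 0) {hp : MvPolynomial (Fin 2) R}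
    (hdef : ∀ (W : Over (B0 R)) (P Q : W ⟶ G p n R),
      ∃ d : (CGrpSh2.Gm Kf (B0 R)).obj.obj (op W), gmVal d = hp.eval₂ (rW W) ![val P, val Q] ∧
        𝒮.ι.hom.app (op W) d = tV t P + tV t Q - tV t (P * Q)) :
    Trunc.IsTruncCoc (p := p) n hp := by
  have key : ∀ {σ : Type} (v : Fin 2 → MvPolynomial σ R) (P Q : pt (R := R) (T p n R σ) ⟶ G p n R),
      val P = (DualPts.γ _).symm (Ideal.Quotient.mk _ (v 0)) → val Q = (DualPts.γ _).symm (Ideal.Quotient.mk _ (v 1)) →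
      ∀ d : (CGrpSh2.Gm Kf (B0 R)).obj.obj (op (pt (R := R) (T p n R σ))),
        gmVal d = hp.eval₂ (rW _) ![val P, val Q] →
        DualPts.γ (T p n R σ) (gmVal d) = Ideal.Quotient.mk _ (MvPolynomial.aeval v hp) := fun v P Q hP hQ d hd => by
    rw [hd, ← eval₂_coord, hP, hQ]
    congr 2
    funext i
    fin_cases i <;> rfl
  refine ⟨?_, ?_, ?_⟩
  · obtain ⟨d, hd, he⟩ := hdef (pt R) 1 1
    rw [mul_one, add_sub_cancel_right, htV] at he
    have hd0 : d = 0 := TorsorH1.sect_injective 𝒮.exact' _ (he.trans (map_zero _).symm)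
    rw [hd0, gmVal_zero, val_one] at hd
    have h := congrArg (DualPts.γ R).toRingHom hd
    rw [map_one, MvPolynomial.eval₂_comp_left, rW_pt] at h
    rw [h, show (⇑(DualPts.γ R).toRingHom ∘ ![(0 : Γ((pt (R := R) R).left, ⊤)), 0]) = fun _ => (0 : R) from
      funext fun i => by fin_cases i <;> simp, MvPolynomial.eval₂_zero'_apply]
    rfl
  · refine vanish_of_mem_J ((Ideal.Quotient.eq).1 ?_)
    obtain ⟨U, hU⟩ := exists_coord_points (p := p) (n := n) (R := R) (Fin 2)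
    obtain ⟨d₁, hd₁, he₁⟩ := hdef _ (U 1) (U 0)
    obtain ⟨d₂, hd₂, he₂⟩ := hdef _ (U 0) (U 1)
    have hd : d₁ = d₂ := TorsorH1.sect_injective 𝒮.exact' _
      (he₁.trans ((by rw [mul_comm (U 1)]; abel : _ = _).trans he₂.symm))
    have h1 := key ![MvPolynomial.X 1, MvPolynomial.X 0] _ _ (hU 1) (hU 0) d₁ hd₁
    have h2 := key ![MvPolynomial.X 0, MvPolynomial.X 1] _ _ (hU 0) (hU 1) d₂ hd₂
    rw [← h1, hd, h2, show (![MvPolynomial.X 0, MvPolynomial.X 1] : Fin 2 → MvPolynomial (Fin 2) R) = MvPolynomial.X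
      from funext fun i => by fin_cases i <;> rfl, MvPolynomial.aeval_X_left_apply]
  · refine vanish_of_mem_J ((Ideal.Quotient.eq).1 ?_)
    obtain ⟨U, hU⟩ := exists_coord_points (p := p) (n := n) (R := R) (Fin 3)
    obtain ⟨d₁, hd₁, he₁⟩ := hdef _ (U 1) (U 2)
    obtain ⟨d₂, hd₂, he₂⟩ := hdef _ (U 0) (U 1 * U 2)
    obtain ⟨d₃, hd₃, he₃⟩ := hdef _ (U 0 * U 1) (U 2)
    obtain ⟨d₄, hd₄, he₄⟩ := hdef _ (U 0) (U 1)
    have hd : d₁ + d₂ = d₃ + d₄ := TorsorH1.sect_injective 𝒮.exact' _ (by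
      change 𝒮.ι.hom.app _ _ = 𝒮.ι.hom.app _ _
      rw [map_add, map_add, he₁, he₂, he₃, he₄, mul_assoc (U 0) (U 1) (U 2)]
      abel)
    have h1 := key ![MvPolynomial.X 1, MvPolynomial.X 2] _ _ (hU 1) (hU 2) d₁ hd₁
    have h2 := key ![MvPolynomial.X 0, MvPolynomial.X 1 + MvPolynomial.X 2] _ _ (hU 0)
      (by rw [val_mul, hU, hU]; simp) d₂ hd₂
    have h3 := key ![MvPolynomial.X 0 + MvPolynomial.X 1, MvPolynomial.X 2] _ _
      (by rw [val_mul, hU, hU]; simp) (hU 2) d₃ hd₃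
    have h4 := key ![MvPolynomial.X 0, MvPolynomial.X 1] _ _ (hU 0) (hU 1) d₄ hd₄
    rw [map_mul, map_mul, ← h1, ← h2, ← h3, ← h4, ← map_mul, ← map_mul, ← gmVal_add, ← gmVal_add, hd]

end Lift

theorem exists_hom_lift (hF : Function.Surjective (frobenius R p)) (𝒮 : Seq (B0 R)) (φ : Sh p n R ⟶ 𝒮.Q) :
    ∃ ψ : Sh p n R ⟶ 𝒮.I, ψ ≫ 𝒮.π = φ := by
  obtain ⟨t₀, ht₀⟩ := exists_lift_univ 𝒮 φ
  let t : 𝒮.I.obj.obj (op (G p n R)) := t₀ - tV t₀ (1 : G p n R ⟶ G p n R)
  have ht : 𝒮.π.hom.app (op (G p n R)) t = univ 𝒮 φ := by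
    rw [map_sub, π_tV ht₀, φ_one, ht₀, sub_zero]
  have htV : ∀ W : Over (B0 R), tV t (1 : W ⟶ G p n R) = 0 := fun W => by
    change 𝒮.I.obj.map (1 : W ⟶ G p n R).op (t₀ - tV t₀ (1 : G p n R ⟶ G p n R)) = _
    rw [map_sub, tV_map, MonObj.comp_one]
    exact sub_self _
  obtain ⟨hp, hdef⟩ := exists_defect ht
  obtain ⟨f, hf0, hf⟩ := Trunc.exists_split_trunc hF (isTruncCoc ht htV hdef)
  have hfW : ∀ {W : Over (B0 R)} (P : W ⟶ G p n R), IsUnit (f.eval₂ (rW W) (val P)) := fun {W} P => by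
    obtain ⟨g, hg⟩ := Polynomial.X_dvd_iff.2 (show (f - 1).coeff 0 = 0 by simp [hf0])
    rw [show f = 1 + Polynomial.X * g by rw [← hg]; ring, Polynomial.eval₂_add, Polynomial.eval₂_one,
      Polynomial.eval₂_mul, Polynomial.eval₂_X]
    exact ((Commute.all _ _).isNilpotent_mul_right ⟨_, val_pow P⟩).isUnit_one_add
  have hfadd : ∀ {W : Over (B0 R)} (P Q : W ⟶ G p n R), f.eval₂ (rW W) (val P + val Q) =
      f.eval₂ (rW W) (val P) * f.eval₂ (rW W) (val Q) * hp.eval₂ (rW W) ![val P, val Q] := fun {W} P Q => by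
    have h : MvPolynomial.eval₂Hom (rW W) ![val P, val Q] (Trunc.dev f hp) = 0 := by
      refine (show J p n R (Fin 2) ≤ RingHom.ker (MvPolynomial.eval₂Hom (rW W) ![val P, val Q]) from
        Ideal.span_le.2 ?_) (mem_J_of_vanish hf)
      rintro _ ⟨i, rfl⟩
      fin_cases i <;> simp [val_pow]
    rw [Trunc.dev, map_sub, sub_eq_zero, map_mul, map_mul, Polynomial.aeval_def, Polynomial.aeval_def,
      Polynomial.aeval_def, Polynomial.hom_eval₂, Polynomial.hom_eval₂, Polynomial.hom_eval₂] at h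
    simpa [MvPolynomial.algebraMap_eq, MvPolynomial.eval₂Hom_comp_C] using h.symm
  let F : ∀ {W : Over (B0 R)}, (W ⟶ G p n R) → 𝒮.I.obj.obj (op W) := fun {W} P =>
    tV t P + 𝒮.ι.hom.app (op W) (gmSec Kf (f.eval₂ (rW W) (val P)) (hfW P))
  have F_mul : ∀ {W : Over (B0 R)} (P Q : W ⟶ G p n R), F (P * Q) = F P + F Q := fun {W} P Q => by
    obtain ⟨d, hd, he⟩ := hdef W P Q
    have hg : gmSec Kf (f.eval₂ (rW W) (val (P * Q))) (hfW _) =
        gmSec Kf (f.eval₂ (rW W) (val P)) (hfW P) + gmSec Kf (f.eval₂ (rW W) (val Q)) (hfW Q) + d :=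
      gmVal_inj (K := Kf) (by
        rw [gmVal_add, gmVal_add, gmVal_gmSec, gmVal_gmSec, gmVal_gmSec, hd, val_mul, hfadd])
    change tV t (P * Q) + _ = tV t P + _ + (tV t Q + _)
    rw [hg, map_add, map_add, he]
    abel
  have F_map : ∀ {W W' : Over (B0 R)} (h : W' ⟶ W) (P : W ⟶ G p n R), 𝒮.I.obj.map h.op (F P) = F (h ≫ P) :=
    fun {W W'} h P => by
    change 𝒮.I.obj.map h.op (tV t P + _) = tV t (h ≫ P) + _
    rw [map_add, tV_map]
    refine congrArg (tV t _ + ·) ?_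
    rw [← show 𝒮.ι.hom.app (op W') ((CGrpSh2.Gm Kf (B0 R)).obj.map h.op (gmSec Kf (f.eval₂ (rW W) (val P)) (hfW P))) =
        𝒮.I.obj.map h.op (𝒮.ι.hom.app (op W) (gmSec Kf (f.eval₂ (rW W) (val P)) (hfW P)))
      from ConcreteCategory.congr_hom (𝒮.ι.hom.naturality h.op) _]
    refine congrArg _ (gmVal_inj (K := Kf) ?_)
    rw [gmVal_map, gmVal_gmSec, gmVal_gmSec, Polynomial.hom_eval₂, rW_comp, val_comp]
  let ψ : Sh p n R ⟶ 𝒮.I :=
    ⟨{ app := fun U => ConcreteCategory.ofHom (C := AddCommGrpCat.{u + 1})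
          (X := (Sh p n R).obj.obj (op (unop U))) (Y := 𝒮.I.obj.obj (op (unop U)))
          (AddMonoidHom.mk' (fun x => F x.down.toMul) fun x x' => F_mul x.down.toMul x'.down.toMul)
       naturality := fun U U' h => AddCommGrpCat.ext fun x => by
         exact (F_map h.unop x.down.toMul).symm }⟩
  refine ⟨ψ, Sheaf.hom_ext (NatTrans.ext (funext fun U => AddCommGrpCat.ext fun x => ?_))⟩
  change 𝒮.π.hom.app (op (unop U)) (F x.down.toMul) = φ.hom.app (op (unop U)) x
  rw [map_add, π_tV ht, ← ConcreteCategory.comp_apply (𝒮.ι.hom.app _), ← NatTrans.comp_app,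
    show 𝒮.ι.hom ≫ 𝒮.π.hom = 0 from congrArg (fun φ : CGrpSh2.Gm Kf (B0 R) ⟶ 𝒮.Q => φ.hom) 𝒮.w]
  exact add_zero _

theorem subsingleton_ext (hF : Function.Surjective (frobenius R p)) :
    Subsingleton (CGrpSh.ExtS Kf (G p n R) (Red.Gm (B0 R)) 1) := by
  refine subsingleton_of_forall_eq 0 fun z => ?_
  let M := CGrpSh2.Gm Kf (B0 R)
  let ι' := Injective.ι M
  have hS : (ShortComplex.mk ι' (Limits.cokernel.π ι') (Limits.cokernel.condition ι')).ShortExact :=
    { exact := ShortComplex.exact_of_g_is_cokernel _ (Limits.cokernelIsCokernel ι') }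
  let 𝒮 : Seq (B0 R) :=
    ⟨Injective.under M, Limits.cokernel ι', ι', Limits.cokernel.π ι', Limits.cokernel.condition ι', hS⟩
  obtain ⟨x, hx⟩ := Abelian.Ext.covariant_sequence_exact₁ (Sh p n R) hS z
    (@Abelian.Ext.eq_zero_of_injective _ _ _ _ _ (Injective.under M) _ _ _) (zero_add 1)
  obtain ⟨φ, rfl⟩ := Abelian.Ext.addEquiv₀.symm.surjective x
  obtain ⟨ψ, rfl⟩ := exists_hom_lift hF 𝒮 φ
  rw [← hx, Abelian.Ext.addEquiv₀_symm_apply, ← Abelian.Ext.mk₀_comp_mk₀,
    Abelian.Ext.comp_assoc_of_second_deg_zero,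
    show (Abelian.Ext.mk₀ 𝒮.π).comp hS.extClass (zero_add 1) = 0 from hS.comp_extClass, Abelian.Ext.comp_zero]

end Groth.Agent.H23Ga.AlphaExt
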