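import Groth.Agent.H23Ga.Char

/-!
The truncated universal divided power algebra, and the functionals on characters of the additive group.
-/

set_option autoImplicit false

universe u

open Finset

namespace Groth.Agent.H23Ga.DPAlg

open Polynomial

variable {B : Type u} [CommRing B]

/-- The universal matrices `E m = (choose)` shifted by `m`. -/
def E (B : Type u) [CommRing B] (M m : ℕ) : Matrix (Fin (M + 1)) (Fin (M + 1)) B :=
  Matrix.of fun i k => if (i : ℕ) = k + m then ((i : ℕ).choose m : B) else 0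

theorem E_zero (M : ℕ) : E B M 0 = 1 := by
  ext i k
  simp [E, Matrix.one_apply, Fin.ext_iff]

theorem E_eq_zero {M m : ℕ} (h : M < m) : E B M m = 0 := by
  ext i k
  have := i.2
  simp only [E, Matrix.of_apply, Matrix.zero_apply]
  exact if_neg (by omega)

theorem E_mul (M i j : ℕ) : E B M i * E B M j = ((i + j).choose i : B) • E B M (i + j) := by
  ext n k
  simp only [Matrix.mul_apply, E, Matrix.of_apply, Matrix.smul_apply, smul_eq_mul]
  by_cases h : (n : ℕ) = k + (i + j)
  · rw [if_pos h, Finset.sum_eq_single (⟨k + j, by have := n.2; omega⟩ : Fin (M + 1))]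
    · dsimp only
      rw [if_pos (by omega), if_pos rfl, ← Nat.cast_mul, ← Nat.cast_mul]
      congr 1
      have e := Nat.choose_mul (n := (n : ℕ)) (k := i + j) (s := i) (by omega)
      rw [Nat.add_sub_cancel_left, show (n : ℕ) - i = k + j by omega] at e
      rw [← e, Nat.mul_comm]
    · intro l _ hl
      by_cases h' : (l : ℕ) = k + j
      · exact absurd (Fin.ext h') hl
      · rw [if_neg h', mul_zero]
    · intro h'; exact absurd (Finset.mem_univ _) h'
  · rw [if_neg h, mul_zero]
    refine Finset.sum_eq_zero fun l _ => ?_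
    by_cases h' : (l : ℕ) = k + j
    · rw [if_neg (by omega), zero_mul]
    · rw [if_neg h', mul_zero]

theorem E_col {M m : ℕ} (i : Fin (M + 1)) : E B M m i 0 = if (i : ℕ) = m then 1 else 0 := by
  simp only [E, Matrix.of_apply, Fin.val_zero, zero_add]
  split_ifs with h
  · rw [h, Nat.choose_self, Nat.cast_one]
  · rfl

/-- The span of the `E m`. -/
def spanE (B : Type u) [CommRing B] (M : ℕ) : Submodule B (Matrix (Fin (M + 1)) (Fin (M + 1)) B) :=
  Submodule.span B (Set.range (E B M))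

theorem mul_mem_spanE {M : ℕ} : ∀ x y, x ∈ spanE B M → y ∈ spanE B M → x * y ∈ spanE B M := by
  intro x y hx hy
  induction hx, hy using Submodule.span_induction₂ with
  | mem_mem a b ha hb =>
    obtain ⟨i, rfl⟩ := ha
    obtain ⟨j, rfl⟩ := hb
    rw [E_mul]
    exact Submodule.smul_mem _ _ (Submodule.subset_span ⟨_, rfl⟩)
  | zero_left y hy => simp
  | zero_right x hx => simp
  | add_left x y z _ _ _ hx hy => rw [add_mul]; exact add_mem hx hy
  | add_right x y z _ _ _ hx hy => rw [mul_add]; exact add_mem hx hy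
  | smul_left r x y _ _ h => rw [smul_mul_assoc]; exact Submodule.smul_mem _ r h
  | smul_right r x y _ _ h => rw [mul_smul_comm]; exact Submodule.smul_mem _ r h

/-- The universal algebra of divided power sequences of length `M`. -/
def U (B : Type u) [CommRing B] (M : ℕ) : Subalgebra B (Matrix (Fin (M + 1)) (Fin (M + 1)) B) :=
  (spanE B M).toSubalgebra (by rw [← E_zero]; exact Submodule.subset_span ⟨0, rfl⟩) mul_mem_spanE

theorem mem_U {M : ℕ} {x : Matrix (Fin (M + 1)) (Fin (M + 1)) B} : x ∈ U B M ↔ x ∈ spanE B M := Iff.rfl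

theorem spanE_comm {M : ℕ} : ∀ x y, x ∈ spanE B M → y ∈ spanE B M → x * y = y * x := by
  intro x y hx hy
  induction hx, hy using Submodule.span_induction₂ with
  | mem_mem a b ha hb =>
    obtain ⟨i, rfl⟩ := ha
    obtain ⟨j, rfl⟩ := hb
    rw [E_mul, E_mul, add_comm j i, Nat.choose_symm_add]
  | zero_left y hy => simp
  | zero_right x hx => simp
  | add_left x y z _ _ _ hx hy => rw [add_mul, mul_add, hx, hy]
  | add_right x y z _ _ _ hx hy => rw [add_mul, mul_add, hx, hy]
  | smul_left r x y _ _ h => rw [smul_mul_assoc, mul_smul_comm, h]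
  | smul_right r x y _ _ h => rw [smul_mul_assoc, mul_smul_comm, h]

instance instCommRingU (M : ℕ) : CommRing (U B M) :=
  { (inferInstance : Ring (U B M)) with
    mul_comm := fun x y => Subtype.ext (spanE_comm _ _ x.2 y.2) }

/-- The universal sequence. -/
def e (B : Type u) [CommRing B] (M m : ℕ) : U B M := ⟨E B M m, mem_U.2 (Submodule.subset_span ⟨m, rfl⟩)⟩

theorem e_eq_zero {M m : ℕ} (h : M < m) : e B M m = 0 := Subtype.ext (E_eq_zero h)

theorem isDP_e (M : ℕ) : IsDP (e B M) :=
  ⟨Subtype.ext (E_zero M), fun i j => Subtype.ext ((E_mul M i j).trans (by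
    rw [Nat.cast_smul_eq_nsmul, nsmul_eq_mul]; simp [e]))⟩

/-- Coordinates in the basis `e m`. -/
def coord {M : ℕ} (m : ℕ) : U B M →ₗ[B] B :=
  if h : m < M + 1 then
    { toFun := fun a => a.1 ⟨m, h⟩ 0, map_add' := fun _ _ => rfl, map_smul' := fun _ _ => rfl }
  else 0

theorem coord_e {M : ℕ} (m i : ℕ) (hm : m ≤ M) : coord m (e B M i) = if m = i then 1 else 0 := by
  rw [coord, dif_pos (by omega)]
  exact E_col _

theorem coord_eq_zero {M m : ℕ} (hm : M < m) (a : U B M) : coord m a = 0 := by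
  rw [coord, dif_neg (by omega)]; rfl

section lift

variable {C : Type u} [CommRing C] [Algebra B C]

/-- The linear map attached to a sequence. -/
noncomputable def liftL (M : ℕ) (c : ℕ → C) : U B M →ₗ[B] C :=
  ∑ m ∈ range (M + 1), (coord m).smulRight (c m)

theorem liftL_apply (M : ℕ) (c : ℕ → C) (a : U B M) :
    liftL M c a = ∑ m ∈ range (M + 1), algebraMap B C (coord m a) * c m := by
  simp [liftL, Algebra.smul_def]

theorem liftL_e {M : ℕ} {c : ℕ → C} (hc : ∀ m, M < m → c m = 0) (i : ℕ) : liftL M c (e B M i) = c i := by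
  rw [liftL_apply]
  by_cases hi : i ≤ M
  · rw [Finset.sum_eq_single i]
    · rw [coord_e _ _ hi, if_pos rfl, map_one, one_mul]
    · intro m hm hne
      rw [coord_e _ _ (by rw [Finset.mem_range] at hm; omega), if_neg hne, map_zero, zero_mul]
    · intro h; exact absurd (Finset.mem_range.2 (by omega)) h
  · rw [hc i (by omega), e_eq_zero (by omega)]
    simp

theorem liftL_mul {M : ℕ} {c : ℕ → C} (hd : IsDP c) (hc : ∀ m, M < m → c m = 0) (a b : U B M) :
    liftL M c (a * b) = liftL M c a * liftL M c b := by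
  suffices key : ∀ (x y : Matrix (Fin (M + 1)) (Fin (M + 1)) B) (hx : x ∈ spanE B M) (hy : y ∈ spanE B M),
      liftL M c ((⟨x, mem_U.2 hx⟩ : U B M) * ⟨y, mem_U.2 hy⟩) =
        liftL M c (⟨x, mem_U.2 hx⟩ : U B M) * liftL M c (⟨y, mem_U.2 hy⟩ : U B M) from
    key a.1 b.1 (mem_U.1 a.2) (mem_U.1 b.2)
  intro x y hx hy
  induction hx, hy using Submodule.span_induction₂ with
  | mem_mem a b ha hb =>
    obtain ⟨i, rfl⟩ := ha
    obtain ⟨j, rfl⟩ := hb
    change liftL M c (e B M i * e B M j) = liftL M c (e B M i) * liftL M c (e B M j)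
    rw [(isDP_e M).2, liftL_e hc, liftL_e hc, hd.2, ← nsmul_eq_mul, map_nsmul, liftL_e hc, nsmul_eq_mul]
  | zero_left y hy =>
    change liftL M c (0 * ⟨y, mem_U.2 hy⟩) = liftL M c 0 * _
    simp
  | zero_right x hx =>
    change liftL M c (⟨x, mem_U.2 hx⟩ * 0) = _ * liftL M c 0
    simp
  | add_left x y z hx hy hz h₁ h₂ =>
    change liftL M c ((⟨x, mem_U.2 hx⟩ + ⟨y, mem_U.2 hy⟩ : U B M) * ⟨z, mem_U.2 hz⟩) =
      liftL M c (⟨x, mem_U.2 hx⟩ + ⟨y, mem_U.2 hy⟩) * _
    rw [add_mul, map_add, map_add, add_mul, h₁, h₂]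
  | add_right x y z hx hy hz h₁ h₂ =>
    change liftL M c ((⟨x, mem_U.2 hx⟩ : U B M) * (⟨y, mem_U.2 hy⟩ + ⟨z, mem_U.2 hz⟩)) =
      _ * liftL M c (⟨y, mem_U.2 hy⟩ + ⟨z, mem_U.2 hz⟩)
    rw [mul_add, map_add, map_add, mul_add, h₁, h₂]
  | smul_left r x y hx hy h =>
    change liftL M c ((r • (⟨x, mem_U.2 hx⟩ : U B M)) * ⟨y, mem_U.2 hy⟩) =
      liftL M c (r • (⟨x, mem_U.2 hx⟩ : U B M)) * _
    rw [smul_mul_assoc, map_smul, map_smul, smul_mul_assoc, h]
  | smul_right r x y hx hy h =>
    change liftL M c ((⟨x, mem_U.2 hx⟩ : U B M) * (r • ⟨y, mem_U.2 hy⟩)) =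
      _ * liftL M c (r • (⟨y, mem_U.2 hy⟩ : U B M))
    rw [mul_smul_comm, map_smul, map_smul, mul_smul_comm, h]

/-- The algebra map classifying a divided power sequence. -/
noncomputable def lift (M : ℕ) (c : ℕ → C) (hd : IsDP c) (hc : ∀ m, M < m → c m = 0) : U B M →ₐ[B] C :=
  AlgHom.ofLinearMap (liftL M c) (by rw [← (isDP_e M).1, liftL_e hc, hd.1]) (liftL_mul hd hc)

theorem lift_apply {M : ℕ} {c : ℕ → C} (hd : IsDP c) (hc : ∀ m, M < m → c m = 0) (a : U B M) :
    lift M c hd hc a = ∑ m ∈ range (M + 1), algebraMap B C (coord m a) * c m :=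
  liftL_apply M c a

@[simp] theorem lift_e {M : ℕ} {c : ℕ → C} (hd : IsDP c) (hc : ∀ m, M < m → c m = 0) (i : ℕ) :
    lift M c hd hc (e B M i) = c i := liftL_e hc i

end lift

/-- The universal polynomial. -/
noncomputable def χ (B : Type u) [CommRing B] (M : ℕ) : (U B M)[X] :=
  ∑ m ∈ range (M + 1), monomial m (e B M m)

theorem coeff_χ (M n : ℕ) : (χ B M).coeff n = e B M n := by
  rw [χ, finsetSum_coeff, Finset.sum_eq_single n]
  · rw [coeff_monomial, if_pos rfl]
  · intro m _ hm; rw [coeff_monomial, if_neg hm]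
  · intro h
    rw [coeff_monomial, if_pos rfl, e_eq_zero]
    simp only [Finset.mem_range] at h; omega

theorem isDP_χ (M : ℕ) : IsDP (χ B M).coeff := by
  rw [show (χ B M).coeff = e B M from funext (coeff_χ M)]
  exact isDP_e M

theorem isDP_map {C D : Type u} [CommRing C] [CommRing D] (k : C →+* D) {f : C[X]} (hf : IsDP f.coeff) :
    IsDP (f.map k).coeff := by
  refine ⟨by simp [coeff_map, hf.1], fun i j => ?_⟩
  simp only [coeff_map, ← map_mul, hf.2 i j, map_natCast]
  rw [map_mul, map_natCast]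

theorem isDP_mul {C : Type u} [CommRing C] {f g : C[X]} (hf : IsDP f.coeff) (hg : IsDP g.coeff) :
    IsDP (f * g).coeff := by
  rw [← isDP_iff_poly] at hf hg ⊢
  refine ⟨by rw [eval_mul, hf.1, hg.1, one_mul], ?_⟩
  rw [map_mul, map_mul, map_mul, hf.2, hg.2]
  ring

theorem isDP_one {C : Type u} [CommRing C] : IsDP (1 : C[X]).coeff := by
  rw [← isDP_iff_poly]
  simp

/-- The character `1 + ε x`. -/
noncomputable def epsPoly (C : Type u) [CommRing C] : (DualNumber C)[X] :=
  1 + monomial 1 DualNumber.eps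

theorem coeff_epsPoly {C : Type u} [CommRing C] (n : ℕ) :
    (epsPoly C).coeff n = if n = 0 then 1 else if n = 1 then DualNumber.eps else 0 := by
  rw [epsPoly, coeff_add, coeff_one, coeff_monomial]
  rcases n with _ | _ | n <;> simp

theorem isDP_epsPoly (C : Type u) [CommRing C] : IsDP (epsPoly C).coeff := by
  refine ⟨by rw [coeff_epsPoly, if_pos rfl], fun i j => ?_⟩
  rcases i with _ | i
  · simp [coeff_epsPoly]
  rcases j with _ | j
  · simp [coeff_epsPoly]
  simp only [coeff_epsPoly, Nat.succ_ne_zero, if_false, add_eq_zero, and_false]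
  have h1 : ¬ (i + 1 + (j + 1) = 1) := by omega
  rw [if_neg h1, mul_zero]
  split_ifs <;> simp

/-- A natural, multiplicative family of functionals on characters. -/
structure Functional (B : Type u) [CommRing B] where
  toFun : ∀ (C : Type u) [CommRing C] [Algebra B C], C[X] → C
  map' : ∀ (C D : Type u) [CommRing C] [Algebra B C] [CommRing D] [Algebra B D] (k : C →ₐ[B] D) (f : C[X]),
    IsDP f.coeff → toFun D (f.map k.toRingHom) = k (toFun C f)
  mul' : ∀ (C : Type u) [CommRing C] [Algebra B C] (f g : C[X]),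
    IsDP f.coeff → IsDP g.coeff → toFun C (f * g) = toFun C f * toFun C g
  one' : ∀ (C : Type u) [CommRing C] [Algebra B C], toFun C (1 : C[X]) = 1

namespace Functional

variable (Ψ : Functional B)

/-- The coefficients of a functional. -/
noncomputable def lam (M m : ℕ) : B := coord m (Ψ.toFun (U B M) (χ B M))

theorem toFun_eq {C : Type u} [CommRing C] [Algebra B C] {M : ℕ} {f : C[X]} (hf : IsDP f.coeff)
    (hM : ∀ m, M < m → f.coeff m = 0) :
    Ψ.toFun C f = ∑ m ∈ range (M + 1), algebraMap B C (Ψ.lam M m) * f.coeff m := by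
  have h1 : (χ B M).map (lift M f.coeff hf hM).toRingHom = f := by
    ext n
    rw [coeff_map, coeff_χ]
    exact lift_e hf hM n
  conv_lhs => rw [← h1]
  rw [Ψ.map' _ _ _ _ (isDP_χ M), lift_apply]
  rfl

theorem lam_zero (M : ℕ) : Ψ.lam M 0 = 1 := by
  have h0 : ∀ m, M < m → (1 : B[X]).coeff m = 0 := fun m hm => by
    rw [coeff_one, if_neg (by omega)]
  have h := Ψ.toFun_eq (C := B) isDP_one h0
  rw [Ψ.one', Finset.sum_eq_single 0] at h
  · simpa using h.symm
  · intro m _ hm; simp [coeff_one, hm]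
  · intro h'; simp at h'

/-- The parameter of a functional. -/
noncomputable def t : B := TrivSqZeroExt.snd (Ψ.toFun (DualNumber B) (epsPoly B))

theorem coeff_epsPoly_of_lt {C : Type u} [CommRing C] {m : ℕ} (hm : 1 < m) : (epsPoly C).coeff m = 0 := by
  rw [coeff_epsPoly, if_neg (by omega), if_neg (by omega)]

theorem toFun_epsPoly {C : Type u} [CommRing C] [Algebra B C] :
    Ψ.toFun (DualNumber C) (epsPoly C) = 1 + algebraMap B (DualNumber C) (Ψ.lam 1 1) * DualNumber.eps := by
  rw [Ψ.toFun_eq (isDP_epsPoly C) (fun m hm => coeff_epsPoly_of_lt hm), Finset.sum_range_succ,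
    Finset.sum_range_one, Ψ.lam_zero]
  simp [coeff_epsPoly]

theorem t_eq : Ψ.t = Ψ.lam 1 1 := by
  rw [t, toFun_epsPoly]
  simp [TrivSqZeroExt.algebraMap_eq_inl', DualNumber.snd_mul]

theorem lam_succ (M m : ℕ) (hm : m ≤ M) : Ψ.lam (M + 1) (m + 1) = Ψ.t * Ψ.lam M m := by
  let i : U B M →ₐ[B] DualNumber (U B M) :=
    (TrivSqZeroExt.inlAlgHom (U B M) (U B M) (U B M)).restrictScalars B
  have hi : ∀ x : U B M, i x = TrivSqZeroExt.inl x := fun x => rfl
  let f₁ : (DualNumber (U B M))[X] := (χ B M).map i.toRingHom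
  have hf₁ : IsDP f₁.coeff := isDP_map _ (isDP_χ M)
  have hc : ∀ n, (f₁ * epsPoly (U B M)).coeff (n + 1) =
      TrivSqZeroExt.inl (e B M (n + 1)) + TrivSqZeroExt.inl (e B M n) * DualNumber.eps := by
    intro n
    simp only [f₁, epsPoly, mul_add, mul_one, coeff_add, coeff_mul_monomial, coeff_map, coeff_χ]
    rfl
  have hc0 : (f₁ * epsPoly (U B M)).coeff 0 = 1 := (isDP_mul hf₁ (isDP_epsPoly _)).1
  have hbound : ∀ n, M + 1 < n → (f₁ * epsPoly (U B M)).coeff n = 0 := by
    intro n hn
    obtain ⟨n, rfl⟩ : ∃ k, n = k + 1 := ⟨n - 1, by omega⟩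
    rw [hc, e_eq_zero (by omega), e_eq_zero (by omega)]
    simp
  have h := Ψ.toFun_eq (isDP_mul hf₁ (isDP_epsPoly _)) hbound
  rw [Ψ.mul' _ _ _ hf₁ (isDP_epsPoly _), Ψ.map' _ _ i _ (isDP_χ M), toFun_epsPoly] at h
  have h2 := congrArg (fun x => coord m (TrivSqZeroExt.snd x)) h
  simp only [TrivSqZeroExt.snd_sum, map_sum] at h2
  rw [Finset.sum_eq_single (m + 1)] at h2
  · rw [hc] at h2
    simp [hi, TrivSqZeroExt.algebraMap_eq_inl', DualNumber.snd_mul, ← Algebra.smul_def, coord_e _ _ hm] at h2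
    rw [Ψ.t_eq, ← h2, mul_comm (Ψ.toFun _ _), ← Algebra.smul_def, map_smul, smul_eq_mul]
    rfl
  · intro n hn hne
    rcases n with _ | n
    · rw [hc0]
      simp [TrivSqZeroExt.algebraMap_eq_inl']
    · rw [hc]
      simp [TrivSqZeroExt.algebraMap_eq_inl', DualNumber.snd_mul, ← Algebra.smul_def, coord_e _ _ hm,
        (show m ≠ n by omega)]
  · intro h'
    exact absurd (Finset.mem_range.2 (by omega)) h'

theorem lam_eq_pow : ∀ M m, m ≤ M → Ψ.lam M m = Ψ.t ^ m := by
  intro M
  induction M with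
  | zero =>
    intro m hm
    obtain rfl : m = 0 := by omega
    rw [Ψ.lam_zero, pow_zero]
  | succ M ih =>
    intro m hm
    rcases m with _ | m
    · rw [Ψ.lam_zero, pow_zero]
    · rw [Ψ.lam_succ M m (by omega), ih m (by omega), pow_succ']

/-- Biduality: a functional is evaluation at its parameter. -/
theorem toFun_eq_eval {C : Type u} [CommRing C] [Algebra B C] {f : C[X]} (hf : IsDP f.coeff) :
    Ψ.toFun C f = f.eval (algebraMap B C Ψ.t) := by
  rw [Ψ.toFun_eq (M := f.natDegree) hf (fun m hm => coeff_eq_zero_of_natDegree_lt hm),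
    eval_eq_sum_range]
  refine Finset.sum_congr rfl fun m hm => ?_
  rw [Ψ.lam_eq_pow _ m (by rw [Finset.mem_range] at hm; omega), map_pow, mul_comm]

end Functional

theorem eval_epsPoly {C : Type u} [CommRing C] (t : C) :
    TrivSqZeroExt.snd ((epsPoly C).eval (algebraMap C (DualNumber C) t)) = t := by
  simp [epsPoly, TrivSqZeroExt.algebraMap_eq_inl', DualNumber.snd_mul]

end Groth.Agent.H23Ga.DPAlg
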