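import Groth.Agent.H23Ga.DualPts

/-!
Biduality for the additive group on the big sites.
-/

set_option autoImplicit false
set_option backward.isDefEq.respectTransparency false

universe u

open CategoryTheory AlgebraicGeometry Opposite

namespace Groth.Agent.H23Ga.DualPts

variable {S : Scheme.{u}} {K : Precoverage Scheme.{u}} [(QuotSh.J K S).Subcanonical]

/-- The affine test object of an affine open. -/
noncomputable def openHom {T : Over S} {V : T.left.Opens} (hV : IsAffineOpen V) :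
    Over.mk (hV.fromSpec ≫ T.hom) ⟶ T :=
  Over.homMk hV.fromSpec rfl

theorem γ_openHom {T : Over S} {V : T.left.Opens} (hV : IsAffineOpen V) (a : Γ(T.left, ⊤)) :
    γ Γ(T.left, V) ((openHom hV).left.appTop a) = T.left.presheaf.map (homOfLE le_top).op a := by
  change γ Γ(T.left, V) (hV.fromSpec.app ⊤ a) = _
  rw [hV.fromSpec_app_of_le ⊤ le_top]
  simp only [CommRingCat.comp_apply]
  rw [show (homOfLE (le_top : hV.fromSpec ⁻¹ᵁ (⊤ : T.left.Opens) ≤ ⊤)) = 𝟙 _ from Subsingleton.elim _ _,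
    op_id]
  erw [CategoryTheory.Functor.map_id]
  exact Iso.inv_hom_id_apply (Scheme.ΓSpecIso (CommRingCat.of Γ(T.left, V))) _

/-- The parameter on an affine open. -/
noncomputable def tOpen {T : Over S} (ψ : DDual K T) {V : T.left.Opens} (hV : IsAffineOpen V) : Γ(T.left, V) :=
  param ψ (openHom hV)

theorem tOpen_evalSect {T : Over S} (s : (CGrpSh2.Ga K S).obj.obj (op T)) {V : T.left.Opens}
    (hV : IsAffineOpen V) :
    tOpen (HomSh.evalSect (QuotSh.J K S) s) hV = T.left.presheaf.map (homOfLE le_top).op (gaVal s) := by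
  rw [tOpen, param_evalSect, γ_openHom]

theorem tOpen_map {T : Over S} (ψ : DDual K T) {V W : T.left.Opens} (hV : IsAffineOpen V) (hW : IsAffineOpen W)
    (i : W ⟶ V) : T.left.presheaf.map i.op (tOpen ψ hV) = tOpen ψ hW := by
  have e : Spec.map (CommRingCat.ofHom (T.left.presheaf.map i.op).hom) ≫ (hV.fromSpec ≫ T.hom) =
      hW.fromSpec ≫ T.hom := by
    rw [CommRingCat.ofHom_hom]
    erw [← Category.assoc, hV.map_fromSpec hW]
  have h : openHom hW = hom _ e ≫ openHom hV := by
    ext : 1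
    exact (hV.map_fromSpec hW i.op).symm
  rw [tOpen, tOpen, h, param_comp]

variable {B : Type u} [CommRing B] {y : Spec (CommRingCat.of B) ⟶ S}

theorem param_eq_of_tOpen_eq {T : Over S} {ψ ψ' : DDual K T}
    (h : ∀ (V : T.left.Opens) (hV : IsAffineOpen V), tOpen ψ hV = tOpen ψ' hV) (g : Over.mk y ⟶ T) :
    param ψ g = param ψ' g := by
  classical
  let I := {W : (Spec (CommRingCat.of B)).Opens //
    IsAffineOpen W ∧ ∃ V : T.left.Opens, IsAffineOpen V ∧ W ≤ g.left ⁻¹ᵁ V}
  refine (γ B).symm.injective (TopCat.Sheaf.eq_of_locally_eq' (Spec (CommRingCat.of B)).sheaf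
    (fun W : I => W.1) ⊤ (fun W => homOfLE le_top) ?_ _ _ fun W => ?_)
  · intro p _
    obtain ⟨V, hV, hp, -⟩ := exists_isAffineOpen_mem_and_subset (X := T.left) (x := g.left p) (U := ⊤) trivial
    obtain ⟨W, hW, hpW, hWV⟩ := exists_isAffineOpen_mem_and_subset (X := Spec (CommRingCat.of B)) (x := p)
      (U := g.left ⁻¹ᵁ V) hp
    exact TopologicalSpace.Opens.mem_iSup.2 ⟨⟨W, hW, V, hV, hWV⟩, hpW⟩
  · obtain ⟨W, hW, V, hV, hWV⟩ := W
    let k : B →+* Γ(Spec (CommRingCat.of B), W) :=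
      ((Spec (CommRingCat.of B)).presheaf.map (homOfLE (le_top : W ≤ ⊤)).op).hom.comp (γ B).symm.toRingHom
    let l : Γ(T.left, V) →+* Γ(Spec (CommRingCat.of B), W) := (g.left.appLE V W hWV).hom
    have hk : Spec.map (CommRingCat.ofHom k) = hW.fromSpec := by
      rw [show CommRingCat.ofHom k = (Scheme.ΓSpecIso (CommRingCat.of B)).inv ≫
        (Spec (CommRingCat.of B)).presheaf.map (homOfLE (le_top : W ≤ ⊤)).op from rfl, Spec.map_comp,
        ← Scheme.isoSpec_Spec_inv, ← IsAffineOpen.fromSpec_top]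
      exact (isAffineOpen_top _).map_fromSpec hW _
    have ek : Spec.map (CommRingCat.ofHom k) ≫ y = hW.fromSpec ≫ y := by rw [hk]
    have el : Spec.map (CommRingCat.ofHom l) ≫ (hV.fromSpec ≫ T.hom) = hW.fromSpec ≫ y := by
      rw [CommRingCat.ofHom_hom]
      erw [← Category.assoc, hV.SpecMap_appLE_fromSpec g.left hW hWV]
      rw [Category.assoc]
      exact congrArg (hW.fromSpec ≫ ·) (Over.w g)
    have hg : hom k ek ≫ g = hom l el ≫ openHom hV := by
      ext : 1
      change Spec.map (CommRingCat.ofHom k) ≫ g.left = Spec.map (g.left.appLE V W hWV) ≫ hV.fromSpec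
      rw [hk, hV.SpecMap_appLE_fromSpec g.left hW hWV]
    have key : k (param ψ g) = k (param ψ' g) := by
      rw [← param_comp ψ g k ek, ← param_comp ψ' g k ek, hg, param_comp, param_comp]
      exact congrArg l (h V hV)
    exact key

theorem ddual_eq_of_tOpen_eq {T : Over S} {ψ ψ' : DDual K T}
    (h : ∀ (V : T.left.Opens) (hV : IsAffineOpen V), tOpen ψ hV = tOpen ψ' hV) : ψ = ψ' := by
  refine ddual_ext fun W g φ => ?_
  obtain ⟨u, hu⟩ : ∃ u : (CGrpSh2.Gm K S).obj.obj (op W), gmVal u = dval ψ g φ := ⟨_, rfl⟩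
  obtain ⟨u', hu'⟩ : ∃ u : (CGrpSh2.Gm K S).obj.obj (op W), gmVal u = dval ψ' g φ := ⟨_, rfl⟩
  suffices hh : u = u' by rw [← hu, ← hu', hh]
  refine ULift.ext _ _ (congrArg Additive.ofMul (H21Rank1.hom_ext_chart fun B _ z j => ?_))
  refine H21Rank1.gmFn_injective ?_
  rw [H21Rank1.gmFn_comp, H21Rank1.gmFn_comp]
  change j.left.appTop (gmVal u) = j.left.appTop (gmVal u')
  rw [hu, hu', ← dval_comp ψ g j φ, ← dval_comp ψ' g j φ]
  have e : Spec.map (CommRingCat.ofHom (RingHom.id B)) ≫ z = z := by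
    rw [CommRingCat.ofHom_id, Spec.map_id, Category.id_comp]
  have hid : hom (RingHom.id B) e = 𝟙 (Over.mk z) := by
    ext : 1
    exact Spec.map_id _
  refine (γ B).injective ?_
  rw [← Category.id_comp (j ≫ g), ← hid, dval_eq, dval_eq, param_eq_of_tOpen_eq h]

theorem bidual_injective {T : Over S} :
    Function.Injective fun s : (CGrpSh2.Ga K S).obj.obj (op T) =>
      (HomSh.evalSect (QuotSh.J K S) s : DDual K T) := by
  intro s s' h
  refine gaVal_inj (TopCat.Sheaf.eq_of_locally_eq' T.left.sheaf (fun V : T.left.affineOpens => (V : T.left.Opens)) ⊤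
    (fun V => homOfLE le_top) (iSup_affineOpens_eq_top _).ge _ _ fun V => ?_)
  have h1 := congrArg (fun ψ => tOpen (K := K) ψ V.2) h
  dsimp only at h1
  rw [tOpen_evalSect, tOpen_evalSect] at h1
  exact h1

theorem bidual_surjective {T : Over S} :
    Function.Surjective fun s : (CGrpSh2.Ga K S).obj.obj (op T) =>
      (HomSh.evalSect (QuotSh.J K S) s : DDual K T) := by
  intro ψ
  have hc : TopCat.Presheaf.IsCompatible T.left.sheaf.1 (fun V : T.left.affineOpens => (V : T.left.Opens))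
      (fun V => tOpen ψ V.2) := by
    intro V V'
    refine TopCat.Sheaf.eq_of_locally_eq' T.left.sheaf
      (fun W : {W : T.left.affineOpens // (W : T.left.Opens) ≤ V.1 ⊓ V'.1} => (W.1 : T.left.Opens)) _
      (fun W => homOfLE W.2) ?_ _ _ fun W => ?_
    · intro p hp
      obtain ⟨W, hW, hpW, hWV⟩ := exists_isAffineOpen_mem_and_subset (X := T.left) (x := p)
        (U := (V : T.left.Opens) ⊓ V') hp
      exact TopologicalSpace.Opens.mem_iSup.2 ⟨⟨⟨W, hW⟩, hWV⟩, hpW⟩
    · rw [← ConcreteCategory.comp_apply, ← ConcreteCategory.comp_apply, ← Functor.map_comp, ← Functor.map_comp,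
        ← op_comp, ← op_comp]
      exact (tOpen_map ψ V.2 W.1.2 _).trans (tOpen_map ψ V'.2 W.1.2 _).symm
  obtain ⟨a, ha, -⟩ := T.left.sheaf.existsUnique_gluing' (fun V : T.left.affineOpens => (V : T.left.Opens)) ⊤
    (fun V => homOfLE le_top) (iSup_affineOpens_eq_top _).ge _ hc
  refine ⟨gaSec K a, ddual_eq_of_tOpen_eq fun V hV => ?_⟩
  rw [tOpen_evalSect, gaVal_gaSec]
  exact ha ⟨V, hV⟩

variable (S K) in
/-- Biduality for the additive group. -/
theorem isIso_toDoubleDual : IsIso (CGrpSh2.toDoubleDual K (CGrpSh2.Ga K S)) := by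
  have h : ∀ T, IsIso ((CGrpSh2.toDoubleDual K (CGrpSh2.Ga K S)).hom.app T) := fun T => by
    rw [ConcreteCategory.isIso_iff_bijective]
    exact ⟨bidual_injective (T := unop T), bidual_surjective (T := unop T)⟩
  haveI : IsIso ((sheafToPresheaf (QuotSh.J K S) AddCommGrpCat.{u + 1}).map
      (CGrpSh2.toDoubleDual K (CGrpSh2.Ga K S))) :=
    NatIso.isIso_of_isIso_app (CGrpSh2.toDoubleDual K (CGrpSh2.Ga K S)).hom
  exact isIso_of_reflects_iso _ (sheafToPresheaf (QuotSh.J K S) AddCommGrpCat.{u + 1})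

end Groth.Agent.H23Ga.DualPts
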