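import Groth.Prelude.Def_CGrpSh2
import Groth.Agent.H21Rank1.Coord
import Groth.Agent.H23Ga.DPAlg

/-!
Characters of the additive group on affine test objects, and sections of the double dual.
-/

set_option autoImplicit false
set_option backward.isDefEq.respectTransparency false

universe u

open CategoryTheory AlgebraicGeometry Opposite

namespace Groth.Agent.H23Ga.DualPts

variable {S : Scheme.{u}} {K : Precoverage Scheme.{u}} [(QuotSh.J K S).Subcanonical]

/-- The sections of the dual of the additive group. -/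
abbrev Dual (K : Precoverage Scheme.{u}) [(QuotSh.J K S).Subcanonical] (T : Over S) :=
  (CGrpSh2.Ga K S).over T ⟶ (CGrpSh2.Gm K S).over T

/-- The sections of the double dual of the additive group. -/
abbrev DDual (K : Precoverage Scheme.{u}) [(QuotSh.J K S).Subcanonical] (T : Over S) :=
  (CGrpSh2.dualSh K (CGrpSh2.Ga K S)).over T ⟶ (CGrpSh2.Gm K S).over T

/-! ### Coordinates -/

/-- The function of a section of the additive group. -/
noncomputable def gaVal {W : Over S} (x : (CGrpSh2.Ga K S).obj.obj (op W)) : Γ(W.left, ⊤) :=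
  Red.gaFn x.down.toMul

/-- The function of a section of the multiplicative group. -/
noncomputable def gmVal {W : Over S} (x : (CGrpSh2.Gm K S).obj.obj (op W)) : Γ(W.left, ⊤) :=
  Red.gmFn x.down.toMul

variable (K) in
/-- The section of the additive group with a given function. -/
noncomputable def gaSec {W : Over S} (a : Γ(W.left, ⊤)) : (CGrpSh2.Ga K S).obj.obj (op W) :=
  ULift.up (Additive.ofMul (H27Witt.GaCoord.gaFn_surjective a).choose)

theorem gaVal_gaSec {W : Over S} (a : Γ(W.left, ⊤)) : gaVal (gaSec K a) = a :=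
  (H27Witt.GaCoord.gaFn_surjective a).choose_spec

theorem gaVal_inj {W : Over S} {x y : (CGrpSh2.Ga K S).obj.obj (op W)} (h : gaVal x = gaVal y) : x = y :=
  ULift.ext _ _ (congrArg Additive.ofMul (H27Witt.GaCoord.gaFn_injective h))

theorem gaVal_add {W : Over S} (x y : (CGrpSh2.Ga K S).obj.obj (op W)) : gaVal (x + y) = gaVal x + gaVal y :=
  H27Witt.GaCoord.gaFn_mul _ _

theorem gaVal_map {W W' : Over S} (h : W' ⟶ W) (x : (CGrpSh2.Ga K S).obj.obj (op W)) :
    gaVal ((CGrpSh2.Ga K S).obj.map h.op x) = h.left.appTop (gaVal x) :=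
  H27Witt.GaCoord.gaFn_comp h _

theorem gaVal_zero {W : Over S} : gaVal (0 : (CGrpSh2.Ga K S).obj.obj (op W)) = 0 :=
  H27Witt.GaCoord.gaFn_one

theorem gaSec_gaVal {W : Over S} (x : (CGrpSh2.Ga K S).obj.obj (op W)) : gaSec K (gaVal x) = x :=
  gaVal_inj (gaVal_gaSec _)

theorem gaSec_add {W : Over S} (a b : Γ(W.left, ⊤)) : gaSec K (a + b) = gaSec K a + gaSec K b :=
  gaVal_inj (by rw [gaVal_add, gaVal_gaSec, gaVal_gaSec, gaVal_gaSec])

theorem gaSec_zero {W : Over S} : gaSec K (0 : Γ(W.left, ⊤)) = 0 :=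
  gaVal_inj (by rw [gaVal_gaSec, gaVal_zero])

theorem gaSec_map {W W' : Over S} (h : W' ⟶ W) (a : Γ(W.left, ⊤)) :
    (CGrpSh2.Ga K S).obj.map h.op (gaSec K a) = gaSec K (h.left.appTop a) :=
  gaVal_inj (by rw [gaVal_map, gaVal_gaSec, gaVal_gaSec])

theorem gmVal_inj {W : Over S} {x y : (CGrpSh2.Gm K S).obj.obj (op W)} (h : gmVal x = gmVal y) : x = y :=
  ULift.ext _ _ (congrArg Additive.ofMul (H21Rank1.gmFn_injective h))

theorem gmVal_add {W : Over S} (x y : (CGrpSh2.Gm K S).obj.obj (op W)) : gmVal (x + y) = gmVal x * gmVal y :=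
  H21Rank1.gmFn_mul _ _

theorem gmVal_zero {W : Over S} : gmVal (0 : (CGrpSh2.Gm K S).obj.obj (op W)) = 1 :=
  H21Rank1.gmFn_one

theorem gmVal_map {W W' : Over S} (h : W' ⟶ W) (x : (CGrpSh2.Gm K S).obj.obj (op W)) :
    gmVal ((CGrpSh2.Gm K S).obj.map h.op x) = h.left.appTop (gmVal x) :=
  H21Rank1.gmFn_comp h _

theorem isUnit_gmVal {W : Over S} (x : (CGrpSh2.Gm K S).obj.obj (op W)) : IsUnit (gmVal x) :=
  H21Rank1.isUnit_gmFn _

variable (K) in
/-- The section of the multiplicative group with a given function. -/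
noncomputable def gmSec {W : Over S} (a : Γ(W.left, ⊤)) (ha : IsUnit a) : (CGrpSh2.Gm K S).obj.obj (op W) :=
  ULift.up (Additive.ofMul (H21Rank1.gmFn_surjective a ha).choose)

theorem gmVal_gmSec {W : Over S} (a : Γ(W.left, ⊤)) (ha : IsUnit a) : gmVal (gmSec K a ha) = a :=
  (H21Rank1.gmFn_surjective a ha).choose_spec

/-! ### Characters as functions -/

/-- The value of a character on a function. -/
noncomputable def val {T W : Over S} (φ : Dual K T) (g : W ⟶ T) (a : Γ(W.left, ⊤)) : Γ(W.left, ⊤) :=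
  gmVal (K := K) (φ.hom.app (op (Over.mk g)) (gaSec K a))

theorem val_add {T W : Over S} (φ : Dual K T) (g : W ⟶ T) (a b : Γ(W.left, ⊤)) :
    val φ g (a + b) = val φ g a * val φ g b := by
  rw [val, gaSec_add]
  exact (congrArg gmVal (map_add (φ.hom.app (op (Over.mk g))).hom _ _)).trans (gmVal_add _ _)

theorem val_zero {T W : Over S} (φ : Dual K T) (g : W ⟶ T) : val φ g 0 = 1 := by
  rw [val, gaSec_zero]
  exact (congrArg gmVal (map_zero (φ.hom.app (op (Over.mk g))).hom)).trans gmVal_zero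

theorem val_comp {T W W' : Over S} (φ : Dual K T) (g : W ⟶ T) (h : W' ⟶ W) (a : Γ(W.left, ⊤)) :
    val φ (h ≫ g) (h.left.appTop a) = h.left.appTop (val φ g a) := by
  have hn := ConcreteCategory.congr_hom
    (φ.hom.naturality (Over.homMk h rfl : Over.mk (h ≫ g) ⟶ Over.mk g).op) (gaSec K a)
  rw [val, val, ← gaSec_map h a, ← gmVal_map h]
  exact congrArg gmVal hn

theorem val_restrict {T T' W : Over S} (φ : Dual K T) (k : T' ⟶ T) (g : W ⟶ T') (a : Γ(W.left, ⊤)) :
    val (((CGrpSh2.dualSh K (CGrpSh2.Ga K S)).obj.map k.op φ : Dual K T')) g a = val φ (g ≫ k) a := rfl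

theorem val_add_char {T W : Over S} (φ φ' : Dual K T) (g : W ⟶ T) (a : Γ(W.left, ⊤)) :
    val (φ + φ') g a = val φ g a * val φ' g a :=
  gmVal_add _ _

theorem dual_ext {T : Over S} {φ φ' : Dual K T}
    (h : ∀ (W : Over S) (g : W ⟶ T) (a : Γ(W.left, ⊤)), val φ g a = val φ' g a) : φ = φ' := by
  refine Sheaf.hom_ext (NatTrans.ext (funext fun U => AddCommGrpCat.ext fun x => ?_))
  refine gmVal_inj (K := K) ?_
  have := h (unop U).left (unop U).hom (gaVal (K := K) x)
  rwa [val, val, gaSec_gaVal] at this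

/-! ### Affine test objects -/

variable {B : Type u} [CommRing B] {y : Spec (CommRingCat.of B) ⟶ S}

/-- Global functions on an affine scheme. -/
noncomputable def γ (B : Type u) [CommRing B] : Γ(Spec (CommRingCat.of B), ⊤) ≃+* B :=
  (Scheme.ΓSpecIso (CommRingCat.of B)).commRingCatIsoToRingEquiv

/-- The morphism of affine test objects given by a ring map. -/
noncomputable def hom {C : Type u} [CommRing C] {z : Spec (CommRingCat.of C) ⟶ S} (h : B →+* C)
    (e : Spec.map (CommRingCat.ofHom h) ≫ y = z) : Over.mk z ⟶ Over.mk y :=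
  Over.homMk (Spec.map (CommRingCat.ofHom h)) e

theorem γ_hom {C : Type u} [CommRing C] {z : Spec (CommRingCat.of C) ⟶ S} (h : B →+* C)
    (e : Spec.map (CommRingCat.ofHom h) ≫ y = z) (x : Γ(Spec (CommRingCat.of B), ⊤)) :
    γ C ((hom h e).left.appTop x) = h (γ B x) :=
  ConcreteCategory.congr_hom (Scheme.ΓSpecIso_naturality (CommRingCat.ofHom h)) x

theorem hom_comp {C D : Type u} [CommRing C] [CommRing D] {z : Spec (CommRingCat.of C) ⟶ S}
    {w : Spec (CommRingCat.of D) ⟶ S} (h : B →+* C) (e : Spec.map (CommRingCat.ofHom h) ≫ y = z)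
    (k : C →+* D) (e' : Spec.map (CommRingCat.ofHom k) ≫ z = w) :
    hom k e' ≫ hom h e = hom (k.comp h)
      (by rw [CommRingCat.ofHom_comp, Spec.map_comp, Category.assoc, e, e']) := by
  ext : 1
  exact (Spec.map_comp _ _).symm

/-- The structure map of functions on an affine test object. -/
noncomputable def gs {W : Over S} (g : W ⟶ Over.mk y) : B →+* Γ(W.left, ⊤) :=
  (g.left.appTop.hom).comp (γ B).symm.toRingHom

theorem γ_eval₂ {R : Type u} [CommRing R] (k : B →+* R) (p : Polynomial B) (x : Γ(Spec (CommRingCat.of R), ⊤)) :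
    γ R (p.eval₂ ((γ R).symm.toRingHom.comp k) x) = p.eval₂ k (γ R x) := by
  rw [show γ R (p.eval₂ ((γ R).symm.toRingHom.comp k) x) =
    (γ R).toRingHom (p.eval₂ ((γ R).symm.toRingHom.comp k) x) from rfl, Polynomial.hom_eval₂]
  refine congrArg₂ (fun a b => p.eval₂ a b) (RingHom.ext fun b => ?_) rfl
  exact (γ R).apply_symm_apply _

theorem gs_comp {W W' : Over S} (h : W' ⟶ W) (g : W ⟶ Over.mk y) :
    gs (h ≫ g) = (h.left.appTop.hom).comp (gs g) := rfl

theorem gs_id : gs (𝟙 (Over.mk y)) = (γ B).symm.toRingHom := rfl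

theorem gs_hom {C : Type u} [CommRing C] {z : Spec (CommRingCat.of C) ⟶ S} (h : B →+* C)
    (e : Spec.map (CommRingCat.ofHom h) ≫ y = z) : gs (hom h e) = (γ C).symm.toRingHom.comp h := by
  refine RingHom.ext fun b => (γ C).injective ?_
  refine (γ_hom h e _).trans ?_
  simp

open Polynomial

/-- The affine line over an affine test object. -/
noncomputable abbrev homX (y : Spec (CommRingCat.of B) ⟶ S) :
    Over.mk (Spec.map (CommRingCat.ofHom (C : B →+* B[X])) ≫ y) ⟶ Over.mk y :=
  hom C rfl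

/-- The polynomial of a character. -/
noncomputable def pl (φ : Dual K (Over.mk y)) : B[X] :=
  γ B[X] (val φ (homX y) ((γ B[X]).symm X))

theorem val_eq (φ : Dual K (Over.mk y)) {W : Over S} (g : W ⟶ Over.mk y) (a : Γ(W.left, ⊤)) :
    val φ g a = (pl φ).eval₂ (gs g) a := by
  let l : W.left ⟶ Spec (CommRingCat.of B[X]) :=
    W.left.toSpecΓ ≫ Spec.map (CommRingCat.ofHom (eval₂RingHom (gs g) a))
  have h2 : (Scheme.ΓSpecIso (CommRingCat.of B[X])).inv ≫ l.appTop =
      CommRingCat.ofHom (eval₂RingHom (gs g) a) := by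
    simp [l]
  have hl : l ≫ Spec.map (CommRingCat.ofHom (C : B →+* B[X])) = g.left := by
    refine ext_of_isAffine ?_
    rw [← cancel_epi (Scheme.ΓSpecIso (CommRingCat.of B)).inv, Scheme.Hom.comp_appTop, ← Category.assoc,
      ← Scheme.ΓSpecIso_inv_naturality, Category.assoc, h2]
    refine CommRingCat.hom_ext (RingHom.ext fun b => ?_)
    change (C b).eval₂ (gs g) a = _
    rw [eval₂_C]
    rfl
  let m : W ⟶ Over.mk (Spec.map (CommRingCat.ofHom (C : B →+* B[X])) ≫ y) :=
    Over.homMk l (by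
      change l ≫ Spec.map _ ≫ y = W.hom
      rw [← Category.assoc, hl]
      exact Over.w g)
  have hm : m ≫ homX y = g := by
    ext : 1
    exact hl
  have hev : ∀ p : B[X], m.left.appTop ((γ B[X]).symm p) = p.eval₂ (gs g) a := fun p =>
    ConcreteCategory.congr_hom h2 p
  have := val_comp φ (homX y) m ((γ B[X]).symm X)
  rw [hm, hev, eval₂_X] at this
  rw [this, ← hev, pl, RingEquiv.symm_apply_apply]

theorem pl_isDP (φ : Dual K (Over.mk y)) : IsDP (pl φ).coeff := by
  rw [← isDP_iff_poly]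
  refine ⟨?_, (γ (MvPolynomial (Fin 2) B)).symm.injective ?_⟩
  · have h := congrArg (γ B) (val_eq φ (𝟙 (Over.mk y)) 0)
    rw [val_zero, gs_id, ← RingHom.comp_id (γ B).symm.toRingHom] at h
    exact ((γ_eval₂ (RingHom.id B) (pl φ) 0).symm.trans h.symm |>.trans (map_one _)).symm.symm |>
      fun h' => by rw [map_zero] at h'; exact h'
  · let g := hom (z := Spec.map (CommRingCat.ofHom (algebraMap B (MvPolynomial (Fin 2) B))) ≫ y)
      (algebraMap B (MvPolynomial (Fin 2) B)) rfl
    have h : ∀ p : MvPolynomial (Fin 2) B, val φ g ((γ _).symm p) = (γ _).symm (aeval p (pl φ)) := fun p => by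
      refine (γ _).injective ?_
      rw [val_eq, gs_hom, RingEquiv.apply_symm_apply, aeval_def, γ_eval₂, RingEquiv.apply_symm_apply]
    rw [map_mul, ← h, ← h, ← h, map_add]
    exact val_add _ _ _ _

/-- A polynomial with a divided power sequence of coefficients is multiplicative. -/
theorem eval₂_add_eq {R : Type u} [CommRing R] {f : B[X]} (hf : IsDP f.coeff) (r : B →+* R) (a b : R) :
    f.eval₂ r (a + b) = f.eval₂ r a * f.eval₂ r b := by
  have h := congrArg (MvPolynomial.eval₂Hom r ![a, b]) ((isDP_iff_poly f).2 hf).2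
  rw [map_mul, aeval_def, aeval_def, aeval_def, hom_eval₂, hom_eval₂, hom_eval₂] at h
  simpa [MvPolynomial.algebraMap_eq, MvPolynomial.eval₂Hom_comp_C] using h

theorem eval₂_zero_eq {R : Type u} [CommRing R] {f : B[X]} (hf : IsDP f.coeff) (r : B →+* R) :
    f.eval₂ r 0 = 1 := by
  rw [eval₂_at_zero, hf.1, map_one]

theorem isUnit_eval₂ {R : Type u} [CommRing R] {f : B[X]} (hf : IsDP f.coeff) (r : B →+* R) (a : R) :
    IsUnit (f.eval₂ r a) :=
  IsUnit.of_mul_eq_one (f.eval₂ r (-a))
    (by rw [← eval₂_add_eq hf, add_neg_cancel, eval₂_zero_eq hf])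

variable (K) in
/-- The homomorphism on points given by a polynomial. -/
noncomputable def chrHom (f : B[X]) (hf : IsDP f.coeff) {W : Over S} (g : W ⟶ Over.mk y) :
    ((CGrpSh2.Ga K S).obj.obj (op W)) →+ ((CGrpSh2.Gm K S).obj.obj (op W)) :=
  AddMonoidHom.mk' (fun x => gmSec K (f.eval₂ (gs g) (gaVal x)) (isUnit_eval₂ hf _ _)) fun x x' =>
    gmVal_inj (by rw [gmVal_add, gmVal_gmSec, gmVal_gmSec, gmVal_gmSec, gaVal_add, eval₂_add_eq hf])

theorem gmVal_chrHom (f : B[X]) (hf : IsDP f.coeff) {W : Over S} (g : W ⟶ Over.mk y)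
    (x : (CGrpSh2.Ga K S).obj.obj (op W)) : gmVal (chrHom K f hf g x) = f.eval₂ (gs g) (gaVal x) :=
  gmVal_gmSec _ (isUnit_eval₂ hf (gs g) (gaVal x))

theorem chrHom_map (f : B[X]) (hf : IsDP f.coeff) {W W' : Over S} (g : W ⟶ Over.mk y) (g' : W' ⟶ Over.mk y)
    (h : W' ⟶ W) (e : h ≫ g = g') (x : (CGrpSh2.Ga K S).obj.obj (op W)) :
    chrHom K f hf g' ((CGrpSh2.Ga K S).obj.map h.op x) = (CGrpSh2.Gm K S).obj.map h.op (chrHom K f hf g x) := by
  subst e
  refine gmVal_inj ?_
  rw [gmVal_map, gmVal_chrHom, gmVal_chrHom, gaVal_map, gs_comp]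
  exact (hom_eval₂ _ _ _ _).symm

variable (K) in
/-- The character of a polynomial. -/
noncomputable def chr (y : Spec (CommRingCat.of B) ⟶ S) (f : B[X]) (hf : IsDP f.coeff) : Dual K (Over.mk y) :=
  ⟨{ app := fun U => ConcreteCategory.ofHom (C := AddCommGrpCat.{u + 1})
      (X := (CGrpSh2.Ga K S).obj.obj (op (unop U).left)) (Y := (CGrpSh2.Gm K S).obj.obj (op (unop U).left))
      (chrHom K f hf (unop U).hom)
     naturality := fun U U' h => AddCommGrpCat.ext fun x => by
       exact chrHom_map f hf (unop U).hom (unop U').hom h.unop.left (Over.w h.unop) x }⟩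

theorem val_chr (f : B[X]) (hf : IsDP f.coeff) {W : Over S} (g : W ⟶ Over.mk y) (a : Γ(W.left, ⊤)) :
    val (chr K y f hf) g a = f.eval₂ (gs g) a := by
  refine (gmVal_chrHom f hf g (gaSec K a)).trans ?_
  rw [gaVal_gaSec]

theorem pl_ext {φ φ' : Dual K (Over.mk y)} (h : pl φ = pl φ') : φ = φ' :=
  dual_ext fun W g a => by rw [val_eq, val_eq, h]

theorem pl_eq_of (φ : Dual K (Over.mk y)) (f : B[X])
    (h : ∀ a, val φ (homX y) a = f.eval₂ (gs (homX y)) a) : pl φ = f := by
  rw [pl, h, gs_hom, γ_eval₂, RingEquiv.apply_symm_apply, eval₂_C_X]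

theorem pl_chr (f : B[X]) (hf : IsDP f.coeff) : pl (chr K y f hf) = f :=
  pl_eq_of _ f fun a => val_chr f hf _ a

theorem chr_pl (φ : Dual K (Over.mk y)) : chr K y (pl φ) (pl_isDP φ) = φ :=
  pl_ext (pl_chr _ _)

theorem pl_add (φ φ' : Dual K (Over.mk y)) : pl (φ + φ') = pl φ * pl φ' := by
  rw [pl, val_add_char, map_mul]
  rfl

theorem pl_zero : pl (0 : Dual K (Over.mk y)) = 1 := by
  rw [pl]
  exact (congrArg (γ B[X]) gmVal_zero).trans (map_one _)

theorem pl_restrict {C : Type u} [CommRing C] {z : Spec (CommRingCat.of C) ⟶ S} (k : B →+* C)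
    (e : Spec.map (CommRingCat.ofHom k) ≫ y = z) (φ : Dual K (Over.mk y)) :
    pl ((CGrpSh2.dualSh K (CGrpSh2.Ga K S)).obj.map (hom k e).op φ : Dual K (Over.mk z)) = (pl φ).map k := by
  refine pl_eq_of _ _ fun a => ?_
  rw [val_restrict, val_eq, eval₂_map, gs_comp]
  congr 1
  refine RingHom.ext fun b => ?_
  change (homX z).left.appTop (gs (hom k e) b) = _
  rw [gs_hom]
  rfl

/-! ### Sections of the double dual -/

/-- The value of a section of the double dual on a character. -/
noncomputable def dval {T W : Over S} (ψ : DDual K T) (g : W ⟶ T) (φ : Dual K W) : Γ(W.left, ⊤) :=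
  gmVal (K := K) (ψ.hom.app (op (Over.mk g)) φ)

theorem dval_add {T W : Over S} (ψ : DDual K T) (g : W ⟶ T) (φ φ' : Dual K W) :
    dval ψ g (φ + φ') = dval ψ g φ * dval ψ g φ' :=
  (congrArg gmVal (map_add (ψ.hom.app (op (Over.mk g))).hom φ φ')).trans (gmVal_add _ _)

theorem dval_zero {T W : Over S} (ψ : DDual K T) (g : W ⟶ T) : dval ψ g (0 : Dual K W) = 1 :=
  (congrArg gmVal (map_zero (ψ.hom.app (op (Over.mk g))).hom)).trans gmVal_zero

theorem dval_comp {T W W' : Over S} (ψ : DDual K T) (g : W ⟶ T) (h : W' ⟶ W) (φ : Dual K W) :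
    dval ψ (h ≫ g) ((CGrpSh2.dualSh K (CGrpSh2.Ga K S)).obj.map h.op φ : Dual K W') =
      h.left.appTop (dval ψ g φ) := by
  have hn := ConcreteCategory.congr_hom
    (ψ.hom.naturality (Over.homMk h rfl : Over.mk (h ≫ g) ⟶ Over.mk g).op) φ
  rw [dval, dval, ← gmVal_map h]
  exact congrArg gmVal hn

theorem ddual_ext {T : Over S} {ψ ψ' : DDual K T}
    (h : ∀ (W : Over S) (g : W ⟶ T) (φ : Dual K W), dval ψ g φ = dval ψ' g φ) : ψ = ψ' := by
  refine Sheaf.hom_ext (NatTrans.ext (funext fun U => ?_))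
  obtain ⟨U⟩ := U
  obtain ⟨W, g, rfl⟩ := Over.mk_surjective U
  refine AddCommGrpCat.ext fun (φ : Dual K W) => ?_
  exact gmVal_inj (W := W) (K := K) (h W g φ)

/-- The value of a section of the double dual on the character of a polynomial over an algebra. -/
noncomputable def polyVal {T : Over S} (ψ : DDual K T) (g : Over.mk y ⟶ T) (C : Type u) [CommRing C] [Algebra B C]
    (f : C[X]) (hf : IsDP f.coeff) : C :=
  γ C (dval ψ (hom (z := Spec.map (CommRingCat.ofHom (algebraMap B C)) ≫ y) (algebraMap B C) rfl ≫ g)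
    (chr K _ f hf))

theorem polyVal_map {T : Over S} (ψ : DDual K T) (g : Over.mk y ⟶ T) (C D : Type u) [CommRing C] [Algebra B C]
    [CommRing D] [Algebra B D] (k : C →ₐ[B] D) (f : C[X]) (hf : IsDP f.coeff) :
    polyVal ψ g D (f.map k.toRingHom) (DPAlg.isDP_map _ hf) = k (polyVal ψ g C f hf) := by
  have e : Spec.map (CommRingCat.ofHom k.toRingHom) ≫ (Spec.map (CommRingCat.ofHom (algebraMap B C)) ≫ y) =
      Spec.map (CommRingCat.ofHom (algebraMap B D)) ≫ y := by
    rw [← Category.assoc, ← Spec.map_comp, ← CommRingCat.ofHom_comp]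
    rw [show k.toRingHom.comp (algebraMap B C) = algebraMap B D from k.comp_algebraMap]
  have h1 : chr K _ (f.map k.toRingHom) (DPAlg.isDP_map _ hf) =
      ((CGrpSh2.dualSh K (CGrpSh2.Ga K S)).obj.map (hom k.toRingHom e).op (chr K _ f hf) :
        Dual K (Over.mk (Spec.map (CommRingCat.ofHom (algebraMap B D)) ≫ y))) :=
    pl_ext (by rw [pl_chr, pl_restrict, pl_chr])
  have h2 : hom (algebraMap B D) rfl ≫ g = hom k.toRingHom e ≫ hom (algebraMap B C) rfl ≫ g := by
    rw [← Category.assoc, hom_comp]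
    congr 2
    exact k.comp_algebraMap.symm
  rw [polyVal, polyVal, h1, h2, dval_comp]
  exact γ_hom k.toRingHom e _

theorem polyVal_mul {T : Over S} (ψ : DDual K T) (g : Over.mk y ⟶ T) (C : Type u) [CommRing C] [Algebra B C]
    (f f' : C[X]) (hf : IsDP f.coeff) (hf' : IsDP f'.coeff) :
    polyVal ψ g C (f * f') (DPAlg.isDP_mul hf hf') = polyVal ψ g C f hf * polyVal ψ g C f' hf' := by
  rw [polyVal, polyVal, polyVal, ← map_mul, ← dval_add]
  congr 2
  exact pl_ext (by rw [pl_chr, pl_add, pl_chr, pl_chr])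

theorem polyVal_one {T : Over S} (ψ : DDual K T) (g : Over.mk y ⟶ T) (C : Type u) [CommRing C] [Algebra B C] :
    polyVal ψ g C 1 DPAlg.isDP_one = 1 := by
  rw [polyVal, show chr K _ (1 : C[X]) DPAlg.isDP_one = 0 from pl_ext (by rw [pl_chr, pl_zero]), dval_zero, map_one]

open scoped Classical in
/-- The functional on polynomials given by a section of the double dual at an affine test object. -/
noncomputable def functional {T : Over S} (ψ : DDual K T) (g : Over.mk y ⟶ T) : DPAlg.Functional B where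
  toFun C _ _ f := if h : IsDP f.coeff then polyVal ψ g C f h else 0
  map' C D _ _ _ _ k f hf := by
    rw [dif_pos hf, dif_pos (DPAlg.isDP_map _ hf)]
    exact polyVal_map ψ g C D k f hf
  mul' C _ _ f f' hf hf' := by
    rw [dif_pos hf, dif_pos hf', dif_pos (DPAlg.isDP_mul hf hf')]
    exact polyVal_mul ψ g C f f' hf hf'
  one' C _ _ := by
    rw [dif_pos DPAlg.isDP_one]
    exact polyVal_one ψ g C

/-- The parameter of a section of the double dual at an affine test object. -/
noncomputable def param {T : Over S} (ψ : DDual K T) (g : Over.mk y ⟶ T) : B := (functional ψ g).t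

theorem dval_eq {T : Over S} (ψ : DDual K T) (g : Over.mk y ⟶ T) {C : Type u} [CommRing C]
    {z : Spec (CommRingCat.of C) ⟶ S} (h : B →+* C) (e : Spec.map (CommRingCat.ofHom h) ≫ y = z)
    (φ : Dual K (Over.mk z)) :
    γ C (dval ψ (hom h e ≫ g) φ) = (pl φ).eval (h (param ψ g)) := by
  subst e
  letI := h.toAlgebra
  have h1 := (functional ψ g).toFun_eq_eval (C := C) (pl_isDP φ)
  simp only [functional, dif_pos (pl_isDP φ), polyVal, chr_pl] at h1
  exact h1

theorem param_comp {T : Over S} (ψ : DDual K T) (g : Over.mk y ⟶ T) {C : Type u} [CommRing C]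
    {z : Spec (CommRingCat.of C) ⟶ S} (h : B →+* C) (e : Spec.map (CommRingCat.ofHom h) ≫ y = z) :
    param ψ (hom h e ≫ g) = h (param ψ g) := by
  classical
  have h1 : (functional ψ (hom h e ≫ g)).toFun (DualNumber C) (DPAlg.epsPoly C) =
      (DPAlg.epsPoly C).eval (algebraMap C (DualNumber C) (h (param ψ g))) := by
    change dite _ _ _ = _
    rw [dif_pos (DPAlg.isDP_epsPoly C), polyVal, ← Category.assoc, hom_comp, dval_eq, pl_chr]
    rfl
  rw [param, DPAlg.Functional.t, h1, DPAlg.eval_epsPoly]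

theorem dval_evalSect {T W : Over S} (s : (CGrpSh2.Ga K S).obj.obj (op T)) (g : W ⟶ T) (φ : Dual K W) :
    dval (HomSh.evalSect (QuotSh.J K S) s) g φ = val φ (𝟙 W) (g.left.appTop (gaVal s)) := by
  have h1 : gaSec K (g.left.appTop (gaVal s)) = (CGrpSh2.Ga K S).obj.map g.op s :=
    gaVal_inj (by rw [gaVal_gaSec, gaVal_map])
  exact (congrArg (fun x => gmVal (K := K) (φ.hom.app (op (Over.mk (𝟙 W))) x)) h1).symm

theorem param_evalSect {T : Over S} (s : (CGrpSh2.Ga K S).obj.obj (op T)) (g : Over.mk y ⟶ T) :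
    param (HomSh.evalSect (QuotSh.J K S) s) g = γ B (g.left.appTop (gaVal s)) := by
  classical
  have h1 : (functional (HomSh.evalSect (QuotSh.J K S) s) g).toFun (DualNumber B) (DPAlg.epsPoly B) =
      (DPAlg.epsPoly B).eval (algebraMap B (DualNumber B) (γ B (g.left.appTop (gaVal s)))) := by
    change dite _ _ _ = _
    rw [dif_pos (DPAlg.isDP_epsPoly B), polyVal, dval_evalSect, val_eq, pl_chr, gs_id,
      ← RingHom.comp_id (γ (DualNumber B)).symm.toRingHom, γ_eval₂, Over.comp_left, Scheme.Hom.comp_appTop]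
    exact congrArg (fun x => (DPAlg.epsPoly B).eval x) (γ_hom (algebraMap B (DualNumber B)) rfl _)
  rw [param, DPAlg.Functional.t, h1, DPAlg.eval_epsPoly]

end Groth.Agent.H23Ga.DualPts
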