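import Groth.Agent.H23Ga.TorsorAlg
import Mathlib.LinearAlgebra.TensorProduct.RightExactness

/-!
# Lifts over a quotient descend to finitely many relations

A lift over `C` is a unit of `C ⊗ B` satisfying one equation in `C ⊗ (B ⊗ B)`; if `C` is a quotient of `P`, both
conditions only use finitely many elements of the kernel.
-/

set_option autoImplicit false
set_option backward.isDefEq.respectTransparency false
set_option linter.style.haveILetI false

universe u

open CategoryTheory AlgebraicGeometry Opposite TensorProduct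

namespace Groth.Agent.H23Ga.GmLift

variable {S : Scheme.{u}} {A : Type u} [CommRing A] {y : Spec (CommRingCat.of A) ⟶ S}
  {𝒮 : Seq S} {q : 𝒮.Q.obj.obj (op (Over.mk y))}

/-- Elements killed by a surjection after tensoring are killed by a finite part of its kernel. -/
theorem exists_finset_killing {P C M : Type u} [CommRing P] [Algebra A P] [CommRing C] [Algebra A C]
    [AddCommGroup M] [Module A M] (π : P →ₐ[A] C) (hπ : Function.Surjective π) (x : P ⊗[A] M)
    (hx : π.toLinearMap.rTensor M x = 0) :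
    ∃ s : Finset P, (∀ z ∈ s, π z = 0) ∧ ∀ (C' : Type u) [CommRing C'] [Algebra A C'] (φ : P →ₐ[A] C'),
      (∀ z ∈ s, φ z = 0) → φ.toLinearMap.rTensor M x = 0 := by
  classical
  obtain ⟨z, rfl⟩ := (rTensor_exact M (LinearMap.exact_subtype_ker_map π.toLinearMap) hπ x).1 hx
  clear hx
  induction z using TensorProduct.induction_on with
  | zero => exact ⟨∅, by simp, fun C' _ _ φ _ => by simp⟩
  | tmul k m =>
    refine ⟨{k.1}, fun z hz => ?_, fun C' _ _ φ h => ?_⟩
    · rw [Finset.mem_singleton.1 hz]; exact k.2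
    · simp [h k.1 (Finset.mem_singleton_self _)]
  | add a b ha hb =>
    obtain ⟨s, hs, hs'⟩ := ha
    obtain ⟨t, ht, ht'⟩ := hb
    refine ⟨s ∪ t, fun z hz => (Finset.mem_union.1 hz).elim (hs z) (ht z), fun C' _ _ φ h => ?_⟩
    rw [map_add, map_add, hs' C' φ fun z hz => h z (Finset.mem_union_left _ hz),
      ht' C' φ fun z hz => h z (Finset.mem_union_right _ hz), add_zero]

variable {B : Type u} [CommRing B] [Algebra A B] (eB : Lifts 𝒮 q B)

/-- The two maps to the double overlap. -/
noncomputable abbrev dL (C : Type u) [CommRing C] [Algebra A C] : C ⊗[A] B →ₐ[A] C ⊗[A] (B ⊗[A] B) :=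
  Algebra.TensorProduct.map (AlgHom.id A C) (inL B)

/-- The two maps to the double overlap. -/
noncomputable abbrev dR (C : Type u) [CommRing C] [Algebra A C] : C ⊗[A] B →ₐ[A] C ⊗[A] (B ⊗[A] B) :=
  Algebra.TensorProduct.map (AlgHom.id A C) (inR B)

/-- The equation of a lift in a tensor product. -/
def IsTwisted (C : Type u) [CommRing C] [Algebra A C] (m : C ⊗[A] B) : Prop :=
  dR C m = dL C m * (Algebra.TensorProduct.includeRight : B ⊗[A] B →ₐ[A] C ⊗[A] (B ⊗[A] B)) (cu eB)

theorem exists_twisted {C : Type u} [CommRing C] [Algebra A C] (e : Lifts 𝒮 q C) :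
    ∃ m : C ⊗[A] B, IsTwisted eB C m ∧ IsUnit m := by
  let fL : C →ₐ[A] C ⊗[A] B := Algebra.TensorProduct.includeLeft
  let j : B →ₐ[A] C ⊗[A] B := Algebra.TensorProduct.includeRight
  refine ⟨δ (res fL e) (res j eB), ?_, isUnit_δ _ _⟩
  rw [IsTwisted, cu, ← δ_res, ← δ_res, ← δ_res, res_comp, res_comp, res_comp, res_comp, res_comp, res_comp,
    show (dR (B := B) C).comp fL = (dL (B := B) C).comp fL from AlgHom.ext fun x => by
      simp [fL, Algebra.TensorProduct.one_def],
    show (dR (B := B) C).comp j = (Algebra.TensorProduct.includeRight :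
      B ⊗[A] B →ₐ[A] C ⊗[A] (B ⊗[A] B)).comp (inR B) from AlgHom.ext fun x => by simp [j],
    show (dL (B := B) C).comp j = (Algebra.TensorProduct.includeRight :
      B ⊗[A] B →ₐ[A] C ⊗[A] (B ⊗[A] B)).comp (inL B) from AlgHom.ext fun x => by simp [j]]
  exact δ_trans _ _ _

variable {eB}

theorem exists_lift_of_twisted [Module.FaithfullyFlat A B] [Algebra.FinitePresentation A B] {C : Type u}
    [CommRing C] [Algebra A C] {m : C ⊗[A] B} (hm : IsTwisted eB C m) (hu : IsUnit m) :
    Nonempty (Lifts 𝒮 q C) := by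
  let fL : C →ₐ[A] C ⊗[A] B := Algebra.TensorProduct.includeLeft
  let j : B →ₐ[A] C ⊗[A] B := Algebra.TensorProduct.includeRight
  obtain ⟨c, hc⟩ := hu.exists_right_inv
  have hcu : IsUnit c := IsUnit.of_mul_eq_one_right _ hc
  let e' : Lifts 𝒮 q (C ⊗[A] B) := shift (res j eB) c hcu
  obtain ⟨e₀, -⟩ := exists_descent (isCover_baseChange (B := B) C) (fun _ => e') fun _ _ D _ _ a b hab => by
    refine eq_of_δ_eq_one _ _ ?_
    have h1 : δ e' (res j eB) = m := by
      refine hcu.mul_left_cancel ?_
      rw [mul_comm c m, hc]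
      have := δ_swap (res j eB) e'
      rwa [δ_shift] at this
    have h2 : δ (res j eB) e' = c := δ_shift _ _ _
    let h : C ⊗[A] (B ⊗[A] B) →ₐ[A] D :=
      Algebra.TensorProduct.productMap (a.comp fL) (Algebra.TensorProduct.productMap (a.comp j) (b.comp j))
    have ha : h.comp (dL (B := B) C) = a := Algebra.TensorProduct.ext
      (AlgHom.ext fun x => by simp [h, fL, ← Algebra.TensorProduct.one_def])
      (AlgHom.ext fun x => by simp [h, j, ← Algebra.TensorProduct.one_def])
    have hb : h.comp (dR (B := B) C) = b := Algebra.TensorProduct.ext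
      (AlgHom.ext fun x => by simpa [h, fL, ← Algebra.TensorProduct.one_def] using DFunLike.congr_fun hab x)
      (AlgHom.ext fun x => by simp [h, j, ← Algebra.TensorProduct.one_def])
    have hkey : b m = a m * δ (res (a.comp j) eB) (res (b.comp j) eB) := by
      have := congrArg h hm
      rw [map_mul, ← AlgHom.comp_apply h, hb, ← AlgHom.comp_apply h, ha, ← AlgHom.comp_apply h,
        show h.comp Algebra.TensorProduct.includeRight =
          Algebra.TensorProduct.productMap (a.comp j) (b.comp j) from Algebra.TensorProduct.productMap_right _ _,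
        cu, ← δ_res, res_productMap_left, res_productMap_right] at this
      exact this
    rw [δ_trans (res a e') (res a (res j eB)) (res b e'), δ_trans (res a (res j eB)) (res b (res j eB)) (res b e'),
      δ_res, δ_res, h1, h2, res_comp, res_comp, ← mul_assoc, ← hkey, ← map_mul, hc, map_one]
  exact ⟨e₀⟩

/-- A lift over a quotient gives lifts over all algebras satisfying finitely many of its relations. -/
theorem exists_finset_lifts {P C : Type u} [CommRing P] [Algebra A P] [CommRing C] [Algebra A C]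
    (π : P →ₐ[A] C) (hπ : Function.Surjective π) (e : Lifts 𝒮 q C) :
    ∃ s : Finset P, (∀ z ∈ s, π z = 0) ∧ ∀ (C' : Type u) [CommRing C'] [Algebra A C'] (φ : P →ₐ[A] C'),
      (∀ z ∈ s, φ z = 0) → Nonempty (Lifts 𝒮 q C') := by
  classical
  obtain ⟨B, _, _, _, _, ⟨eB⟩⟩ := exists_cover_lift 𝒮 q
  obtain ⟨m, hm, hu⟩ := exists_twisted eB e
  obtain ⟨v, hv⟩ := hu.exists_right_inv
  let t {D : Type u} [CommRing D] [Algebra A D] (f : P →ₐ[A] D) (M : Type u) [CommRing M] [Algebra A M] :
      P ⊗[A] M →ₐ[A] D ⊗[A] M := Algebra.TensorProduct.map f (AlgHom.id A M)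
  have ht : ∀ {D : Type u} [CommRing D] [Algebra A D] (f : P →ₐ[A] D) (M : Type u) [CommRing M] [Algebra A M]
      (x : P ⊗[A] M), t f M x = f.toLinearMap.rTensor M x := fun f M _ _ x => rfl
  have hsurj : Function.Surjective (t π B) := fun x => LinearMap.rTensor_surjective B hπ x
  obtain ⟨m', rfl⟩ := hsurj m
  obtain ⟨v', rfl⟩ := hsurj v
  let err := dR P m' - dL P m' * (Algebra.TensorProduct.includeRight : B ⊗[A] B →ₐ[A] P ⊗[A] (B ⊗[A] B)) (cu eB)
  have htR : ∀ {D : Type u} [CommRing D] [Algebra A D] (f : P →ₐ[A] D) (x : P ⊗[A] B),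
      t f (B ⊗[A] B) (dR P x) = dR D (t f B x) := fun f x =>
    DFunLike.congr_fun (show (t f (B ⊗[A] B)).comp (dR P) = (dR _).comp (t f B) from
      Algebra.TensorProduct.ext (AlgHom.ext fun z => by simp [t])
        (AlgHom.ext fun z => by simp [t])) x
  have htL : ∀ {D : Type u} [CommRing D] [Algebra A D] (f : P →ₐ[A] D) (x : P ⊗[A] B),
      t f (B ⊗[A] B) (dL P x) = dL D (t f B x) := fun f x =>
    DFunLike.congr_fun (show (t f (B ⊗[A] B)).comp (dL P) = (dL _).comp (t f B) from
      Algebra.TensorProduct.ext (AlgHom.ext fun z => by simp [t])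
        (AlgHom.ext fun z => by simp [t])) x
  have herr : ∀ {D : Type u} [CommRing D] [Algebra A D] (f : P →ₐ[A] D),
      t f (B ⊗[A] B) err = 0 ↔ IsTwisted eB D (t f B m') := fun f => by
    simp only [err, map_sub, map_mul, htR, htL, sub_eq_zero, IsTwisted]
    simp [t]
  obtain ⟨s₁, hs₁, hk₁⟩ := exists_finset_killing π hπ (m' * v' - 1) (by
    rw [← ht, map_sub, map_mul, map_one, hv, sub_self])
  obtain ⟨s₂, hs₂, hk₂⟩ := exists_finset_killing π hπ err ((ht π _ err).symm.trans ((herr π).2 hm))
  refine ⟨s₁ ∪ s₂, fun z hz => (Finset.mem_union.1 hz).elim (hs₁ z) (hs₂ z), fun C' _ _ φ hφ => ?_⟩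
  have h1 := (ht φ _ _).trans (hk₁ C' φ fun z hz => hφ z (Finset.mem_union_left _ hz))
  rw [map_sub, map_mul, map_one, sub_eq_zero] at h1
  exact exists_lift_of_twisted ((herr φ).1 ((ht φ _ err).trans (hk₂ C' φ fun z hz => hφ z (Finset.mem_union_right _ hz))))
    (IsUnit.of_mul_eq_one _ h1)

end Groth.Agent.H23Ga.GmLift
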