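import Mathlib.FieldTheory.IsAlgClosed.AlgebraicClosure
import Mathlib.FieldTheory.Perfect
import Mathlib.RingTheory.FinitePresentation
import Groth.Agent.H17.FiniteSplit.Basic

/-!
# Adjoining all `p`-power roots

For a ring `B` of characteristic `p`, a quotient of a polynomial ring in which every element of `B` has compatible
`p`-power roots; finitely many of its relations hold in a finite free faithfully flat algebra.
-/

set_option autoImplicit false
set_option linter.style.haveILetI false

universe u

open Polynomial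

namespace Groth.Agent.H23Ga.RootAlg

variable (p : ℕ) (B : Type u) [CommRing B]

/-- The polynomial ring on formal roots. -/
abbrev Pre : Type u := MvPolynomial (B × ℕ) B

/-- The relations. -/
noncomputable def rel : B × ℕ → Pre B
  | (a, 0) => MvPolynomial.X (a, 0) - MvPolynomial.C a
  | (a, n + 1) => MvPolynomial.X (a, n + 1) ^ p - MvPolynomial.X (a, n)

/-- The ideal of relations. -/
noncomputable def rels : Ideal (Pre B) := Ideal.span (Set.range (rel p B))

/-- All `p`-power roots adjoined. -/
abbrev Alg : Type u := Pre B ⧸ rels p B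

/-- Finitely many relations hold in a finite free faithfully flat algebra. -/
theorem exists_stage [Fact p.Prime] (s : Finset (Pre B)) (hs : ∀ x ∈ s, x ∈ rels p B) :
    ∃ (B' : Type u) (_ : CommRing B') (_ : Algebra B B') (φ : Pre B →ₐ[B] B'),
      Module.FaithfullyFlat B B' ∧ Algebra.FinitePresentation B B' ∧ ∀ x ∈ s, φ x = 0 := by
  classical
  have hT : ∀ x ∈ rels p B, ∃ T : Finset (B × ℕ), x ∈ Ideal.span (rel p B '' ↑T) := fun x hx => by
    obtain ⟨U, hU, hxU⟩ := Submodule.mem_span_finite_of_mem_span hx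
    obtain ⟨T, -, hT⟩ : ∃ T : Finset (B × ℕ), ↑T ⊆ (Set.univ : Set (B × ℕ)) ∧ T.image (rel p B) = U :=
      Finset.subset_set_image_iff.1 (Set.image_univ (f := rel p B) ▸ hU)
    refine ⟨T, ?_⟩
    rw [← Finset.coe_image, hT]
    exact hxU
  choose! T hT' using hT
  let idx : Finset (B × ℕ) := s.biUnion T
  let F : Finset B := idx.image Prod.fst
  let N : ℕ := idx.sup Prod.snd
  let e := F.equivFin
  let P : Fin F.card → B[X] := fun i => X ^ p ^ N - C (e.symm i).1
  have hP : ∀ i, (P i).Monic := fun i => monic_X_pow_sub_C _ (pow_ne_zero _ (Fact.out : p.Prime).ne_zero)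
  obtain ⟨B', _, _, d, r, _, _, hff, hr⟩ := H17.FiniteSplit.exists_split_family B _ P hP
  have hroot : ∀ a : B, a ∈ F → ∃ ρ : B', ρ ^ p ^ N = algebraMap B B' a := fun a ha => by
    rcases subsingleton_or_nontrivial B' with h | h
    · exact ⟨0, Subsingleton.elim _ _⟩
    have h0 := hr (e ⟨a, ha⟩)
    have hd : 0 < d (e ⟨a, ha⟩) := by
      by_contra hd
      haveI : IsEmpty (Fin (d (e ⟨a, ha⟩))) := by
        rw [Nat.eq_zero_of_not_pos hd]; infer_instance
      rw [Fintype.prod_empty] at h0
      have hdeg := congrArg natDegree h0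
      haveI := (algebraMap B B').domain_nontrivial
      rw [(hP _).natDegree_map, natDegree_X_pow_sub_C, natDegree_one] at hdeg
      exact pow_ne_zero _ (Fact.out : p.Prime).ne_zero hdeg
    refine ⟨r _ ⟨0, hd⟩, ?_⟩
    have h1 := congrArg (eval (r _ ⟨0, hd⟩)) h0
    rw [eval_prod, Finset.prod_eq_zero (Finset.mem_univ ⟨0, hd⟩) (by simp)] at h1
    simpa [P, sub_eq_zero] using h1
  choose! ρ hρ using hroot
  haveI : Module.FinitePresentation B B' := Module.finitePresentation_of_projective B B'
  let φ : Pre B →ₐ[B] B' := MvPolynomial.aeval fun i => ρ i.1 ^ p ^ (N - i.2)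
  refine ⟨B', inferInstance, inferInstance, φ, hff, Algebra.FinitePresentation.of_finitePresentation B B',
    fun x hx => ?_⟩
  have hle : Ideal.span (rel p B '' ↑idx) ≤ RingHom.ker φ.toRingHom := Ideal.span_le.2 fun z hz => by
    obtain ⟨⟨a, n⟩, hn, rfl⟩ := hz
    have hN : n ≤ N := Finset.le_sup (f := Prod.snd) (Finset.mem_coe.1 hn)
    have hρa := hρ a (Finset.mem_image_of_mem Prod.fst (Finset.mem_coe.1 hn))
    change φ _ = 0
    cases n with
    | zero => simp [φ, rel, hρa]
    | succ n =>
      simp only [φ, rel, map_sub, map_pow, MvPolynomial.aeval_X, ← pow_mul, ← pow_succ,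
        show N - n = N - (n + 1) + 1 by omega, sub_self]
  refine hle (Ideal.span_mono (Set.image_mono ?_) (hT' x (hs x hx)))
  exact Finset.coe_subset.2 (Finset.subset_biUnion_of_mem T hx)

theorem mk_rel (i : B × ℕ) : Ideal.Quotient.mk (rels p B) (rel p B i) = 0 :=
  Ideal.Quotient.eq_zero_iff_mem.2 (Ideal.subset_span ⟨i, rfl⟩)

variable [Fact p.Prime]

theorem nontrivial_alg [Nontrivial B] (hB : (p : B) = 0) : Nontrivial (Alg p B) := by
  obtain ⟨m, hm⟩ := Ideal.exists_maximal B
  letI := Ideal.Quotient.field m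
  let L := AlgebraicClosure (B ⧸ m)
  let f : B →+* L := (algebraMap (B ⧸ m) L).comp (Ideal.Quotient.mk m)
  haveI : CharP L p := (CharP.charP_iff_prime_eq_zero (Fact.out : p.Prime)).2
    (by rw [← map_natCast f, hB, map_zero])
  haveI : ExpChar L p := ExpChar.prime Fact.out
  haveI : PerfectRing L p := PerfectField.toPerfectRing p
  let v : B × ℕ → L := fun i => ((frobeniusEquiv L p).symm)^[i.2] (f i.1)
  refine (Ideal.Quotient.lift (rels p B) (MvPolynomial.eval₂Hom f v) fun x hx => ?_).domain_nontrivial
  refine (show rels p B ≤ RingHom.ker (MvPolynomial.eval₂Hom f v) from Ideal.span_le.2 ?_) hx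
  rintro _ ⟨⟨a, n⟩, rfl⟩
  cases n with
  | zero => simp [rel, v]
  | succ n => simp [rel, v, Function.iterate_succ_apply']

theorem charP_alg [Nontrivial B] (hB : (p : B) = 0) : CharP (Alg p B) p := by
  haveI := nontrivial_alg p B hB
  exact (CharP.charP_iff_prime_eq_zero (Fact.out : p.Prime)).2
    (by rw [← map_natCast (algebraMap B (Alg p B)), hB, map_zero])

theorem frobenius_surjective [CharP (Alg p B) p] : Function.Surjective (frobenius (Alg p B) p) := by
  have hX : ∀ i : B × ℕ, Ideal.Quotient.mk (rels p B) (MvPolynomial.X i) ∈ (frobenius (Alg p B) p).range :=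
    fun i => ⟨Ideal.Quotient.mk (rels p B) (MvPolynomial.X (i.1, i.2 + 1)), by
      have h := mk_rel p B (i.1, i.2 + 1)
      rw [rel, map_sub, map_pow, sub_eq_zero] at h
      rw [frobenius_def]
      exact h⟩
  intro x
  obtain ⟨P, rfl⟩ := Ideal.Quotient.mk_surjective x
  change Ideal.Quotient.mk (rels p B) P ∈ (frobenius (Alg p B) p).range
  induction P using MvPolynomial.induction_on with
  | C a =>
    have h := mk_rel p B (a, 0)
    rw [rel, map_sub, sub_eq_zero] at h
    rw [← h]
    exact hX (a, 0)
  | add P Q hP hQ => rw [map_add]; exact add_mem hP hQ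
  | mul_X P i hP => rw [map_mul]; exact mul_mem hP (hX i)

end Groth.Agent.H23Ga.RootAlg
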