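import Groth.Agent.H23Ga.GmLine
import Groth.Agent.H23Ga.Split
import Groth.Agent.H23Ga.RootAlg
import Groth.Agent.H23Ga.LiftApprox
import Mathlib.Algebra.MvPolynomial.Nilpotent

/-!
# Lifting homomorphisms from the additive group locally in characteristic `p`

Over an affine test object of characteristic `p`, a homomorphism `𝔾ₐ|_T ⟶ Q|_T` lifts to `I` after a finite free
cover: all `p`-power roots make the universal section lift and the cocycle split, and both need finitely many roots.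
-/

set_option autoImplicit false
set_option backward.isDefEq.respectTransparency false
set_option linter.style.haveILetI false

universe u

open CategoryTheory AlgebraicGeometry Opposite Polynomial

namespace Groth.Agent.H23Ga.GaExtLocal

open GmLift DualPts

variable {S : Scheme.{u}} (𝒮 : Seq S)

/-- Homomorphisms out of the additive group over an object. -/
abbrev GaTo (G : BigSite.Ab Kf S) (T : Over S) := (CGrpSh2.Ga Kf S).over T ⟶ G.over T

/-- Restriction of homomorphisms. -/
noncomputable abbrev restr {G : BigSite.Ab Kf S} {T T' : Over S} (k : T' ⟶ T) (φ : GaTo G T) : GaTo G T' :=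
  (HomSh.homSh (QuotSh.J Kf S) (CGrpSh2.Ga Kf S) G).obj.map k.op φ

variable {𝒮}

/-- The value on a function. -/
noncomputable def qv {G : BigSite.Ab Kf S} {T W : Over S} (φ : GaTo G T) (g : W ⟶ T) (a : Γ(W.left, ⊤)) :
    G.obj.obj (op W) :=
  φ.hom.app (op (Over.mk g)) (gaSec Kf a)

theorem qv_add {G : BigSite.Ab Kf S} {T W : Over S} (φ : GaTo G T) (g : W ⟶ T) (a b : Γ(W.left, ⊤)) :
    qv φ g (a + b) = qv φ g a + qv φ g b := by
  rw [qv, gaSec_add]
  exact map_add (φ.hom.app (op (Over.mk g))).hom _ _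

theorem qv_zero {G : BigSite.Ab Kf S} {T W : Over S} (φ : GaTo G T) (g : W ⟶ T) : qv φ g 0 = 0 := by
  rw [qv, gaSec_zero]
  exact map_zero (φ.hom.app (op (Over.mk g))).hom

theorem qv_comp {G : BigSite.Ab Kf S} {T W W' : Over S} (φ : GaTo G T) (g : W ⟶ T) (h : W' ⟶ W)
    (a : Γ(W.left, ⊤)) : G.obj.map h.op (qv φ g a) = qv φ (h ≫ g) (h.left.appTop a) := by
  rw [qv, qv, ← gaSec_map h a]
  exact (ConcreteCategory.congr_hom
    (φ.hom.naturality (Over.homMk h rfl : Over.mk (h ≫ g) ⟶ Over.mk g).op) (gaSec Kf a)).symm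

theorem qv_restr {G : BigSite.Ab Kf S} {T T' W : Over S} (φ : GaTo G T) (k : T' ⟶ T) (g : W ⟶ T')
    (a : Γ(W.left, ⊤)) : qv (restr k φ) g a = qv φ (g ≫ k) a := rfl

variable {B : Type u} [CommRing B] {y : Spec (CommRingCat.of B) ⟶ S}

section Classify

variable {C : Type u} [CommRing C] [Algebra B C] {W : Over S} (g : W ⟶ Over.mk y)

/-- The morphism classifying a ring map. -/
noncomputable def cls (k : C →+* Γ(W.left, ⊤)) (hk : k.comp (algebraMap B C) = gs g) : W ⟶ alg y C :=
  Over.homMk (W.left.toSpecΓ ≫ Spec.map (CommRingCat.ofHom k)) (by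
    have h : (W.left.toSpecΓ ≫ Spec.map (CommRingCat.ofHom k)) ≫ Spec.map (CommRingCat.ofHom (algebraMap B C)) =
        g.left := by
      refine ext_of_isAffine ?_
      rw [← cancel_epi (Scheme.ΓSpecIso (CommRingCat.of B)).inv, Category.assoc, ← Spec.map_comp,
        ← CommRingCat.ofHom_comp, hk]
      refine CommRingCat.hom_ext (RingHom.ext fun r => ?_)
      have h2 : (Scheme.ΓSpecIso (CommRingCat.of B)).inv ≫
          (W.left.toSpecΓ ≫ Spec.map (CommRingCat.ofHom (gs g))).appTop = CommRingCat.ofHom (gs g) := by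
        simp
      exact ConcreteCategory.congr_hom h2 r
    change (W.left.toSpecΓ ≫ Spec.map (CommRingCat.ofHom k)) ≫ _ ≫ y = W.hom
    rw [← Category.assoc, h]
    exact Over.w g)

theorem cls_appTop (k : C →+* Γ(W.left, ⊤)) (hk : k.comp (algebraMap B C) = gs g) (c : C) :
    (cls g k hk).left.appTop ((γ C).symm c) = k c := by
  have h2 : (Scheme.ΓSpecIso (CommRingCat.of C)).inv ≫
      (W.left.toSpecΓ ≫ Spec.map (CommRingCat.ofHom k)).appTop = CommRingCat.ofHom k := by
    simp
  exact ConcreteCategory.congr_hom h2 c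

theorem alg_hom_ext {m m' : W ⟶ alg y C}
    (h : ∀ c : C, m.left.appTop ((γ C).symm c) = m'.left.appTop ((γ C).symm c)) : m = m' := by
  ext : 1
  haveI : IsAffine (alg y C).left := inferInstanceAs (IsAffine (Spec (CommRingCat.of C)))
  refine ext_of_isAffine ?_
  rw [← cancel_epi (Scheme.ΓSpecIso (CommRingCat.of C)).inv]
  exact CommRingCat.hom_ext (RingHom.ext h)

theorem gs_algHom : gs (algHom y C) = (γ C).symm.toRingHom.comp (algebraMap B C) := gs_hom _ rfl

theorem cls_algHom (k : C →+* Γ(W.left, ⊤)) (hk : k.comp (algebraMap B C) = gs g) :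
    cls g k hk ≫ algHom y C = g := by
  ext : 1
  haveI : IsAffine (Over.mk y).left := inferInstanceAs (IsAffine (Spec (CommRingCat.of B)))
  refine ext_of_isAffine ?_
  rw [← cancel_epi (Scheme.ΓSpecIso (CommRingCat.of B)).inv]
  refine CommRingCat.hom_ext (RingHom.ext fun r => ?_)
  change gs (cls g k hk ≫ algHom y C) r = gs g r
  rw [gs_comp, gs_algHom]
  exact (cls_appTop g k hk _).trans (DFunLike.congr_fun hk r)

/-- The morphism to the line given by a function. -/
noncomputable def clsX (a : Γ(W.left, ⊤)) : W ⟶ alg y B[X] :=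
  cls g (eval₂RingHom (gs g) a) (RingHom.ext fun r => eval₂_C _ _)

theorem clsX_appTop (a : Γ(W.left, ⊤)) (p : B[X]) :
    (clsX g a).left.appTop ((γ B[X]).symm p) = p.eval₂ (gs g) a :=
  cls_appTop g _ _ p

theorem comp_clsX {W' : Over S} (h : W' ⟶ W) (a : Γ(W.left, ⊤)) :
    h ≫ clsX g a = clsX (h ≫ g) (h.left.appTop a) := by
  refine alg_hom_ext fun p => ?_
  rw [clsX_appTop, Over.comp_left, Scheme.Hom.comp_appTop]
  change h.left.appTop ((clsX g a).left.appTop ((γ B[X]).symm p)) = _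
  rw [clsX_appTop, hom_eval₂, gs_comp]

/-- The morphism to the plane given by two functions. -/
noncomputable def cls2 (a b : Γ(W.left, ⊤)) : W ⟶ alg y (MvPolynomial (Fin 2) B) :=
  cls g (MvPolynomial.eval₂Hom (gs g) ![a, b]) (MvPolynomial.eval₂Hom_comp_C _ _)

end Classify

section Core

variable (φ : GaTo 𝒮.Q (Over.mk y))

/-- The universal section. -/
noncomputable def univ : 𝒮.Q.obj.obj (op (alg y B[X])) := qv φ (algHom y B[X]) ((γ B[X]).symm X)

theorem map_univ {W : Over S} (g : W ⟶ Over.mk y) (a : Γ(W.left, ⊤)) :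
    𝒮.Q.obj.map (clsX g a).op (univ φ) = qv φ g a := by
  rw [univ, qv_comp, clsX_appTop, eval₂_X, clsX, cls_algHom]

variable (t : 𝒮.I.obj.obj (op (alg y B[X])))

/-- The values of a section over the line. -/
noncomputable def tV {W : Over S} (g : W ⟶ Over.mk y) (a : Γ(W.left, ⊤)) : 𝒮.I.obj.obj (op W) :=
  𝒮.I.obj.map (clsX g a).op t

theorem tV_map {W W' : Over S} (g : W ⟶ Over.mk y) (h : W' ⟶ W) (a : Γ(W.left, ⊤)) :
    𝒮.I.obj.map h.op (tV t g a) = tV t (h ≫ g) (h.left.appTop a) := by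
  rw [tV, tV, ← comp_clsX, op_comp, Functor.map_comp]
  rfl

variable {φ t} (ht : 𝒮.π.hom.app (op (alg y B[X])) t = univ φ)
include ht

theorem π_tV {W : Over S} (g : W ⟶ Over.mk y) (a : Γ(W.left, ⊤)) :
    𝒮.π.hom.app (op W) (tV t g a) = qv φ g a := by
  rw [tV, show 𝒮.π.hom.app (op W) (𝒮.I.obj.map (clsX g a).op t) =
    𝒮.Q.obj.map (clsX g a).op (𝒮.π.hom.app (op (alg y B[X])) t) from
    ConcreteCategory.congr_hom (𝒮.π.hom.naturality (clsX g a).op) t, ht, map_univ]

theorem exists_defect :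
    ∃ hp : MvPolynomial (Fin 2) B, IsUnit hp ∧ ∀ (W : Over S) (g : W ⟶ Over.mk y) (a b : Γ(W.left, ⊤)),
      ∃ d : (CGrpSh2.Gm Kf S).obj.obj (op W), gmVal d = hp.eval₂ (gs g) ![a, b] ∧
        𝒮.ι.hom.app (op W) d = tV t g a + tV t g b - tV t g (a + b) := by
  let P := MvPolynomial (Fin 2) B
  let gP := algHom y P
  let u : Γ((alg y P).left, ⊤) := (γ P).symm (MvPolynomial.X 0)
  let v : Γ((alg y P).left, ⊤) := (γ P).symm (MvPolynomial.X 1)
  obtain ⟨d, hd⟩ := TorsorH1.sect_exact 𝒮.exact' (alg y P) (tV t gP u + tV t gP v - tV t gP (u + v)) (by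
    change 𝒮.π.hom.app (op (alg y P)) _ = 0
    rw [map_sub, map_add, π_tV ht, π_tV ht, π_tV ht, qv_add, sub_self])
  refine ⟨γ P (gmVal (W := alg y P) d), IsUnit.map (γ P) (isUnit_gmVal (W := alg y P) d), fun W g a b => ?_⟩
  have hc : ∀ p : P, (cls2 g a b).left.appTop ((γ P).symm p) = p.eval₂ (gs g) ![a, b] :=
    fun p => cls_appTop g _ _ p
  have hcg : cls2 g a b ≫ gP = g := cls_algHom g _ _
  refine ⟨(CGrpSh2.Gm Kf S).obj.map (cls2 g a b).op d, ?_, ?_⟩
  · rw [gmVal_map, ← hc, RingEquiv.symm_apply_apply]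
  · rw [show 𝒮.ι.hom.app (op W) ((CGrpSh2.Gm Kf S).obj.map (cls2 g a b).op d) =
      𝒮.I.obj.map (cls2 g a b).op (𝒮.ι.hom.app (op (alg y P)) d) from
      ConcreteCategory.congr_hom (𝒮.ι.hom.naturality (cls2 g a b).op) d]
    rw [hd, map_sub, map_add, tV_map, tV_map, tV_map, map_add, hc, hc, hcg]
    simp

end Core

/-- The properties of a normalised section over the line. -/
structure Data (φ : GaTo 𝒮.Q (Over.mk y)) where
  /-- The section over the line. -/
  t : 𝒮.I.obj.obj (op (alg y B[X]))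
  π_t : 𝒮.π.hom.app (op (alg y B[X])) t = univ φ
  /-- Its defect of additivity. -/
  hp : MvPolynomial (Fin 2) B
  isUnit_hp : IsUnit hp
  const : MvPolynomial.constantCoeff hp = 1
  coc : IsMulCoc hp
  defect : ∀ (W : Over S) (g : W ⟶ Over.mk y) (a b : Γ(W.left, ⊤)),
    ∃ d : (CGrpSh2.Gm Kf S).obj.obj (op W), gmVal d = hp.eval₂ (gs g) ![a, b] ∧
      𝒮.ι.hom.app (op W) d = tV t g a + tV t g b - tV t g (a + b)

theorem nonempty_data {φ : GaTo 𝒮.Q (Over.mk y)}
    (h : ∃ t₀, 𝒮.π.hom.app (op (alg y B[X])) t₀ = univ φ) : Nonempty (Data φ) := by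
  obtain ⟨t₀, ht₀⟩ := h
  let t : 𝒮.I.obj.obj (op (alg y B[X])) := t₀ - tV t₀ (algHom y B[X]) 0
  have ht : 𝒮.π.hom.app (op (alg y B[X])) t = univ φ := by
    rw [map_sub, π_tV ht₀, qv_zero, ht₀, sub_zero]
  have tV_zero : ∀ (W : Over S) (g : W ⟶ Over.mk y), tV t g (0 : Γ(W.left, ⊤)) = 0 := fun W g => by
    change 𝒮.I.obj.map (clsX g 0).op (t₀ - tV t₀ (algHom y B[X]) 0) = _
    rw [map_sub, tV_map, map_zero, clsX, cls_algHom]
    exact sub_self _
  obtain ⟨hp, hpu, hdef⟩ := exists_defect ht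
  have key : ∀ (W : Over S) (g : W ⟶ Over.mk y) (a b c d : Γ(W.left, ⊤)),
      tV t g a + tV t g b - tV t g (a + b) = tV t g c + tV t g d - tV t g (c + d) →
      hp.eval₂ (gs g) ![a, b] = hp.eval₂ (gs g) ![c, d] := fun W g a b c d h => by
    obtain ⟨d1, hd1, he1⟩ := hdef W g a b
    obtain ⟨d2, hd2, he2⟩ := hdef W g c d
    rw [← hd1, ← hd2, TorsorH1.sect_injective 𝒮.exact' W (he1.trans (h.trans he2.symm))]
  have hev : ∀ (n : ℕ) (a : Fin 2 → MvPolynomial (Fin n) B),
      γ (MvPolynomial (Fin n) B) (hp.eval₂ (gs (algHom y (MvPolynomial (Fin n) B)))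
        ![(γ _).symm (a 0), (γ _).symm (a 1)]) = MvPolynomial.aeval a hp := fun n a => by
    refine (MvPolynomial.eval₂_comp_left (γ (MvPolynomial (Fin n) B)).toRingHom _ _ hp).trans ?_
    rw [gs_algHom, MvPolynomial.aeval_def]
    congr 1
    · exact RingHom.ext fun r => (γ _).apply_symm_apply _
    · funext i
      fin_cases i <;> exact (γ _).apply_symm_apply _
  refine ⟨{ t := t, π_t := ht, hp := hp, isUnit_hp := hpu, const := ?_, coc := ⟨?_, ?_⟩, defect := hdef }⟩
  · let g0 := algHom y B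
    obtain ⟨d1, hd1, he1⟩ := hdef (alg y B) g0 (0 : Γ((alg y B).left, ⊤)) 0
    rw [add_zero, add_sub_cancel_right, tV_zero] at he1
    have hd0 : d1 = 0 := TorsorH1.sect_injective 𝒮.exact' (alg y B) (he1.trans (map_zero _).symm)
    rw [hd0, gmVal_zero] at hd1
    have h := congrArg (γ B).toRingHom hd1
    rw [map_one, MvPolynomial.eval₂_comp_left, gs_algHom, ← RingHom.comp_assoc,
      RingEquiv.toRingHom_comp_symm_toRingHom, RingHom.id_comp] at h
    rw [h, show (⇑(γ B).toRingHom ∘ ![(0 : Γ((alg y B).left, ⊤)), 0]) = fun _ => (0 : B) from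
      funext fun i => by fin_cases i <;> simp, MvPolynomial.eval₂_zero'_apply]
    rfl
  · have h := congrArg (γ (MvPolynomial (Fin 2) B))
      (key (alg y (MvPolynomial (Fin 2) B)) (algHom y _) ((γ _).symm (MvPolynomial.X 1))
        ((γ _).symm (MvPolynomial.X 0)) ((γ _).symm (MvPolynomial.X 0)) ((γ _).symm (MvPolynomial.X 1))
        (by rw [add_comm ((γ _).symm (MvPolynomial.X 1))]; abel))
    refine ((hev 2 ![MvPolynomial.X 1, MvPolynomial.X 0]).symm.trans h).trans
      ((hev 2 ![MvPolynomial.X 0, MvPolynomial.X 1]).trans ?_)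
    rw [show (![MvPolynomial.X 0, MvPolynomial.X 1] : Fin 2 → MvPolynomial (Fin 2) B) = MvPolynomial.X from
      funext fun i => by fin_cases i <;> rfl, MvPolynomial.aeval_X_left_apply]
  · let W := alg y (MvPolynomial (Fin 3) B)
    let g := algHom y (MvPolynomial (Fin 3) B)
    let a : Γ(W.left, ⊤) := (γ _).symm (MvPolynomial.X 0)
    let b : Γ(W.left, ⊤) := (γ _).symm (MvPolynomial.X 1)
    let c : Γ(W.left, ⊤) := (γ _).symm (MvPolynomial.X 2)
    obtain ⟨d1, hd1, he1⟩ := hdef W g b c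
    obtain ⟨d2, hd2, he2⟩ := hdef W g a (b + c)
    obtain ⟨d3, hd3, he3⟩ := hdef W g (a + b) c
    obtain ⟨d4, hd4, he4⟩ := hdef W g a b
    have h : d1 + d2 = d3 + d4 := TorsorH1.sect_injective 𝒮.exact' W (by
      change 𝒮.ι.hom.app (op W) _ = 𝒮.ι.hom.app (op W) _
      rw [map_add, map_add, he1, he2, he3, he4, add_assoc a b c]
      abel)
    have h' := congrArg (fun e => γ (MvPolynomial (Fin 3) B) (gmVal e)) h
    simp only [gmVal_add, map_mul, hd1, hd2, hd3, hd4] at h'
    rw [← hev 3 ![MvPolynomial.X 1, MvPolynomial.X 2], ← hev 3 ![MvPolynomial.X 0, MvPolynomial.X 1 + MvPolynomial.X 2],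
      ← hev 3 ![MvPolynomial.X 0 + MvPolynomial.X 1, MvPolynomial.X 2],
      ← hev 3 ![MvPolynomial.X 0, MvPolynomial.X 1]]
    simpa [g, a, b, c] using h'

/-- A splitting of the defect over an algebra gives a lift over it. -/
theorem exists_hom {φ : GaTo 𝒮.Q (Over.mk y)} (D : Data φ) (B' : Type u) [CommRing B'] [Algebra B B']
    (f : B'[X]) (hfu : IsUnit f)
    (hf : Polynomial.aeval (MvPolynomial.X 0 + MvPolynomial.X 1 : MvPolynomial (Fin 2) B') f =
      Polynomial.aeval (MvPolynomial.X 0 : MvPolynomial (Fin 2) B') f *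
        Polynomial.aeval (MvPolynomial.X 1 : MvPolynomial (Fin 2) B') f * MvPolynomial.map (algebraMap B B') D.hp) :
    ∃ ψ : GaTo 𝒮.I (alg y B'), ψ ≫ (GrothendieckTopology.overPullback _ AddCommGrpCat.{u + 1} (alg y B')).map 𝒮.π =
      restr (algHom y B') φ := by
  let z : Spec (CommRingCat.of B') ⟶ S := (alg y B').hom
  have hgs : ∀ {W : Over S} (g : W ⟶ Over.mk z), (gs (y := z) g).comp (algebraMap B B') = gs (g ≫ algHom y B') :=
    fun g => by
      rw [gs_comp, gs_algHom]
      exact RingHom.ext fun r => rfl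
  have hfadd : ∀ (W : Over S) (g : W ⟶ Over.mk z) (a b : Γ(W.left, ⊤)), f.eval₂ (gs g) (a + b) =
      f.eval₂ (gs g) a * f.eval₂ (gs g) b * D.hp.eval₂ (gs (g ≫ algHom y B')) ![a, b] := fun W g a b => by
    have h := congrArg (MvPolynomial.eval₂Hom (gs g) ![a, b]) hf
    rw [map_mul, map_mul, aeval_def, aeval_def, aeval_def, hom_eval₂, hom_eval₂, hom_eval₂,
      MvPolynomial.coe_eval₂Hom, MvPolynomial.eval₂_map, hgs] at h
    simpa [MvPolynomial.algebraMap_eq, MvPolynomial.eval₂Hom_comp_C] using h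
  have hfW : ∀ (W : Over S) (g : W ⟶ Over.mk z) (a : Γ(W.left, ⊤)), IsUnit (f.eval₂ (gs g) a) := fun W g a =>
    hfu.map (eval₂RingHom (gs g) a)
  let F : ∀ {W : Over S} (_ : W ⟶ Over.mk z), Γ(W.left, ⊤) → 𝒮.I.obj.obj (op W) := fun {W} g a =>
    tV D.t (g ≫ algHom y B') a + 𝒮.ι.hom.app (op W) (gmSec Kf (f.eval₂ (gs g) a) (hfW W g a))
  have F_add : ∀ {W : Over S} (g : W ⟶ Over.mk z) (a b : Γ(W.left, ⊤)), F g (a + b) = F g a + F g b :=
    fun {W} g a b => by
    obtain ⟨d, hd, he⟩ := D.defect W (g ≫ algHom y B') a b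
    have hg : gmSec Kf (f.eval₂ (gs g) (a + b)) (hfW W g _) =
        gmSec Kf (f.eval₂ (gs g) a) (hfW W g a) + gmSec Kf (f.eval₂ (gs g) b) (hfW W g b) + d :=
      gmVal_inj (K := Kf) (by
        rw [gmVal_add, gmVal_add, gmVal_gmSec, gmVal_gmSec, gmVal_gmSec, hd, hfadd])
    change tV D.t _ (a + b) + _ = tV D.t _ a + _ + (tV D.t _ b + _)
    rw [hg, map_add, map_add, he]
    abel
  have F_map : ∀ {W W' : Over S} (g : W ⟶ Over.mk z) (h : W' ⟶ W) (a : Γ(W.left, ⊤)),
      𝒮.I.obj.map h.op (F g a) = F (h ≫ g) (h.left.appTop a) := fun {W W'} g h a => by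
    change 𝒮.I.obj.map h.op (tV D.t (g ≫ algHom y B') a + _) = tV D.t ((h ≫ g) ≫ algHom y B') _ + _
    rw [map_add, tV_map, Category.assoc]
    refine congrArg (tV D.t _ _ + ·) ?_
    rw [← show 𝒮.ι.hom.app (op W') ((CGrpSh2.Gm Kf S).obj.map h.op (gmSec Kf (f.eval₂ (gs g) a) (hfW _ _ _))) =
        𝒮.I.obj.map h.op (𝒮.ι.hom.app (op W) (gmSec Kf (f.eval₂ (gs g) a) (hfW _ _ _)))
      from ConcreteCategory.congr_hom (𝒮.ι.hom.naturality h.op) _]
    refine congrArg _ (gmVal_inj (K := Kf) ?_)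
    rw [gmVal_map, gmVal_gmSec, gmVal_gmSec, hom_eval₂, gs_comp]
  let ψ : GaTo 𝒮.I (alg y B') :=
    ⟨{ app := fun U => ConcreteCategory.ofHom (C := AddCommGrpCat.{u + 1})
          (X := (CGrpSh2.Ga Kf S).obj.obj (op (unop U).left)) (Y := 𝒮.I.obj.obj (op (unop U).left))
          (AddMonoidHom.mk' (fun x => F (unop U).hom (gaVal (K := Kf) x)) fun x x' => by
            rw [gaVal_add]; exact F_add _ _ _)
       naturality := fun U U' h => by
         refine AddCommGrpCat.ext fun x => ?_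
         change F (unop U').hom (gaVal (K := Kf) ((CGrpSh2.Ga Kf S).obj.map h.unop.left.op x)) =
           𝒮.I.obj.map h.unop.left.op (F (unop U).hom (gaVal (K := Kf) x))
         rw [gaVal_map, F_map, show h.unop.left ≫ (unop U).hom = (unop U').hom from Over.w h.unop] }⟩
  refine ⟨ψ, Sheaf.hom_ext (NatTrans.ext (funext fun U => AddCommGrpCat.ext fun x => ?_))⟩
  change 𝒮.π.hom.app (op (unop U).left) (F (unop U).hom (gaVal (K := Kf) x)) = _
  rw [map_add, π_tV D.π_t, ← ConcreteCategory.comp_apply (𝒮.ι.hom.app _), ← NatTrans.comp_app,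
    show 𝒮.ι.hom ≫ 𝒮.π.hom = 0 from congrArg (fun φ : CGrpSh2.Gm Kf S ⟶ 𝒮.Q => φ.hom) 𝒮.w]
  refine (add_zero _).trans ?_
  rw [← qv_restr, qv, gaSec_gaVal]
  rfl

/-! ### Finitely many roots suffice -/

variable (p : ℕ) [Fact p.Prime] [Nontrivial B]

theorem isSeminormalRing_quotient_nilradical (R : Type u) [CommRing R] [CharP R p]
    (hF : Function.Surjective (frobenius R p)) : HTop.IsSeminormalRing (R ⧸ nilradical R) := by
  haveI : Nontrivial R := CharP.nontrivial_of_char_ne_one (Fact.out : p.Prime).ne_one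
  haveI : IsReduced (R ⧸ nilradical R) :=
    (Ideal.isRadical_iff_quotient_reduced _).1 (Ideal.radical_isRadical _)
  haveI : Nontrivial (R ⧸ nilradical R) := Ideal.Quotient.nontrivial_iff.2 fun h =>
    not_isNilpotent_one (mem_nilradical.1 (h.symm ▸ trivial : (1 : R) ∈ nilradical R))
  haveI : CharP (R ⧸ nilradical R) p := by
    refine (CharP.charP_iff_prime_eq_zero (Fact.out : p.Prime)).2 ?_
    rw [← map_natCast (Ideal.Quotient.mk (nilradical R)), CharP.cast_eq_zero, map_zero]
  refine isSeminormalRing_of_perfect p (R ⧸ nilradical R) fun x => ?_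
  obtain ⟨r, rfl⟩ := Ideal.Quotient.mk_surjective x
  obtain ⟨s, rfl⟩ := hF r
  exact ⟨Ideal.Quotient.mk _ s, by simp [frobenius_def]⟩

attribute [local instance] Polynomial.algebra in
theorem exists_data_cover (hB : (p : B) = 0) (φ : GaTo 𝒮.Q (Over.mk y)) :
    ∃ (B' : Type u) (_ : CommRing B') (_ : Algebra B B'), Module.FaithfullyFlat B B' ∧
      Algebra.FinitePresentation B B' ∧ Nonempty (Data (y := (alg y B').hom) (restr (algHom y B') φ)) := by
  classical
  let R := RootAlg.Alg p B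
  haveI := RootAlg.charP_alg p B hB
  have hF : Function.Surjective (frobenius R p) := RootAlg.frobenius_surjective p B
  let q := univ φ
  let q' : 𝒮.Q.obj.obj (op (alg (alg y B[X]).hom R[X])) := 𝒮.Q.obj.map (algHom (alg y B[X]).hom R[X]).op q
  obtain ⟨x, hx⟩ := exists_lift_polynomial (y := (alg (alg y B[X]).hom R[X]).hom)
    (isSeminormalRing_quotient_nilradical p R hF) q' ⟨0, by
      rw [map_zero]
      symm
      change 𝒮.Q.obj.map _ (𝒮.Q.obj.map _ (qv φ _ _)) = 0
      refine (congrArg (𝒮.Q.obj.map _) (qv_comp φ _ _ _)).trans ((qv_comp φ _ _ _).trans ?_)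
      convert qv_zero φ _
      refine (γ R).injective ?_
      rw [map_zero]
      refine (γ_hom (y := (alg (alg y B[X]).hom R[X]).hom) _ rfl _).trans ?_
      change (γ R[X] _).eval 0 = 0
      refine (congrArg (Polynomial.eval (0 : R)) ((γ_hom _ rfl _).trans ?_)).trans (eval_X (R := R))
      rw [RingEquiv.apply_symm_apply]
      exact map_X _⟩
  let π : (RootAlg.Pre B)[X] →ₐ[B[X]] R[X] :=
    { mapRingHom (Ideal.Quotient.mk (RootAlg.rels p B)) with
      commutes' := fun P => by
        change (P.map (algebraMap B (RootAlg.Pre B))).map _ = P.map (algebraMap B R)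
        rw [map_map]
        rfl }
  obtain ⟨s, hs, hlifts⟩ := exists_finset_lifts π (map_surjective _ Ideal.Quotient.mk_surjective) ⟨x, hx⟩
  obtain ⟨B', _, _, ρ, hff, hfp, hρ⟩ := RootAlg.exists_stage p B (s.biUnion fun z => z.support.image z.coeff)
    fun c hc => by
      simp only [Finset.mem_biUnion, Finset.mem_image] at hc
      obtain ⟨z, hz, n, -, rfl⟩ := hc
      refine Ideal.Quotient.eq_zero_iff_mem.1 ?_
      rw [← coeff_map]
      exact (congrArg (fun P => P.coeff n) (hs z hz)).trans (coeff_zero n)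
  let ρX : (RootAlg.Pre B)[X] →ₐ[B[X]] B'[X] :=
    { mapRingHom ρ.toRingHom with
      commutes' := fun P => by
        change (P.map (algebraMap B (RootAlg.Pre B))).map _ = P.map (algebraMap B B')
        rw [map_map]
        exact congrArg (fun k => P.map k) ρ.comp_algebraMap }
  obtain ⟨e⟩ := hlifts B'[X] ρX fun z hz => Polynomial.ext fun n => by
    change (z.map ρ.toRingHom).coeff n = _
    rw [coeff_map, coeff_zero]
    by_cases hn : n ∈ z.support
    · exact hρ _ (Finset.mem_biUnion.2 ⟨z, hz, Finset.mem_image_of_mem _ hn⟩)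
    · rw [notMem_support_iff.1 hn, map_zero]
  refine ⟨B', inferInstance, inferInstance, hff, hfp, nonempty_data ?_⟩
  let j : alg (alg y B').hom B'[X] ⟶ alg (alg y B[X]).hom B'[X] := hom (RingHom.id _) (by
    change Spec.map _ ≫ Spec.map _ ≫ Spec.map _ ≫ y = Spec.map _ ≫ Spec.map _ ≫ y
    simp only [← Category.assoc, ← Spec.map_comp]
    congr 2
    refine CommRingCat.hom_ext (RingHom.ext fun r => ?_)
    exact map_C _)
  refine ⟨𝒮.I.obj.map j.op e.1, ?_⟩
  refine (ConcreteCategory.congr_hom (𝒮.π.hom.naturality j.op) e.1).trans ?_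
  change 𝒮.Q.obj.map j.op (𝒮.π.hom.app _ e.1) = _
  rw [e.2]
  change 𝒮.Q.obj.map j.op (𝒮.Q.obj.map _ (qv φ _ _)) = qv φ (algHom (alg y B').hom B'[X] ≫ algHom y B') _
  refine ((congrArg (𝒮.Q.obj.map j.op) (qv_comp φ _ _ _)).trans (qv_comp φ _ _ _)).trans ?_
  congr 1
  · ext : 1
    change Spec.map _ ≫ Spec.map _ ≫ Spec.map _ = Spec.map _ ≫ Spec.map _
    rw [← Spec.map_comp, ← Spec.map_comp, ← Spec.map_comp]
    congr 1
    refine CommRingCat.hom_ext (RingHom.ext fun r => ?_)
    exact map_C _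
  · refine (γ B'[X]).injective ?_
    refine ((γ_hom _ _ _).trans (congrArg (RingHom.id _) (γ_hom _ rfl _))).trans ?_
    rw [RingEquiv.apply_symm_apply, RingEquiv.apply_symm_apply]
    exact map_X _

theorem exists_hom_cover (hB : (p : B) = 0) {φ : GaTo 𝒮.Q (Over.mk y)} (D : Data φ) :
    ∃ (B' : Type u) (_ : CommRing B') (_ : Algebra B B'), Module.FaithfullyFlat B B' ∧
      Algebra.FinitePresentation B B' ∧ ∃ ψ : GaTo 𝒮.I (alg y B'),
        ψ ≫ (GrothendieckTopology.overPullback _ AddCommGrpCat.{u + 1} (alg y B')).map 𝒮.π =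
          restr (algHom y B') φ := by
  classical
  let P := RootAlg.Pre B
  let R := RootAlg.Alg p B
  haveI := RootAlg.charP_alg p B hB
  let m : P →+* R := Ideal.Quotient.mk (RootAlg.rels p B)
  have hm : m.comp (algebraMap B P) = algebraMap B R := rfl
  obtain ⟨f, hfu, hf⟩ := exists_split p (RootAlg.frobenius_surjective p B) (h := D.hp.map (algebraMap B R))
    (D.isUnit_hp.map _) (by rw [MvPolynomial.constantCoeff_map, D.const, map_one]) (by
      refine ⟨?_, ?_⟩
      · have h := congrArg (MvPolynomial.map (algebraMap B R)) D.coc.1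
        rw [map_aeval'] at h
        refine Eq.trans ?_ h
        congr 2
        funext i
        fin_cases i <;> simp
      · have h := congrArg (MvPolynomial.map (algebraMap B R)) D.coc.2
        rw [map_mul, map_mul, map_aeval', map_aeval', map_aeval', map_aeval'] at h
        convert h using 4 <;> (funext i; fin_cases i <;> simp))
  obtain ⟨g, hg⟩ := hfu.exists_right_inv
  obtain ⟨f', rfl⟩ := map_surjective m Ideal.Quotient.mk_surjective f
  obtain ⟨g', rfl⟩ := map_surjective m Ideal.Quotient.mk_surjective g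
  let err (Q : Type u) [CommRing Q] [Algebra B Q] (a : Q[X]) : MvPolynomial (Fin 2) Q :=
    Polynomial.aeval (MvPolynomial.X 0 + MvPolynomial.X 1 : MvPolynomial (Fin 2) Q) a -
      Polynomial.aeval (MvPolynomial.X 0 : MvPolynomial (Fin 2) Q) a *
        Polynomial.aeval (MvPolynomial.X 1 : MvPolynomial (Fin 2) Q) a * MvPolynomial.map (algebraMap B Q) D.hp
  have herr : ∀ (Q : Type u) [CommRing Q] [Algebra B Q] (k : P →+* Q), k.comp (algebraMap B P) = algebraMap B Q →
      MvPolynomial.map k (err P f') = err Q (f'.map k) := fun Q _ _ k hk => by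
    simp only [err, map_sub, map_mul, MvPolynomial.map_map, hk, aeval_def, hom_eval₂, eval₂_map,
      MvPolynomial.algebraMap_eq, map_add, MvPolynomial.map_X]
    rw [show (MvPolynomial.map k).comp MvPolynomial.C = (MvPolynomial.C (σ := Fin 2)).comp k from
      RingHom.ext fun r => MvPolynomial.map_C _ _]
  have herr0 : MvPolynomial.map m (err P f') = 0 := by rw [herr R m hm]; exact sub_eq_zero.2 hf
  let s : Finset P := (f' * g' - 1).support.image (f' * g' - 1).coeff ∪ (err P f').support.image (err P f').coeff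
  have hs : ∀ c ∈ s, c ∈ RootAlg.rels p B := fun c hc => by
    refine Ideal.Quotient.eq_zero_iff_mem.1 ?_
    rcases Finset.mem_union.1 hc with hc | hc
    · obtain ⟨n, -, rfl⟩ := Finset.mem_image.1 hc
      rw [← coeff_map, Polynomial.map_sub, Polynomial.map_mul, Polynomial.map_one, hg, sub_self, coeff_zero]
    · obtain ⟨d, -, rfl⟩ := Finset.mem_image.1 hc
      rw [← MvPolynomial.coeff_map, herr0, MvPolynomial.coeff_zero]
  obtain ⟨B', _, _, ρ, hff, hfp, hρ⟩ := RootAlg.exists_stage p B s hs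
  have h1 : f'.map ρ.toRingHom * g'.map ρ.toRingHom = 1 := by
    rw [← sub_eq_zero, ← Polynomial.map_mul, ← Polynomial.map_one ρ.toRingHom, ← Polynomial.map_sub]
    refine Polynomial.ext fun n => ?_
    rw [coeff_map, coeff_zero]
    by_cases hn : n ∈ (f' * g' - 1).support
    · exact hρ _ (Finset.mem_union_left _ (Finset.mem_image_of_mem _ hn))
    · rw [notMem_support_iff.1 hn, map_zero]
  have h2 : err B' (f'.map ρ.toRingHom) = 0 := by
    rw [← herr B' ρ.toRingHom ρ.comp_algebraMap]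
    refine MvPolynomial.ext _ _ fun d => ?_
    rw [MvPolynomial.coeff_map, MvPolynomial.coeff_zero]
    by_cases hd : d ∈ (err P f').support
    · exact hρ _ (Finset.mem_union_right _ (Finset.mem_image_of_mem _ hd))
    · rw [MvPolynomial.notMem_support_iff.1 hd, map_zero]
  exact ⟨B', inferInstance, inferInstance, hff, hfp,
    exists_hom D B' _ (IsUnit.of_mul_eq_one _ h1) (sub_eq_zero.1 h2)⟩

end Groth.Agent.H23Ga.GaExtLocal
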