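import Groth.Agent.H23Ga.TorsorAlg
import Groth.Agent.H7Flat.LineCocycle
import Groth.Agent.H11Tilde.ProjUPUnique
import Groth.Agent.H11Ample.Ample
import Mathlib.Algebra.MvPolynomial.Nilpotent
import Mathlib.CategoryTheory.Abelian.Injective.Basic

/-!
# Lifts along quotients by the multiplicative group on schemes with trivial Picard group

Lifts exist Zariski locally; their differences form a cocycle of units, and a trivialisation of the invertible
module of that cocycle glues them.  On a reduced scheme the lift of the universal section of a homomorphism out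
of the additive group is additive once normalised at the origin.
-/

set_option autoImplicit false
set_option backward.isDefEq.respectTransparency false
set_option linter.style.haveILetI false

universe u

open CategoryTheory AlgebraicGeometry Opposite TopologicalSpace

namespace Groth.Agent.H23Ga.GaExtPic

open GmLift DualPts H7Flat.LineCocycle

variable {S : Scheme.{u}} (P : Over S)

/-- An open subscheme as a test object. -/
noncomputable abbrev oU (U : P.left.Opens) : Over S := Over.mk (U.ι ≫ P.hom)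

/-- Its inclusion. -/
noncomputable abbrev oι (U : P.left.Opens) : oU P U ⟶ P := Over.homMk U.ι rfl

/-- The inclusion of a smaller open. -/
noncomputable abbrev oRes {U V : P.left.Opens} (h : V ≤ U) : oU P V ⟶ oU P U :=
  Over.homMk (P.left.homOfLE h) (by simp)

theorem oRes_ι {U V : P.left.Opens} (h : V ≤ U) : oRes P h ≫ oι P U = oι P V := by
  ext : 1
  exact P.left.homOfLE_ι h

theorem oRes_oRes {U V W : P.left.Opens} (h : V ≤ U) (h' : W ≤ V) : oRes P h' ≫ oRes P h = oRes P (h'.trans h) := by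
  ext : 1
  exact P.left.homOfLE_homOfLE h' h

theorem topIso_res {U V : P.left.Opens} (h : V ≤ U) (a : Γ(U.toScheme, ⊤)) :
    V.topIso.hom ((oRes P h).left.appTop a) = rr h (U.topIso.hom a) := by
  have : (P.left.homOfLE h).appTop ≫ V.topIso.hom = U.topIso.hom ≫ P.left.presheaf.map (homOfLE h).op := by
    rw [Scheme.homOfLE_appTop, Scheme.Opens.topIso_hom, Scheme.Opens.topIso_hom, ← Functor.map_comp,
      ← Functor.map_comp]
    rfl
  exact ConcreteCategory.congr_hom this a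

variable {P} {𝒮 : Seq S}

/-- Lifts over an open. -/
def LiftU (q : 𝒮.Q.obj.obj (op P)) (U : P.left.Opens) : Type (u + 1) :=
  { e : 𝒮.I.obj.obj (op (oU P U)) // 𝒮.π.hom.app (op (oU P U)) e = 𝒮.Q.obj.map (oι P U).op q }

theorem π_map {W W' : Over S} (h : W' ⟶ W) (x : 𝒮.I.obj.obj (op W)) :
    𝒮.π.hom.app (op W') (𝒮.I.obj.map h.op x) = 𝒮.Q.obj.map h.op (𝒮.π.hom.app (op W) x) :=
  ConcreteCategory.congr_hom (𝒮.π.hom.naturality h.op) x

theorem ι_map {W W' : Over S} (h : W' ⟶ W) (x : (CGrpSh2.Gm Kf S).obj.obj (op W)) :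
    𝒮.ι.hom.app (op W') ((CGrpSh2.Gm Kf S).obj.map h.op x) = 𝒮.I.obj.map h.op (𝒮.ι.hom.app (op W) x) :=
  ConcreteCategory.congr_hom (𝒮.ι.hom.naturality h.op) x

theorem π_ι {W : Over S} (x : (CGrpSh2.Gm Kf S).obj.obj (op W)) :
    𝒮.π.hom.app (op W) (𝒮.ι.hom.app (op W) x) = 0 := by
  rw [← ConcreteCategory.comp_apply, ← NatTrans.comp_app,
    show 𝒮.ι.hom ≫ 𝒮.π.hom = 0 from congrArg (fun φ : CGrpSh2.Gm Kf S ⟶ 𝒮.Q => φ.hom) 𝒮.w]
  rfl

theorem map_map (G : BigSite.Ab Kf S) {W W' W'' : Over S} (h : W' ⟶ W) (h' : W'' ⟶ W') (x : G.obj.obj (op W)) :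
    G.obj.map h'.op (G.obj.map h.op x) = G.obj.map (h' ≫ h).op x := by
  rw [op_comp, Functor.map_comp]
  rfl

/-- Lifts exist near every point. -/
theorem exists_lift_nhd (q : 𝒮.Q.obj.obj (op P)) (x : P.left) :
    ∃ U : P.left.Opens, x ∈ U ∧ Nonempty (LiftU q U) := by
  obtain ⟨V, hV, hxV, -⟩ := exists_isAffineOpen_mem_and_subset (X := P.left) (x := x) (U := ⊤) trivial
  let qV : 𝒮.Q.obj.obj (op (Over.mk (hV.fromSpec ≫ P.hom))) :=
    𝒮.Q.obj.map (Over.homMk hV.fromSpec rfl : Over.mk (hV.fromSpec ≫ P.hom) ⟶ P).op q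
  obtain ⟨B, _, _, _, _, ⟨eB⟩⟩ := exists_cover_lift 𝒮 qV
  let p := hV.primeIdealOf ⟨x, hxV⟩
  obtain ⟨g, hg, hgp⟩ : ∃ g ∈ prods eB, g ∉ p.asIdeal := by
    by_contra! hall
    have : Ideal.span (prods eB) ≤ p.asIdeal := Ideal.span_le.2 hall
    rw [span_prods eB, top_le_iff] at this
    exact p.isPrime.ne_top this
  let W := P.left.basicOpen g
  have hW : IsAffineOpen W := hV.basicOpen g
  letI : Algebra Γ(P.left, V) Γ(P.left, W) := (P.left.presheaf.map (homOfLE (P.left.basicOpen_le g)).op).hom.toAlgebra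
  obtain ⟨e⟩ := exists_lift_of_isUnit_prod eB Γ(P.left, W) hg (RingedSpace.isUnit_res_basicOpen _ g)
  have hw : hW.isoSpec.hom ≫ Spec.map (CommRingCat.ofHom (algebraMap Γ(P.left, V) Γ(P.left, W))) ≫ hV.fromSpec =
      W.ι := by
    rw [show CommRingCat.ofHom (algebraMap Γ(P.left, V) Γ(P.left, W)) =
      P.left.presheaf.map (homOfLE (P.left.basicOpen_le g)).op from rfl]
    erw [hV.map_fromSpec hW]
    exact hW.isoSpec_hom_fromSpec
  let k : oU P W ⟶ alg (hV.fromSpec ≫ P.hom) Γ(P.left, W) := Over.homMk hW.isoSpec.hom (by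
    change hW.isoSpec.hom ≫ Spec.map _ ≫ hV.fromSpec ≫ P.hom = W.ι ≫ P.hom
    rw [← hw]
    simp only [Category.assoc])
  refine ⟨W, ?_, ⟨⟨𝒮.I.obj.map k.op e.1, ?_⟩⟩⟩
  · have hmem : p ∈ PrimeSpectrum.basicOpen g := hgp
    rw [← hV.fromSpec_preimage_basicOpen g] at hmem
    have h2 : hV.fromSpec p ∈ P.left.basicOpen g := hmem
    rwa [hV.fromSpec_primeIdealOf] at h2
  · rw [π_map, e.2, map_map, map_map]
    refine congrArg (fun h : oU P W ⟶ P => 𝒮.Q.obj.map h.op q) ?_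
    ext : 1
    exact hw

section Glue

variable (q : 𝒮.Q.obj.obj (op P))

/-- The opens carrying a lift. -/
abbrev Idx : Type u := { U : P.left.Opens // Nonempty (LiftU q U) }

/-- A chosen lift. -/
noncomputable def el (a : Idx q) : LiftU q a.1 := a.2.some

variable {q}

/-- The difference of two chosen lifts over a smaller open. -/
theorem exists_gd (a b : Idx q) {T : P.left.Opens} (ha : T ≤ a.1) (hb : T ≤ b.1) :
    ∃ d : (CGrpSh2.Gm Kf S).obj.obj (op (oU P T)), 𝒮.ι.hom.app (op (oU P T)) d =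
      𝒮.I.obj.map (oRes P hb).op (el q b).1 - 𝒮.I.obj.map (oRes P ha).op (el q a).1 :=
  TorsorH1.sect_exact 𝒮.exact' _ _ (by
    change 𝒮.π.hom.app (op (oU P T)) _ = 0
    rw [map_sub, π_map, π_map, (el q a).2, (el q b).2, map_map, map_map, oRes_ι, oRes_ι, sub_self])

/-- The cocycle. -/
noncomputable def gg (a b : Idx q) : Γ(P.left, a.1 ⊓ b.1) :=
  (a.1 ⊓ b.1).topIso.hom (gmVal (W := oU P (a.1 ⊓ b.1))
    (exists_gd a b (T := a.1 ⊓ b.1) inf_le_left inf_le_right).choose)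

theorem gg_res (a b : Idx q) {T : P.left.Opens} (ha : T ≤ a.1) (hb : T ≤ b.1)
    (d : (CGrpSh2.Gm Kf S).obj.obj (op (oU P T)))
    (hd : 𝒮.ι.hom.app (op (oU P T)) d =
      𝒮.I.obj.map (oRes P hb).op (el q b).1 - 𝒮.I.obj.map (oRes P ha).op (el q a).1) :
    rr (le_inf ha hb) (gg a b) = T.topIso.hom (gmVal (W := oU P T) d) := by
  set d₀ := (exists_gd a b (T := a.1 ⊓ b.1) inf_le_left inf_le_right).choose with hd₀
  have h : d = (CGrpSh2.Gm Kf S).obj.map (oRes P (le_inf ha hb)).op d₀ := by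
    refine TorsorH1.sect_injective 𝒮.exact' (oU P T) ?_
    change 𝒮.ι.hom.app (op (oU P T)) _ = 𝒮.ι.hom.app (op (oU P T)) _
    rw [hd, ι_map, (exists_gd a b (T := a.1 ⊓ b.1) inf_le_left inf_le_right).choose_spec, map_sub, map_map, map_map,
      oRes_oRes, oRes_oRes]
  rw [h, gmVal_map, topIso_res]
  rfl

variable (q) in
/-- The cocycle data. -/
noncomputable def data : H7Flat.LineCocycle.Data P.left where
  J := Idx q
  V a := a.1
  g := gg
  isUnit a b := IsUnit.map (a.1 ⊓ b.1).topIso.commRingCatIsoToRingEquiv (isUnit_gmVal (W := oU P (a.1 ⊓ b.1)) _)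
  cocycle a b c T ha hb hc := by
    obtain ⟨d1, h1⟩ := exists_gd a b ha hb
    obtain ⟨d2, h2⟩ := exists_gd b c hb hc
    obtain ⟨d3, h3⟩ := exists_gd a c ha hc
    rw [gg_res a b ha hb d1 h1, gg_res b c hb hc d2 h2, gg_res a c ha hc d3 h3, ← map_mul]
    change T.topIso.hom _ = T.topIso.hom _
    rw [← gmVal_add]
    congr 2
    refine TorsorH1.sect_injective 𝒮.exact' (oU P T) ?_
    change 𝒮.ι.hom.app (op (oU P T)) _ = 𝒮.ι.hom.app (op (oU P T)) _
    rw [map_add, h1, h2, h3]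
    abel
  cover x := by
    obtain ⟨U, hx, hU⟩ := exists_lift_nhd q x
    exact ⟨⟨U, hU⟩, hx⟩

/-- A trivialisation of the cocycle. -/
theorem exists_trivialisation
    (hPic : ∀ L : P.left.Modules, PicF.IsInvertible L → Nonempty (L ≅ Coh.structureModule P.left)) :
    ∃ r : ∀ a : Idx q, Γ(P.left, a.1), (∀ a, IsUnit (r a)) ∧
      ∀ (a b : Idx q) (T : P.left.Opens) (ha : T ≤ a.1) (hb : T ≤ b.1),
        rr ha (r a) = rr (le_inf ha hb) (gg a b) * rr hb (r b) := by
  let D := data q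
  obtain ⟨τ⟩ := hPic (line D) (isInvertible_line D)
  obtain ⟨g, hg⟩ : ∃ g : Γ(line D, ⊤), H11Tilde.IsGen (line D) g :=
    ⟨_, H11Tilde.IsGen.map_iso τ.symm (H11Ample.isGen_one (X := P.left) ⊤)⟩
  let G : ∀ a : Idx q, Γ(line D, a.1) := fun a => gen D a
  have hG : ∀ a, H11Tilde.IsGen (line D) (G a) := fun a => isGen_gen D a
  have hex : ∀ a : Idx q, ∃ r : Γ(P.left, a.1), IsUnit r ∧
      (line D).presheaf.map (homOfLE (le_top : a.1 ≤ ⊤)).op g = r • G a := fun a => by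
    obtain ⟨r, hr⟩ := H11Ample.exists_coeff (hG a)
      ((line D).presheaf.map (homOfLE (le_top : a.1 ≤ ⊤)).op g)
    have hga := hg.res (le_top : a.1 ≤ ⊤)
    obtain ⟨r', hr'⟩ := H11Ample.exists_coeff hga (G a)
    refine ⟨r, IsUnit.of_mul_eq_one r' ?_, hr⟩
    refine (hga.bijective le_rfl).1 ?_
    change (r * r') • (line D).presheaf.map (homOfLE le_rfl).op _ =
      (1 : Γ(P.left, a.1)) • (line D).presheaf.map (homOfLE le_rfl).op _
    rw [H10Coh.mres_self, one_smul, mul_smul, ← hr', ← hr]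
  choose r hru hr using hex
  refine ⟨r, hru, fun a b T ha hb => ?_⟩
  refine ((hG a).bijective ha).1 ?_
  change rr ha (r a) • (line D).presheaf.map (homOfLE ha).op (G a) =
    (rr (le_inf ha hb) (gg a b) * rr hb (r b)) • (line D).presheaf.map (homOfLE ha).op (G a)
  rw [mul_comm, mul_smul, show rr (le_inf ha hb) (gg a b) • (line D).presheaf.map (homOfLE ha).op (G a) =
      (line D).presheaf.map (homOfLE hb).op (G b) from (gen_trans D a b T ha hb).symm,
    ← Scheme.Modules.map_smul, ← Scheme.Modules.map_smul, ← hr a, ← hr b, ← ConcreteCategory.comp_apply,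
    ← ConcreteCategory.comp_apply, ← Functor.map_comp, ← Functor.map_comp]
  rfl

/-- A section lifts over a scheme with trivial Picard group. -/
theorem exists_lift_of_pic
    (hPic : ∀ L : P.left.Modules, PicF.IsInvertible L → Nonempty (L ≅ Coh.structureModule P.left))
    (q : 𝒮.Q.obj.obj (op P)) : ∃ e, 𝒮.π.hom.app (op P) e = q := by
  obtain ⟨r, hru, hr⟩ := exists_trivialisation (q := q) hPic
  let gm : ∀ a : Idx q, (CGrpSh2.Gm Kf S).obj.obj (op (oU P a.1)) := fun a =>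
    gmSec Kf (W := oU P a.1) (a.1.topIso.inv (r a)) (IsUnit.map a.1.topIso.symm.commRingCatIsoToRingEquiv (hru a))
  let e' : ∀ a : Idx q, 𝒮.I.obj.obj (op (oU P a.1)) := fun a =>
    (el q a).1 + 𝒮.ι.hom.app (op (oU P a.1)) (gm a)
  have hcomp : ∀ (a b : Idx q) {T : P.left.Opens} (ha : T ≤ a.1) (hb : T ≤ b.1),
      𝒮.I.obj.map (oRes P ha).op (e' a) = 𝒮.I.obj.map (oRes P hb).op (e' b) := by
    intro a b T ha hb
    obtain ⟨d, hd⟩ := exists_gd a b ha hb
    have key : (CGrpSh2.Gm Kf S).obj.map (oRes P ha).op (gm a) = d + (CGrpSh2.Gm Kf S).obj.map (oRes P hb).op (gm b) := by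
      refine gmVal_inj (W := oU P T) (K := Kf) (T.topIso.commRingCatIsoToRingEquiv.injective ?_)
      change T.topIso.hom _ = T.topIso.hom _
      rw [gmVal_add, map_mul, gmVal_map, gmVal_map, topIso_res, topIso_res, gmVal_gmSec, gmVal_gmSec,
        ← gg_res a b ha hb d hd, Iso.inv_hom_id_apply, Iso.inv_hom_id_apply]
      exact hr a b T ha hb
    change 𝒮.I.obj.map _ (_ + _) = 𝒮.I.obj.map _ (_ + _)
    rw [map_add, map_add, ← ι_map, ← ι_map, key, map_add, hd]
    abel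
  have hmem : Sieve.ofArrows (fun a : Idx q => oU P a.1) (fun a => oι P a.1) ∈ QuotSh.J Kf S P := by
    rw [GrothendieckTopology.mem_over_iff, Sieve.overEquiv_ofArrows]
    refine Precoverage.generate_mem_toGrothendieck
      ((Scheme.ofArrows_mem_precoverage_iff _).2 ⟨fun x => ?_, fun a => ⟨?_, ?_⟩⟩)
    · obtain ⟨U, hx, hU⟩ := exists_lift_nhd q x
      refine ⟨⟨U, hU⟩, ?_⟩
      change x ∈ Set.range U.ι
      rw [Scheme.Opens.range_ι]
      exact hx
    · exact inferInstanceAs (Flat a.1.ι)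
    · exact inferInstanceAs (LocallyOfFinitePresentation a.1.ι)
  have hsh : Presieve.IsSheafFor (𝒮.I.obj ⋙ CategoryTheory.forget AddCommGrpCat.{u + 1})
      (Presieve.ofArrows (fun a : Idx q => oU P a.1) (fun a => oι P a.1)) := by
    rw [Presieve.isSheafFor_iff_generate]
    exact ((isSheaf_iff_isSheaf_of_type _ _).1
      ((sheafCompose _ (CategoryTheory.forget AddCommGrpCat.{u + 1})).obj 𝒮.I).property) _ hmem
  obtain ⟨t, ht, -⟩ := (Presieve.isSheafFor_arrows_iff _ _).1 hsh e' fun a b Z ga gb hg => by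
    change 𝒮.I.obj.map ga.op (e' a) = 𝒮.I.obj.map gb.op (e' b)
    have hsub : Set.range (ga ≫ oι P a.1).left ⊆ Set.range (a.1 ⊓ b.1).ι := by
      rintro _ ⟨z, rfl⟩
      rw [Scheme.Opens.range_ι]
      refine ⟨(ga.left z).2, ?_⟩
      rw [hg]
      exact (gb.left z).2
    let m : Z ⟶ oU P (a.1 ⊓ b.1) := Over.homMk (IsOpenImmersion.lift (a.1 ⊓ b.1).ι (ga ≫ oι P a.1).left hsub) (by
      change IsOpenImmersion.lift _ _ hsub ≫ (a.1 ⊓ b.1).ι ≫ P.hom = Z.hom
      rw [IsOpenImmersion.lift_fac_assoc]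
      exact Over.w (ga ≫ oι P a.1))
    have ha : m ≫ oRes P (inf_le_left : a.1 ⊓ b.1 ≤ a.1) = ga := by
      ext : 1
      rw [← cancel_mono a.1.ι]
      change (_ ≫ P.left.homOfLE (inf_le_left : a.1 ⊓ b.1 ≤ a.1)) ≫ a.1.ι = _
      rw [Category.assoc, Scheme.homOfLE_ι]
      exact IsOpenImmersion.lift_fac _ _ hsub
    have hb : m ≫ oRes P (inf_le_right : a.1 ⊓ b.1 ≤ b.1) = gb := by
      ext : 1
      rw [← cancel_mono b.1.ι]
      change (_ ≫ P.left.homOfLE (inf_le_right : a.1 ⊓ b.1 ≤ b.1)) ≫ b.1.ι = _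
      rw [Category.assoc, Scheme.homOfLE_ι]
      exact (IsOpenImmersion.lift_fac _ _ hsub).trans (congrArg (fun f : Z ⟶ P => f.left) hg)
    rw [← ha, ← hb, ← map_map, ← map_map, hcomp a b]
  refine ⟨t, TorsorH1.sheaf_ext 𝒮.Q hmem _ _ fun W f hf => ?_⟩
  obtain ⟨W', i, _, ⟨a⟩, rfl⟩ := hf
  rw [← map_map, ← map_map]
  refine congrArg _ ?_
  rw [← π_map, show 𝒮.I.obj.map (oι P a.1).op t = e' a from ht a]
  change 𝒮.π.hom.app _ (_ + _) = _
  rw [map_add, π_ι, add_zero, (el q a).2]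

end Glue

/-! ### Homomorphisms out of the additive group -/

section Additive

variable {X : Scheme.{u}} {𝒮 : Seq X} (t : 𝒮.I.obj.obj (op (Red.Ga X)))

/-- The value of a section over the additive group at a point. -/
noncomputable def tP {W : Over X} (x : (CGrpSh2.Ga Kf X).obj.obj (op W)) : 𝒮.I.obj.obj (op W) :=
  𝒮.I.obj.map x.down.toMul.op t

theorem tP_map {W W' : Over X} (h : W' ⟶ W) (x : (CGrpSh2.Ga Kf X).obj.obj (op W)) :
    𝒮.I.obj.map h.op (tP t x) = tP t ((CGrpSh2.Ga Kf X).obj.map h.op x) := map_map _ _ _ _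

variable {t} (φ : CGrpSh2.Ga Kf X ⟶ 𝒮.Q)
  (ht : 𝒮.π.hom.app (op (Red.Ga X)) t = φ.hom.app (op (Red.Ga X)) (ULift.up (Additive.ofMul (𝟙 (Red.Ga X)))))
include ht

theorem π_tP {W : Over X} (x : (CGrpSh2.Ga Kf X).obj.obj (op W)) :
    𝒮.π.hom.app (op W) (tP t x) = φ.hom.app (op W) x := by
  rw [tP, π_map, ht]
  refine (ConcreteCategory.congr_hom (φ.hom.naturality x.down.toMul.op) _).symm.trans ?_
  refine congrArg (φ.hom.app (op W)) (ULift.ext _ _ ?_)
  change Additive.ofMul (x.down.toMul ≫ 𝟙 (Red.Ga X)) = x.down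
  rw [Category.comp_id]
  rfl

theorem exists_defect {W : Over X} (x x' : (CGrpSh2.Ga Kf X).obj.obj (op W)) :
    ∃ d : (CGrpSh2.Gm Kf X).obj.obj (op W),
      𝒮.ι.hom.app (op W) d = tP t x + tP t x' - tP t (x + x') :=
  TorsorH1.sect_exact 𝒮.exact' W _ (by
    change 𝒮.π.hom.app (op W) _ = 0
    rw [map_sub, map_add, π_tP φ ht, π_tP φ ht, π_tP φ ht, map_add, sub_self])

variable (hz : ∀ W : Over X, tP t (0 : (CGrpSh2.Ga Kf X).obj.obj (op W)) = 0)
include hz

/-- Over a reduced affine chart the lift is additive. -/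
theorem tP_add_affine {R : Type u} [CommRing R] [_root_.IsReduced R] (v : Spec (CommRingCat.of R) ⟶ X)
    (D : Type u) [CommRing D] [Algebra R D] (a b : (CGrpSh2.Ga Kf X).obj.obj (op (alg v D))) :
    tP t (a + b) = tP t a + tP t b := by
  let u : (CGrpSh2.Ga Kf X).obj.obj (op (alg v (MvPolynomial (Fin 2) R))) :=
    gaSec Kf (W := alg v (MvPolynomial (Fin 2) R)) ((γ _).symm (MvPolynomial.X 0))
  let w : (CGrpSh2.Ga Kf X).obj.obj (op (alg v (MvPolynomial (Fin 2) R))) :=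
    gaSec Kf (W := alg v (MvPolynomial (Fin 2) R)) ((γ _).symm (MvPolynomial.X 1))
  obtain ⟨d, hd⟩ := exists_defect φ ht u w
  obtain ⟨r, -, hr⟩ := MvPolynomial.isUnit_iff_eq_C_of_isReduced.1
    (IsUnit.map (γ (MvPolynomial (Fin 2) R)) (isUnit_gmVal (W := alg v (MvPolynomial (Fin 2) R)) d))
  have hev : ∀ (D : Type u) [CommRing D] [Algebra R D] (c : Fin 2 → (CGrpSh2.Ga Kf X).obj.obj (op (alg v D))),
      ∃ d' : (CGrpSh2.Gm Kf X).obj.obj (op (alg v D)), γ D (gmVal (W := alg v D) d') = algebraMap R D r ∧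
        𝒮.ι.hom.app (op (alg v D)) d' = tP t (c 0) + tP t (c 1) - tP t (c 0 + c 1) := by
    intro D _ _ c
    let k : MvPolynomial (Fin 2) R →ₐ[R] D := MvPolynomial.aeval fun i => γ D (gaVal (W := alg v D) (c i))
    have hk : ∀ i : Fin 2, (CGrpSh2.Ga Kf X).obj.map (algMap v k).op
        (gaSec Kf (W := alg v (MvPolynomial (Fin 2) R)) ((γ _).symm (MvPolynomial.X i))) = c i := fun i => by
      refine gaVal_inj (K := Kf) ((γ D).injective ?_)
      rw [gaVal_map, gaVal_gaSec]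
      refine (γ_hom (y := Spec.map (CommRingCat.ofHom (algebraMap R (MvPolynomial (Fin 2) R))) ≫ v)
        k.toRingHom _ _).trans ?_
      simp [k]
    refine ⟨(CGrpSh2.Gm Kf X).obj.map (algMap v k).op d, ?_, ?_⟩
    · rw [gmVal_map]
      refine (γ_hom (y := Spec.map (CommRingCat.ofHom (algebraMap R (MvPolynomial (Fin 2) R))) ≫ v)
        k.toRingHom _ _).trans ?_
      rw [hr]
      exact k.commutes r
    · rw [ι_map, hd, map_sub, map_add, tP_map, tP_map, tP_map, map_add]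
      simp only [u, w, hk]
  obtain ⟨d0, hv0, hd0⟩ := hev R fun _ => 0
  rw [add_zero, add_sub_cancel_right, hz] at hd0
  have hd0' : d0 = 0 := TorsorH1.sect_injective 𝒮.exact' (alg v R) (hd0.trans (map_zero _).symm)
  rw [hd0', gmVal_zero, map_one] at hv0
  obtain ⟨d', hv', hd'⟩ := hev D ![a, b]
  have hr1 : r = 1 := hv0.symm
  rw [hr1, map_one] at hv'
  have hd'' : d' = 0 := gmVal_inj (K := Kf) (W := alg v D) (((γ D).injective (hv'.trans (map_one _).symm)).trans (gmVal_zero (W := alg v D)).symm)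
  rw [hd'', map_zero] at hd'
  exact (sub_eq_zero.1 hd'.symm).symm

/-- On a reduced scheme the lift is additive. -/
theorem tP_add [IsReduced X] {W : Over X} (x x' : (CGrpSh2.Ga Kf X).obj.obj (op W)) :
    tP t (x + x') = tP t x + tP t x' := by
  let J := { V : W.left.Opens // IsAffineOpen V ∧ ∃ U : X.Opens, IsAffineOpen U ∧ V ≤ W.hom ⁻¹ᵁ U }
  let Y : J → Over X := fun V => Over.mk (V.2.1.fromSpec ≫ W.hom)
  let g : ∀ V : J, Y V ⟶ W := fun V => Over.homMk V.2.1.fromSpec rfl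
  have hmem : Sieve.ofArrows Y g ∈ QuotSh.J Kf X W := by
    rw [GrothendieckTopology.mem_over_iff, Sieve.overEquiv_ofArrows]
    refine Precoverage.generate_mem_toGrothendieck
      ((Scheme.ofArrows_mem_precoverage_iff _).2 ⟨fun p => ?_, fun V => ⟨?_, ?_⟩⟩)
    · obtain ⟨U, hU, hpU, -⟩ := exists_isAffineOpen_mem_and_subset (X := X) (x := W.hom p) (U := ⊤) trivial
      obtain ⟨V, hV, hp, hVU⟩ := exists_isAffineOpen_mem_and_subset (X := W.left) (x := p) (U := W.hom ⁻¹ᵁ U) hpU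
      refine ⟨⟨V, hV, U, hU, hVU⟩, ?_⟩
      change p ∈ Set.range hV.fromSpec
      rw [hV.range_fromSpec]
      exact hp
    · exact inferInstanceAs (Flat V.2.1.fromSpec)
    · exact inferInstanceAs (LocallyOfFinitePresentation V.2.1.fromSpec)
  refine TorsorH1.sheaf_ext 𝒮.I hmem _ _ fun W' f hf => ?_
  obtain ⟨W'', i, _, ⟨V⟩, rfl⟩ := hf
  rw [← map_map, ← map_map]
  refine congrArg _ ?_
  rw [map_add, tP_map, tP_map, tP_map, map_add]
  obtain ⟨V, hV, U, hU, hVU⟩ := V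
  haveI : _root_.IsReduced Γ(X, U) := inferInstance
  have e : hV.fromSpec ≫ W.hom = Spec.map (W.hom.appLE U V hVU) ≫ hU.fromSpec :=
    (hU.SpecMap_appLE_fromSpec W.hom hV hVU).symm
  letI := (W.hom.appLE U V hVU).hom.toAlgebra
  let i : alg hU.fromSpec Γ(W.left, V) ⟶ Over.mk (hV.fromSpec ≫ W.hom) := Over.homMk (𝟙 _) (by
    change 𝟙 _ ≫ hV.fromSpec ≫ W.hom = Spec.map _ ≫ hU.fromSpec
    rw [Category.id_comp, e]
    rfl)
  let i' : Over.mk (hV.fromSpec ≫ W.hom) ⟶ alg hU.fromSpec Γ(W.left, V) := Over.homMk (𝟙 _) (by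
    change 𝟙 _ ≫ Spec.map _ ≫ hU.fromSpec = hV.fromSpec ≫ W.hom
    rw [Category.id_comp, e]
    rfl)
  have hii : i' ≫ i = 𝟙 _ := by
    ext : 1
    exact Category.id_comp _
  have h := congrArg (𝒮.I.obj.map i'.op) (tP_add_affine φ ht hz hU.fromSpec Γ(W.left, V)
    ((CGrpSh2.Ga Kf X).obj.map i.op ((CGrpSh2.Ga Kf X).obj.map (g ⟨V, hV, U, hU, hVU⟩).op x))
    ((CGrpSh2.Ga Kf X).obj.map i.op ((CGrpSh2.Ga Kf X).obj.map (g ⟨V, hV, U, hU, hVU⟩).op x')))
  simp only [← map_add, tP_map, map_map, reassoc_of% hii] at h ⊢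
  simp only [map_add, tP_map, map_map, reassoc_of% hii] at h ⊢
  exact h

end Additive

/-- `Ext¹(𝔾ₐ, 𝔾ₘ) = 0` on a reduced scheme whose affine line has trivial Picard group. -/
theorem subsingleton_ext (X : Scheme.{u}) [IsReduced X]
    (hPic : ∀ L : (Red.Ga X).left.Modules, PicF.IsInvertible L →
      Nonempty (L ≅ Coh.structureModule (Red.Ga X).left)) :
    Subsingleton (CGrpSh.ExtS Kf (Red.Ga X) (Red.Gm X) 1) := by
  refine subsingleton_of_forall_eq 0 fun z => ?_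
  let M := CGrpSh2.Gm Kf X
  let ι := Injective.ι M
  have hS : (ShortComplex.mk ι (Limits.cokernel.π ι) (Limits.cokernel.condition ι)).ShortExact :=
    { exact := ShortComplex.exact_of_g_is_cokernel _ (Limits.cokernelIsCokernel ι) }
  let 𝒮 : Seq X := ⟨Injective.under M, Limits.cokernel ι, ι, Limits.cokernel.π ι, Limits.cokernel.condition ι, hS⟩
  obtain ⟨x, hx⟩ := Abelian.Ext.covariant_sequence_exact₁ (CGrpSh.pts Kf (Red.Ga X)) hS z
    (@Abelian.Ext.eq_zero_of_injective _ _ _ _ _ (Injective.under M) _ _ _) (zero_add 1)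
  obtain ⟨φ, rfl⟩ := Abelian.Ext.addEquiv₀.symm.surjective x
  suffices hlifts : ∃ ψ : CGrpSh2.Ga Kf X ⟶ 𝒮.I, ψ ≫ 𝒮.π = φ by
    obtain ⟨ψ, rfl⟩ := hlifts
    rw [← hx, Abelian.Ext.addEquiv₀_symm_apply, ← Abelian.Ext.mk₀_comp_mk₀,
      Abelian.Ext.comp_assoc_of_second_deg_zero,
      show (Abelian.Ext.mk₀ 𝒮.π).comp hS.extClass (zero_add 1) = 0 from hS.comp_extClass, Abelian.Ext.comp_zero]
  let one : (CGrpSh2.Ga Kf X).obj.obj (op (Red.Ga X)) := ULift.up (Additive.ofMul (𝟙 (Red.Ga X)))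
  obtain ⟨t₀, ht₀⟩ := exists_lift_of_pic (𝒮 := 𝒮) (P := Red.Ga X) hPic (φ.hom.app (op (Red.Ga X)) one)
  let t : 𝒮.I.obj.obj (op (Red.Ga X)) :=
    t₀ - tP t₀ (0 : (CGrpSh2.Ga Kf X).obj.obj (op (Red.Ga X)))
  have ht : 𝒮.π.hom.app (op (Red.Ga X)) t = φ.hom.app (op (Red.Ga X)) one := by
    rw [map_sub, π_tP φ ht₀, map_zero, sub_zero, ht₀]
  have hz : ∀ W : Over X, tP t (0 : (CGrpSh2.Ga Kf X).obj.obj (op W)) = 0 := fun W => by
    change 𝒮.I.obj.map _ (t₀ - _) = 0
    rw [map_sub, tP_map, map_zero]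
    exact sub_self _
  let ψ : CGrpSh2.Ga Kf X ⟶ 𝒮.I :=
    ⟨{ app := fun U => ConcreteCategory.ofHom (C := AddCommGrpCat.{u + 1})
          (X := (CGrpSh2.Ga Kf X).obj.obj (op (unop U))) (Y := 𝒮.I.obj.obj (op (unop U)))
          (AddMonoidHom.mk' (fun x => tP t x) fun x x' => tP_add φ ht hz x x')
       naturality := fun U U' h => AddCommGrpCat.ext fun x => (tP_map t h.unop x).symm }⟩
  exact ⟨ψ, Sheaf.hom_ext (NatTrans.ext (funext fun U => AddCommGrpCat.ext fun x => π_tP (𝒮 := 𝒮) (t := t) φ ht (W := unop U) x))⟩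

end Groth.Agent.H23Ga.GaExtPic
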