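import Groth.Agent.H23Ga.GaExtLocal
import Groth.Agent.H16Derived.AcyclicLES
import Mathlib.CategoryTheory.Limits.FunctorCategory.Basic
import Mathlib.CategoryTheory.Preadditive.Yoneda.Limits

/-!
# The Ext sheaf of the additive group by the multiplicative group in characteristic `p`
-/

set_option autoImplicit false
set_option backward.isDefEq.respectTransparency false
set_option linter.style.haveILetI false

universe u

open CategoryTheory CategoryTheory.Limits AlgebraicGeometry Opposite

namespace Groth.Agent.H23Ga.GaExtSheaf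

open GmLift GaExtLocal

section HomSh

variable {C : Type (u + 1)} [Category.{u} C] (J : GrothendieckTopology C)
variable (F : Sheaf J AddCommGrpCat.{u + 1})

instance preservesFiniteLimits_overPullback (X : C) :
    PreservesFiniteLimits (J.overPullback AddCommGrpCat.{u + 1} X) := inferInstance

/-- The internal Hom out of a sheaf is left exact. -/
theorem preservesFiniteLimits_homShFunctor : PreservesFiniteLimits (HomSh.homShFunctor J F) := by
  refine ⟨fun K _ _ => ?_⟩
  haveI : PreservesLimitsOfShape K (HomSh.homShFunctor J F ⋙ sheafToPresheaf J AddCommGrpCat.{u + 1}) := by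
    refine preservesLimitsOfShape_of_evaluation _ K fun X => ?_
    exact preservesLimitsOfShape_of_natIso
      (show J.overPullback AddCommGrpCat.{u + 1} X.unop ⋙ preadditiveCoyoneda.obj (op (F.over X.unop)) ≅
          (HomSh.homShFunctor J F ⋙ sheafToPresheaf J AddCommGrpCat.{u + 1}) ⋙ (evaluation _ _).obj X from
        NatIso.ofComponents (fun _ => Iso.refl _) fun {G G'} β => by
          refine AddCommGrpCat.ext fun φ => ?_
          change φ ≫ _ = (J.overPullback _ _).map (𝟙 F) ≫ φ ≫ _
          rw [CategoryTheory.Functor.map_id]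
          exact (Category.id_comp _).symm)
  exact preservesLimitsOfShape_of_reflects_of_preserves (HomSh.homShFunctor J F)
    (sheafToPresheaf J AddCommGrpCat.{u + 1})

end HomSh

/-- The first derived functor vanishes on a subobject of an injective with quotient map of epimorphic image. -/
theorem isZero_rightDerived_one {C : Type*} [Category* C] [Abelian C] [EnoughInjectives C]
    [HasInjectiveResolutions C] {D : Type*} [Category* D] [Abelian D] (G : C ⥤ D) [G.Additive]
    [PreservesFiniteLimits G] {M I Q : C} [Injective I] (ι : M ⟶ I) (π : I ⟶ Q) (w : ι ≫ π = 0)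
    (hT : (ShortComplex.mk ι π w).ShortExact) (he : Epi (G.map π)) :
    IsZero ((G.rightDerived 1).obj M) := by
  obtain ⟨U, hU, e₁, e₂, e₃, a₂, a₃, ha₂, ha₃, hc⟩ := H16Derived.AcyclicLES.exists_les G _ hT
  haveI : Epi (a₂ ≫ HomologicalComplex.homologyMap U.g 0) := by
    rw [hc]; exact epi_comp (G.map π) a₃
  haveI : Epi (HomologicalComplex.homologyMap U.g 0) := epi_of_epi a₂ _
  exact ((hU.homology_exact₁ (0 : ℤ) ((1 : ℕ) : ℤ) (by simp)).isZero_X₂
    ((hU.homology_exact₃ (0 : ℤ) ((1 : ℕ) : ℤ) (by simp)).epi_f_iff.1 inferInstance)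
    (((H16Derived.AcyclicLES.isAcyclic_of_injective G I) 1 one_pos).of_iso
      (e₂ 1).some.symm |>.eq_of_tgt _ _)).of_iso (e₁ 1).some

section ExtSh

variable {C : Type (u + 1)} [Category.{u} C] (J : GrothendieckTopology C) [HasSheafify J AddCommGrpCat.{u + 1}]
  [HasInjectiveResolutions (Sheaf J AddCommGrpCat.{u + 1})] [EnoughInjectives (Sheaf J AddCommGrpCat.{u + 1})]

/-- Vanishing of the first Ext sheaf from an epimorphism of internal Homs. -/
theorem isZero_extSh_one_of_epi (F M I Q : Sheaf J AddCommGrpCat.{u + 1}) [Injective I] (ι : M ⟶ I) (π : I ⟶ Q)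
    (w : ι ≫ π = 0) (hS : (ShortComplex.mk ι π w).ShortExact)
    (he : Epi ((HomSh.homShFunctor J F).map π)) : IsZero ((HomSh.extSh J F 1).obj M) := by
  haveI : PreservesFiniteLimits (HomSh.homShFunctor J F) := preservesFiniteLimits_homShFunctor J F
  rw [HomSh.extSh_def]
  exact isZero_rightDerived_one (HomSh.homShFunctor J F) ι π w hS he

end ExtSh

variable {S : Scheme.{u}} {A : Type u} [CommRing A] {y : Spec (CommRingCat.of A) ⟶ S}

theorem algHom_mem (A' : Type u) [CommRing A'] [Algebra A A'] [Module.FaithfullyFlat A A']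
    [Algebra.FinitePresentation A A'] :
    Sieve.ofArrows (fun _ : PUnit.{u + 1} => alg y A') (fun _ => algHom y A') ∈
      QuotSh.J Kf S (Over.mk y) := by
  rw [GrothendieckTopology.mem_over_iff, Sieve.overEquiv_ofArrows]
  refine Precoverage.generate_mem_toGrothendieck
    ((Scheme.ofArrows_mem_precoverage_iff _).2 ⟨fun p => ⟨PUnit.unit, ?_⟩, fun _ => ⟨?_, ?_⟩⟩)
  · exact PrimeSpectrum.comap_surjective_of_faithfullyFlat (A := A) (B := A') p
  · exact (HasRingHomProperty.Spec_iff (P := @Flat)).2 (RingHom.flat_algebraMap_iff.2 inferInstance)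
  · exact (HasRingHomProperty.Spec_iff (P := @LocallyOfFinitePresentation)).2
      (RingHom.finitePresentation_algebraMap.2 inferInstance)

/-- A sieve covers an object when its pullback along some faithfully flat algebra covers. -/
theorem mem_of_cover (R : Sieve (Over.mk y)) (A' : Type u) [CommRing A'] [Algebra A A']
    [Module.FaithfullyFlat A A'] [Algebra.FinitePresentation A A']
    (h : R.pullback (algHom y A') ∈ QuotSh.J Kf S (alg y A')) : R ∈ QuotSh.J Kf S (Over.mk y) := by
  refine (QuotSh.J Kf S).transitive (algHom_mem A') R fun W f hf => ?_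
  obtain ⟨W'', i, _, ⟨⟩, rfl⟩ := hf
  rw [Sieve.pullback_comp]
  exact (QuotSh.J Kf S).pullback_stable i h

variable (𝒮 : Seq S) (p : ℕ) [Fact p.Prime]

/-- The morphism of internal Hom sheaves induced by the projection. -/
noncomputable abbrev post : HomSh.homSh (QuotSh.J Kf S) (CGrpSh2.Ga Kf S) 𝒮.I ⟶
    HomSh.homSh (QuotSh.J Kf S) (CGrpSh2.Ga Kf S) 𝒮.Q :=
  (HomSh.homShFunctor (QuotSh.J Kf S) (CGrpSh2.Ga Kf S)).map 𝒮.π

theorem post_apply {T : Over S} (ψ : GaTo 𝒮.I T) :
    (post 𝒮).hom.app (op T) ψ =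
      ψ ≫ (GrothendieckTopology.overPullback _ AddCommGrpCat.{u + 1} T).map 𝒮.π := by
  change (GrothendieckTopology.overPullback _ _ _).map (𝟙 _) ≫ ψ ≫ _ = _
  rw [CategoryTheory.Functor.map_id]
  exact Category.id_comp _

/-- Locally lifting homomorphisms. -/
theorem imageSieve_mem_affine (hA : (p : A) = 0) (φ : GaTo 𝒮.Q (Over.mk y)) :
    Presheaf.imageSieve (post 𝒮).hom (U := Over.mk y) φ ∈ QuotSh.J Kf S (Over.mk y) := by
  rcases subsingleton_or_nontrivial A with h | h
  · haveI : IsEmpty (Over.mk y).left := inferInstanceAs (IsEmpty (PrimeSpectrum A))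
    rw [GrothendieckTopology.mem_over_iff]
    refine (Kf.toGrothendieck).superset_covering ?_ (Precoverage.generate_mem_toGrothendieck
      ((Scheme.ofArrows_mem_precoverage_iff (P := @Flat ⊓ @LocallyOfFinitePresentation)
        (X := fun i : PEmpty.{u + 1} => (i.elim : Scheme.{u})) (f := fun i => i.elim)).2
          ⟨fun x => IsEmpty.elim ‹IsEmpty (Over.mk y).left› x, fun i => i.elim⟩))
    rintro W f ⟨_, _, _, ⟨i⟩, -⟩
    exact i.elim
  obtain ⟨A', _, _, _, _, ⟨D⟩⟩ := exists_data_cover p hA φ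
  refine mem_of_cover _ A' ?_
  haveI : Nontrivial A' := (FaithfulSMul.algebraMap_injective A A').nontrivial
  obtain ⟨A'', _, _, _, _, ψ, hψ⟩ := exists_hom_cover p (by rw [← map_natCast (algebraMap A A'), hA, map_zero]) D
  refine mem_of_cover (y := (alg y A').hom) _ A'' ?_
  refine GrothendieckTopology.covering_of_eq_top _ (Sieve.ext fun W f => ⟨fun _ => trivial, fun _ => ?_⟩)
  refine (Presheaf.imageSieve (post 𝒮).hom (U := Over.mk y) φ).downward_closed
    (f := algHom (alg y A').hom A'' ≫ algHom y A') ⟨ψ, ?_⟩ f |> fun h => by simpa [Sieve.pullback_apply] using h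
  refine (post_apply 𝒮 ψ).trans (hψ.trans ?_)
  exact (ConcreteCategory.congr_hom ((HomSh.homSh (QuotSh.J Kf S) (CGrpSh2.Ga Kf S) 𝒮.Q).obj.map_comp
    (algHom y A').op (algHom (alg y A').hom A'').op) φ).symm

theorem isLocallySurjective_post (hp : (p : Γ(S, ⊤)) = 0) :
    Presheaf.IsLocallySurjective (QuotSh.J Kf S) (post 𝒮).hom := by
  refine ⟨fun {U} φ => ?_⟩
  let Y : U.left.affineOpens → Over S := fun V => Over.mk (V.2.fromSpec ≫ U.hom)
  let g : ∀ V, Y V ⟶ U := fun V => Over.homMk V.2.fromSpec rfl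
  have hmem : Sieve.ofArrows Y g ∈ QuotSh.J Kf S U := by
    rw [GrothendieckTopology.mem_over_iff, Sieve.overEquiv_ofArrows]
    refine Precoverage.generate_mem_toGrothendieck
      ((Scheme.ofArrows_mem_precoverage_iff _).2 ⟨fun q => ?_, fun V => ⟨?_, ?_⟩⟩)
    · obtain ⟨V, hV, hq, -⟩ := exists_isAffineOpen_mem_and_subset (X := U.left) (x := q) (U := ⊤) trivial
      refine ⟨⟨V, hV⟩, ?_⟩
      change q ∈ Set.range hV.fromSpec
      rw [hV.range_fromSpec]
      exact hq
    · exact inferInstanceAs (Flat V.2.fromSpec)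
    · exact inferInstanceAs (LocallyOfFinitePresentation V.2.fromSpec)
  refine (QuotSh.J Kf S).transitive hmem _ fun W f hf => ?_
  obtain ⟨W'', i, _, ⟨V⟩, rfl⟩ := hf
  rw [Sieve.pullback_comp]
  refine (QuotSh.J Kf S).pullback_stable i ?_
  have hV : (p : Γ(U.left, V.1)) = 0 := by
    have := congrArg ((V.2.fromSpec ≫ U.hom).appTop ≫
      (Scheme.ΓSpecIso Γ(U.left, V.1)).hom) hp
    simpa using this
  refine (QuotSh.J Kf S).superset_covering (fun Z k hk => ?_)
    (imageSieve_mem_affine 𝒮 p (y := V.2.fromSpec ≫ U.hom) hV (restr (g V) φ))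
  obtain ⟨t, ht⟩ := hk
  exact ⟨t, ht.trans (ConcreteCategory.congr_hom
    ((HomSh.homSh (QuotSh.J Kf S) (CGrpSh2.Ga Kf S) 𝒮.Q).obj.map_comp (g V).op k.op) φ).symm⟩

/-- The first Ext sheaf vanishes. -/
theorem isZero_extSh_one (hp : (p : Γ(S, ⊤)) = 0) :
    IsZero ((HomSh.extSh (QuotSh.J Kf S) (CGrpSh2.Ga Kf S) 1).obj (CGrpSh2.Gm Kf S)) := by
  let M := CGrpSh2.Gm Kf S
  let ι := Injective.ι M
  have hS : (ShortComplex.mk ι (Limits.cokernel.π ι) (Limits.cokernel.condition ι)).ShortExact :=
    { exact := ShortComplex.exact_of_g_is_cokernel _ (Limits.cokernelIsCokernel ι) }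
  let 𝒮 : Seq S := ⟨Injective.under M, Limits.cokernel ι, ι, Limits.cokernel.π ι, Limits.cokernel.condition ι, hS⟩
  exact isZero_extSh_one_of_epi (QuotSh.J Kf S) (CGrpSh2.Ga Kf S) M (Injective.under M) (Limits.cokernel ι) ι
    (Limits.cokernel.π ι) (Limits.cokernel.condition ι) hS
    ((Sheaf.isLocallySurjective_iff_epi' (A := AddCommGrpCat.{u + 1}) (post 𝒮)).1 (isLocallySurjective_post 𝒮 p hp))

end Groth.Agent.H23Ga.GaExtSheaf
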