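import Groth.Agent.H23Ga.GaExt

/-!
# Dual sheaves of iterated extensions of the additive group
-/

set_option autoImplicit false
set_option backward.isDefEq.respectTransparency false
set_option linter.style.haveILetI false

universe u

open CategoryTheory CategoryTheory.Limits AlgebraicGeometry Opposite MonObj

namespace Groth.Agent.H23Ga.GaTower

open GmLift GaExt

/-- A field is seminormal. -/
theorem isSeminormalRing_field (k : Type u) [Field k] : HTop.IsSeminormalRing k := by
  intro x y h
  rcases eq_or_ne x 0 with rfl | hx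
  · have hy : y = 0 := by simpa using h.symm
    subst hy
    refine ⟨0, by simp, fun b hb => ?_⟩
    simpa using hb.2.symm
  · refine ⟨y / x, ⟨?_, ?_⟩, fun b hb => ?_⟩
    · field_simp; linear_combination h
    · field_simp; linear_combination y * h
    · rw [hb.2, hb.1]
      have hb0 : b ≠ 0 := fun h0 => hx (by rw [hb.1, h0]; simp)
      field_simp

/-- `H¹` of a dual sheaf vanishes when `Ext¹` into the multiplicative group does. -/
theorem subsingleton_H_one_dualSh {S : Scheme.{u}} (F : BigSite.Ab Kf S)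
    (h : Subsingleton (Abelian.Ext F (CGrpSh2.Gm Kf S) 1)) :
    Subsingleton (BigSite.H Kf S (CGrpSh2.dualSh Kf F) 1) :=
  TorsorH1.subsingleton_H_one_homSh F (CGrpSh2.Gm Kf S) Over.mkIdTerminal h

/-- Iterated extensions of the additive group have no extensions by the multiplicative group. -/
theorem subsingleton_ext_tower {S : Scheme.{u}} (n : ℕ) (U : Fin (n + 1) → Over S) [∀ j, GrpObj (U j)]
    [∀ j, IsCommMonObj (U j)] (incl : ∀ j : Fin n, U j.castSucc ⟶ U j.succ) (proj : ∀ j : Fin n, U j.succ ⟶ Red.Ga S)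
    [∀ j, IsMonHom (incl j)] [∀ j, IsMonHom (proj j)] (w : ∀ j, incl j ≫ proj j = 1)
    (hex : ∀ j, (CGrpSh.seq Kf (incl j) (proj j) (w j)).ShortExact)
    (h0 : IsZero (CGrpSh.pts Kf (U 0)))
    (hGa : Subsingleton (CGrpSh.ExtS Kf (Red.Ga S) (Red.Gm S) 1)) (j : Fin (n + 1)) :
    Subsingleton (CGrpSh.ExtS Kf (U j) (Red.Gm S) 1) := by
  induction j using Fin.induction with
  | zero =>
    refine subsingleton_of_forall_eq 0 fun z => ?_
    rw [← Abelian.Ext.mk₀_id_comp z, (IsZero.iff_id_eq_zero _).1 h0, Abelian.Ext.mk₀_zero, Abelian.Ext.zero_comp]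
  | succ j ih =>
    refine subsingleton_of_forall_eq 0 fun z => ?_
    have hz : (Abelian.Ext.mk₀ (CGrpSh.seq Kf (incl j) (proj j) (w j)).f).comp z (zero_add 1) = 0 := ih.elim _ _
    obtain ⟨v, rfl⟩ := Abelian.Ext.contravariant_sequence_exact₂ (hex j) _ z hz
    have hv : v = 0 := hGa.elim _ _
    rw [hv, Abelian.Ext.comp_zero]

end Groth.Agent.H23Ga.GaTower
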