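import Groth.Prelude.Def_CGrpSh2
import Mathlib.Algebra.Homology.DerivedCategory.Ext.ExactSequences
import Mathlib.Algebra.Homology.ShortComplex.Ab
import Mathlib.Algebra.Category.Grp.Adjunctions
import Mathlib.CategoryTheory.Sites.EpiMono
import Mathlib.CategoryTheory.Sites.LocallyBijective
import Mathlib.CategoryTheory.Abelian.Injective.Basic

/-!
# `H¹` of an internal Hom vanishes when `Ext¹` does

For a torsor under `𝓗om(F, M)` one forms the presheaf `W ↦ E(W) →₀ F(W)` of formal combinations of
points; the sheafification of its augmentation to `F` is an extension of `F` by the kernel, on which the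
differences of points define a morphism to `M`.  When `Ext¹(F, M) = 0` it extends, and the extension
selects a global point.
-/

set_option autoImplicit false
set_option backward.isDefEq.respectTransparency false
set_option linter.style.haveILetI false

universe u

open CategoryTheory CategoryTheory.Limits Opposite CategoryTheory.Abelian

namespace Groth.Agent.H23Ga.TorsorH1

variable {C : Type (u + 1)} [Category.{u} C] {J : GrothendieckTopology C}
  [HasSheafify J AddCommGrpCat.{u + 1}]

section Sect

variable {S : ShortComplex (Sheaf J AddCommGrpCat.{u + 1})}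

/-- Sections of a short exact sequence form a left exact sequence. -/
theorem sect_injective (hS : S.ShortExact) (W : C) : Function.Injective (S.f.hom.app (op W)) := by
  haveI := hS.mono_f
  haveI : Mono (((sheafToPresheaf J AddCommGrpCat.{u + 1}) ⋙ (evaluation _ _).obj (op W)).map S.f) := inferInstance
  exact (AddCommGrpCat.mono_iff_injective _).1 this

theorem sect_exact (hS : S.ShortExact) (W : C) (x : S.X₂.obj.obj (op W)) (hx : S.g.hom.app (op W) x = 0) :
    ∃ a : S.X₁.obj.obj (op W), S.f.hom.app (op W) a = x := by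
  haveI := hS.mono_f
  have h := hS.exact.map_of_mono_of_preservesKernel
    ((sheafToPresheaf J AddCommGrpCat.{u + 1}) ⋙ (evaluation _ _).obj (op W)) inferInstance inferInstance
  rw [ShortComplex.ab_exact_iff] at h
  exact h x hx

end Sect

/-- Elements of a sheaf agreeing locally are equal. -/
theorem sheaf_ext (G : Sheaf J AddCommGrpCat.{u + 1}) {W : C} {R : Sieve W} (hR : R ∈ J W)
    (x y : G.obj.obj (op W)) (h : ∀ ⦃W' : C⦄ (f : W' ⟶ W), R f → G.obj.map f.op x = G.obj.map f.op y) : x = y := by
  have hsh : Presieve.IsSheaf J (G.obj ⋙ CategoryTheory.forget AddCommGrpCat.{u + 1}) :=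
    (isSheaf_iff_isSheaf_of_type _ _).1 ((sheafCompose J (CategoryTheory.forget AddCommGrpCat.{u + 1})).obj G).property
  exact ((hsh R hR).isSeparatedFor).ext fun V f hf => h f hf

section Torsor

variable (F M : Sheaf J AddCommGrpCat.{u + 1}) {Jt Qt : Sheaf J AddCommGrpCat.{u + 1}}
  (ι : HomSh.homSh J F M ⟶ Jt) (π : Jt ⟶ Qt) (w : ι ≫ π = 0) {T : C} (hT : IsTerminal T)
  (q : Qt.obj.obj (op T))

/-- The points of the torsor. -/
def Lifts (W : C) : Type (u + 1) :=
  { e : Jt.obj.obj (op W) // π.hom.app (op W) e = Qt.obj.map (hT.from W).op q }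

variable {π hT q}

/-- Restriction of points. -/
def resE {W W' : C} (f : W' ⟶ W) (e : Lifts π hT q W) : Lifts π hT q W' :=
  ⟨Jt.obj.map f.op e.1, by
    rw [show π.hom.app (op W') (Jt.obj.map f.op e.1) = Qt.obj.map f.op (π.hom.app (op W) e.1) from
      ConcreteCategory.congr_hom (π.hom.naturality f.op) e.1, e.2,
      ← ConcreteCategory.comp_apply, ← Functor.map_comp, ← op_comp, hT.comp_from]⟩

theorem resE_id {W : C} (e : Lifts π hT q W) : resE (𝟙 W) e = e :=
  Subtype.ext (by change Jt.obj.map (𝟙 W).op e.1 = e.1; rw [op_id, CategoryTheory.Functor.map_id]; rfl)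

theorem resE_comp {W W' W'' : C} (f : W' ⟶ W) (g : W'' ⟶ W') (e : Lifts π hT q W) :
    resE (g ≫ f) e = resE g (resE f e) :=
  Subtype.ext (by change Jt.obj.map (g ≫ f).op e.1 = _; rw [op_comp, Functor.map_comp]; rfl)

variable (π hT q)

/-- Formal combinations of points. -/
noncomputable def pre : Cᵒᵖ ⥤ AddCommGrpCat.{u + 1} where
  obj W := AddCommGrpCat.of (Lifts π hT q (unop W) →₀ F.obj.obj W)
  map {W W'} f := AddCommGrpCat.ofHom (Finsupp.liftAddHom fun e =>
    (Finsupp.singleAddHom (resE f.unop e)).comp (F.obj.map f).hom)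
  map_id W := by
    refine AddCommGrpCat.hom_ext (Finsupp.addHom_ext fun e x => ?_)
    simp [resE_id]
  map_comp f g := by
    refine AddCommGrpCat.hom_ext (Finsupp.addHom_ext fun e x => ?_)
    simp [resE_comp]

theorem pre_map_single {W W' : C} (f : W' ⟶ W) (e : Lifts π hT q W) (x : F.obj.obj (op W)) :
    (pre F π hT q).map f.op (Finsupp.single e x) = Finsupp.single (resE f e) (F.obj.map f.op x) := by
  simp [pre]

/-- The augmentation. -/
noncomputable def aug : pre F π hT q ⟶ F.obj where
  app W := AddCommGrpCat.ofHom (Finsupp.liftAddHom fun _ => AddMonoidHom.id _)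
  naturality W W' f := by
    refine AddCommGrpCat.hom_ext (Finsupp.addHom_ext fun e x => ?_)
    simp [pre]

theorem aug_single {W : C} (e : Lifts π hT q W) (x : F.obj.obj (op W)) :
    (aug F π hT q).app (op W) (Finsupp.single e x) = x := by
  exact Finsupp.liftAddHom_apply_single _ _ _

variable {π hT q}
variable (hS : (ShortComplex.mk ι π w).ShortExact)
include hS

theorem exists_diff {W : C} (e0 e : Lifts π hT q W) :
    ∃ a : F.over W ⟶ M.over W, ι.hom.app (op W) a = e.1 - e0.1 :=
  sect_exact hS W _ (by
    change π.hom.app (op W) (e.1 - e0.1) = 0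
    rw [map_sub, e.2, e0.2, sub_self])

/-- The difference of two points. -/
noncomputable def diff {W : C} (e0 e : Lifts π hT q W) : F.over W ⟶ M.over W :=
  (exists_diff F M ι w hS e0 e).choose

theorem ι_diff {W : C} (e0 e : Lifts π hT q W) :
    ι.hom.app (op W) (diff F M ι w hS e0 e) = e.1 - e0.1 :=
  (exists_diff F M ι w hS e0 e).choose_spec

theorem diff_add {W : C} (e0 e1 e : Lifts π hT q W) :
    diff F M ι w hS e0 e = diff F M ι w hS e0 e1 + diff F M ι w hS e1 e :=
  sect_injective hS W (by
    change ι.hom.app (op W) _ = ι.hom.app (op W) _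
    rw [map_add, ι_diff, ι_diff, ι_diff]
    abel)

theorem diff_map {W W' : C} (f : W' ⟶ W) (e0 e : Lifts π hT q W) :
    (HomSh.homSh J F M).obj.map f.op (diff F M ι w hS e0 e) = diff F M ι w hS (resE f e0) (resE f e) :=
  sect_injective hS W' (by
    change ι.hom.app (op W') _ = ι.hom.app (op W') _
    rw [ι_diff, show ι.hom.app (op W') ((HomSh.homSh J F M).obj.map f.op (diff F M ι w hS e0 e)) =
      Jt.obj.map f.op (ι.hom.app (op W) (diff F M ι w hS e0 e)) from
      ConcreteCategory.congr_hom (ι.hom.naturality f.op) _, ι_diff, map_sub]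
    rfl)

omit hS in
theorem ev_map {W W' : C} (f : W' ⟶ W) (φ : F.over W ⟶ M.over W) (x : F.obj.obj (op W)) :
    HomSh.ev J ((HomSh.homSh J F M).obj.map f.op φ : F.over W' ⟶ M.over W') (F.obj.map f.op x) =
      M.obj.map f.op (HomSh.ev J φ x) := by
  have hn := ConcreteCategory.congr_hom
    (φ.hom.naturality (Over.homMk f : Over.mk f ⟶ Over.mk (𝟙 W)).op) x
  exact (HomSh.app_over_mk_congr J φ (Category.id_comp f) _).trans hn

/-- The values of the differences with a base point. -/
noncomputable def phi0 {W : C} (e0 : Lifts π hT q W) :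
    (pre F π hT q).obj (op W) →+ M.obj.obj (op W) :=
  Finsupp.liftAddHom fun e => HomSh.ev J (diff F M ι w hS e0 e : F.over W ⟶ M.over W)

theorem phi0_single {W : C} (e0 e : Lifts π hT q W) (x : F.obj.obj (op W)) :
    phi0 F M ι w hS e0 (Finsupp.single e x) = HomSh.ev J (diff F M ι w hS e0 e : F.over W ⟶ M.over W) x := by
  exact Finsupp.liftAddHom_apply_single _ _ _

theorem phi0_change {W : C} (e0 e1 : Lifts π hT q W) (c : (pre F π hT q).obj (op W)) :
    phi0 F M ι w hS e0 c = phi0 F M ι w hS e1 c +
      HomSh.ev J (diff F M ι w hS e0 e1 : F.over W ⟶ M.over W) ((aug F π hT q).app (op W) c) := by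
  have h : phi0 F M ι w hS e0 = phi0 F M ι w hS e1 +
      (HomSh.ev J (diff F M ι w hS e0 e1 : F.over W ⟶ M.over W)).comp ((aug F π hT q).app (op W)).hom := by
    refine Finsupp.addHom_ext fun e x => ?_
    change phi0 F M ι w hS e0 (Finsupp.single e x) = phi0 F M ι w hS e1 (Finsupp.single e x) +
      HomSh.ev J (diff F M ι w hS e0 e1 : F.over W ⟶ M.over W) ((aug F π hT q).app (op W) (Finsupp.single e x))
    rw [phi0_single, phi0_single, aug_single, diff_add F M ι w hS e0 e1 e, add_comm]
    rfl
  exact DFunLike.congr_fun h c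

theorem phi0_map {W W' : C} (f : W' ⟶ W) (e0 : Lifts π hT q W) (c : (pre F π hT q).obj (op W)) :
    phi0 F M ι w hS (resE f e0) ((pre F π hT q).map f.op c) = M.obj.map f.op (phi0 F M ι w hS e0 c) := by
  have h : (phi0 F M ι w hS (resE f e0)).comp ((pre F π hT q).map f.op).hom =
      (M.obj.map f.op).hom.comp (phi0 F M ι w hS e0) := by
    refine Finsupp.addHom_ext fun e x => ?_
    change phi0 F M ι w hS (resE f e0) ((pre F π hT q).map f.op (Finsupp.single e x)) =
      M.obj.map f.op (phi0 F M ι w hS e0 (Finsupp.single e x))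
    rw [pre_map_single, phi0_single, phi0_single, ← diff_map F M ι w hS f, ev_map]
  exact DFunLike.congr_fun h c

omit hS in
theorem aug_incl {W : C} (c : (kernel (aug F π hT q)).obj (op W)) :
    (aug F π hT q).app (op W) ((kernel.ι (aug F π hT q)).app (op W) c) = 0 := by
  rw [← ConcreteCategory.comp_apply, ← NatTrans.comp_app, kernel.condition]
  rfl

omit hS in
theorem exists_incl {W : C} (c : (pre F π hT q).obj (op W)) (hc : (aug F π hT q).app (op W) c = 0) :
    ∃ k : (kernel (aug F π hT q)).obj (op W), (kernel.ι (aug F π hT q)).app (op W) k = c := by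
  have h := (ShortComplex.exact_of_f_is_kernel (ShortComplex.mk (kernel.ι (aug F π hT q)) (aug F π hT q)
    (kernel.condition _)) (kernelIsKernel _)).map_of_mono_of_preservesKernel
    ((evaluation _ _).obj (op W)) inferInstance inferInstance
  rw [ShortComplex.ab_exact_iff] at h
  exact h c hc

omit hS in
theorem eq_zero_of_isEmpty {W : C} (h : IsEmpty (Lifts π hT q W)) (c : (pre F π hT q).obj (op W)) : c = 0 :=
  Finsupp.ext fun e => h.elim e

open scoped Classical in
/-- The morphism on the kernel given by differences. -/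
noncomputable def phiK : kernel (aug F π hT q) ⟶ M.obj where
  app W := AddCommGrpCat.ofHom
    (if h : Nonempty (Lifts π hT q (unop W)) then
      (phi0 F M ι w hS h.some).comp ((kernel.ι (aug F π hT q)).app W).hom else 0)
  naturality W W' f := by
    refine AddCommGrpCat.ext fun c => ?_
    have hn : (kernel.ι (aug F π hT q)).app W' ((kernel (aug F π hT q)).map f c) =
        (pre F π hT q).map f ((kernel.ι (aug F π hT q)).app W c) :=
      ConcreteCategory.congr_hom ((kernel.ι (aug F π hT q)).naturality f) c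
    by_cases h : Nonempty (Lifts π hT q (unop W))
    · have h' : Nonempty (Lifts π hT q (unop W')) := ⟨resE f.unop h.some⟩
      simp only [dif_pos h, dif_pos h']
      change phi0 F M ι w hS h'.some ((kernel.ι (aug F π hT q)).app W' ((kernel (aug F π hT q)).map f c)) =
        M.obj.map f (phi0 F M ι w hS h.some ((kernel.ι (aug F π hT q)).app W c))
      rw [phi0_change F M ι w hS h'.some (resE f.unop h.some), aug_incl, map_zero, add_zero, hn]
      exact phi0_map F M ι w hS f.unop h.some _
    · rw [dif_neg h]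
      change _ = M.obj.map f 0
      rw [map_zero]
      by_cases h' : Nonempty (Lifts π hT q (unop W'))
      · rw [dif_pos h']
        change phi0 F M ι w hS h'.some ((kernel.ι (aug F π hT q)).app W' ((kernel (aug F π hT q)).map f c)) = 0
        rw [hn, eq_zero_of_isEmpty F (W := unop W) (not_nonempty_iff.1 h) ((kernel.ι (aug F π hT q)).app W c),
          map_zero, map_zero]
      · rw [dif_neg h']
        rfl

open scoped Classical in
theorem phiK_apply {W : C} (e0 : Lifts π hT q W) (c : (kernel (aug F π hT q)).obj (op W)) :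
    (phiK F M ι w hS).app (op W) c = phi0 F M ι w hS e0 ((kernel.ι (aug F π hT q)).app (op W) c) := by
  have h : Nonempty (Lifts π hT q W) := ⟨e0⟩
  change (if h : Nonempty (Lifts π hT q W) then
      (phi0 F M ι w hS h.some).comp ((kernel.ι (aug F π hT q)).app (op W)).hom else 0) c = _
  rw [dif_pos h]
  change phi0 F M ι w hS h.some _ = _
  rw [phi0_change F M ι w hS h.some e0, aug_incl, map_zero, add_zero]

theorem isLocallySurjective_π : Presheaf.IsLocallySurjective J π.hom := by
  haveI : Epi π := hS.epi_g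
  exact (Sheaf.isLocallySurjective_iff_epi' (A := AddCommGrpCat.{u + 1}) π).2 inferInstance

theorem isLocallySurjective_aug : Presheaf.IsLocallySurjective J (aug F π hT q) := by
  haveI := isLocallySurjective_π F M ι w hS
  refine ⟨fun {W} x => J.superset_covering ?_ (Presheaf.imageSieve_mem J π.hom (Qt.obj.map (hT.from W).op q))⟩
  intro W' f hf
  obtain ⟨e, he⟩ := hf
  refine ⟨Finsupp.single (⟨e, ?_⟩ : Lifts π hT q W') (F.obj.map f.op x), aug_single F π hT q _ _⟩
  rw [← hT.comp_from f, op_comp, Functor.map_comp]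
  exact he

theorem exists_extension (hExt : ∀ [HasExt.{u + 1} (Sheaf J AddCommGrpCat.{u + 1})], Subsingleton (Ext F M 1))
    [HasExt.{u + 1} (Sheaf J AddCommGrpCat.{u + 1})] :
    ∃ D : pre F π hT q ⟶ M.obj, kernel.ι (aug F π hT q) ≫ D = phiK F M ι w hS := by
  let L := presheafToSheaf J AddCommGrpCat.{u + 1}
  let adj := sheafificationAdjunction J AddCommGrpCat.{u + 1}
  let a := (adj.homEquiv _ F).symm (aug F π hT q)
  have ha : a = L.map (aug F π hT q) ≫ adj.counit.app F := Adjunction.homEquiv_counit _ _ _ _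
  haveI : IsIso (adj.counit.app F) := isIso_sheafificationAdjunction_counit F
  haveI : L.Additive := Functor.additive_of_preserves_binary_products L
  have w0 : L.map (kernel.ι (aug F π hT q)) ≫ a = 0 := by
    rw [ha, ← Category.assoc, ← L.map_comp, kernel.condition, L.map_zero, zero_comp]
  let S₀ : ShortComplex (Cᵒᵖ ⥤ AddCommGrpCat.{u + 1}) :=
    ShortComplex.mk (kernel.ι (aug F π hT q)) (aug F π hT q) (kernel.condition _)
  haveI : Mono S₀.f := inferInstanceAs (Mono (kernel.ι (aug F π hT q)))
  have h₀ : (S₀.map L).Exact :=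
    (ShortComplex.exact_of_f_is_kernel S₀ (kernelIsKernel _)).map_of_mono_of_preservesKernel L inferInstance inferInstance
  let S' : ShortComplex (Sheaf J AddCommGrpCat.{u + 1}) := ShortComplex.mk (L.map (kernel.ι (aug F π hT q))) a w0
  have hS' : S'.Exact := ShortComplex.exact_of_iso
    (ShortComplex.isoMk (S₁ := S₀.map L) (S₂ := S') (Iso.refl _) (Iso.refl _) (asIso (adj.counit.app F))
      (by simp [S₀, S'])
      (by simp only [S₀, S', ha, ShortComplex.map_g, Iso.refl_hom, Category.id_comp, asIso_hom])) h₀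
  haveI : Mono S'.f := inferInstanceAs (Mono (L.map (kernel.ι (aug F π hT q))))
  haveI : Epi S'.g := by
    change Epi a
    rw [ha]
    haveI := isLocallySurjective_aug F M ι w hS (hT := hT) (q := q)
    haveI : Sheaf.IsLocallySurjective (L.map (aug F π hT q)) :=
      (Presheaf.isLocallySurjective_presheafToSheaf_map_iff J (aug F π hT q)).2 inferInstance
    exact epi_comp _ _
  have hSE : S'.ShortExact := ⟨hS'⟩
  haveI : Subsingleton (Ext S'.X₃ M 1) := hExt
  obtain ⟨x, hx⟩ := Ext.contravariant_sequence_exact₁ hSE M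
    (Ext.mk₀ ((adj.homEquiv _ M).symm (phiK F M ι w hS) : S'.X₁ ⟶ M)) (n₁ := 1) rfl (Subsingleton.elim _ _)
  obtain ⟨D', rfl⟩ := Ext.addEquiv₀.symm.surjective x
  rw [Ext.addEquiv₀_symm_apply, Ext.mk₀_comp_mk₀] at hx
  refine ⟨adj.homEquiv _ M D', ?_⟩
  have h2 := congrArg (adj.homEquiv _ M) ((Ext.mk₀_bijective _ _).1 hx)
  rw [Equiv.apply_symm_apply] at h2
  exact (adj.homEquiv_naturality_left (kernel.ι (aug F π hT q)) D').symm.trans h2

omit hS in
/-- The hom attached to a point by a morphism out of the formal combinations. -/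
noncomputable def pointHom (D : pre F π hT q ⟶ M.obj) {W : C} (e : Lifts π hT q W) : F.over W ⟶ M.over W :=
  ⟨{ app := fun U => ConcreteCategory.ofHom (C := AddCommGrpCat.{u + 1})
        (X := F.obj.obj (op (unop U).left)) (Y := M.obj.obj (op (unop U).left))
        (((D.app (op (unop U).left)).hom).comp (Finsupp.singleAddHom (resE (unop U).hom e)))
     naturality := fun U U' g => by
       refine AddCommGrpCat.ext fun x => ?_
       change D.app (op (unop U').left) (Finsupp.single (resE (unop U').hom e) (F.obj.map g.unop.left.op x)) =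
         M.obj.map g.unop.left.op (D.app (op (unop U).left) (Finsupp.single (resE (unop U).hom e) x))
       rw [← ConcreteCategory.comp_apply (D.app _), ← D.naturality, ConcreteCategory.comp_apply, pre_map_single,
         ← resE_comp, Over.w g.unop] }⟩

omit hS in
theorem pointHom_map (D : pre F π hT q ⟶ M.obj) {W W' : C} (f : W' ⟶ W) (e : Lifts π hT q W) :
    ((HomSh.homSh J F M).obj.map f.op (pointHom F M D e) : F.over W' ⟶ M.over W') = pointHom F M D (resE f e) := by
  refine Sheaf.hom_ext (NatTrans.ext (funext fun U => AddCommGrpCat.ext fun x => ?_))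
  change D.app (op (unop U).left) (Finsupp.single (resE ((unop U).hom ≫ f) e) x) =
    D.app (op (unop U).left) (Finsupp.single (resE (unop U).hom (resE f e)) x)
  rw [resE_comp]

omit hS [HasSheafify J AddCommGrpCat.{u + 1}] in
/-- The component of a morphism over an object at a map into it. -/
noncomputable abbrev appAt {W W' : C} (φ : F.over W ⟶ M.over W) (g : W' ⟶ W) (x : F.obj.obj (op W')) :
    M.obj.obj (op W') := φ.hom.app (op (Over.mk g)) x

theorem pointHom_sub {D : pre F π hT q ⟶ M.obj} (hD : kernel.ι (aug F π hT q) ≫ D = phiK F M ι w hS) {W : C}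
    (e0 e : Lifts π hT q W) :
    pointHom F M D e = pointHom F M D e0 + (diff F M ι w hS e0 e : F.over W ⟶ M.over W) := by
  refine Sheaf.hom_ext (NatTrans.ext (funext fun U => ?_))
  obtain ⟨U⟩ := U
  obtain ⟨W', g, rfl⟩ := Over.mk_surjective U
  refine AddCommGrpCat.ext fun (x : F.obj.obj (op W')) => ?_
  change D.app (op W') (Finsupp.single (resE g e) x) = D.app (op W') (Finsupp.single (resE g e0) x) +
    appAt F M (diff F M ι w hS e0 e) g x
  let c : (pre F π hT q).obj (op W') := Finsupp.single (resE g e) x - Finsupp.single (resE g e0) x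
  have hc : (aug F π hT q).app (op W') c = 0 := by
    change (aug F π hT q).app (op W') (Finsupp.single (resE g e) x - Finsupp.single (resE g e0) x) = 0
    rw [map_sub, aug_single, aug_single, sub_self]
  obtain ⟨k, hk⟩ := exists_incl F c hc
  have h1 : D.app (op W') c = phi0 F M ι w hS (resE g e0) c := by
    rw [← hk, ← ConcreteCategory.comp_apply, ← NatTrans.comp_app, hD]
    exact phiK_apply F M ι w hS (resE g e0) k
  have h2 : phi0 F M ι w hS (resE g e0) c =
      appAt F M (diff F M ι w hS e0 e) g x := by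
    have h0 : diff F M ι w hS (resE g e0) (resE g e0) = 0 := by
      have := diff_add F M ι w hS (resE g e0) (resE g e0) (resE g e0)
      exact left_eq_add.1 this
    rw [show c = Finsupp.single (resE g e) x - Finsupp.single (resE g e0) x from rfl, map_sub, phi0_single,
      phi0_single, h0, ← diff_map F M ι w hS g]
    refine (sub_zero _).trans ?_
    exact HomSh.app_over_mk_congr J (diff F M ι w hS e0 e : F.over W ⟶ M.over W) (Category.id_comp g) x
  rw [← h2, ← h1, show c = Finsupp.single (resE g e) x - Finsupp.single (resE g e0) x from rfl, map_sub]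
  abel

include hT in
/-- A torsor under `𝓗om(F, M)` has a global point when `Ext¹(F, M)` vanishes. -/
theorem exists_lift (hExt : ∀ [HasExt.{u + 1} (Sheaf J AddCommGrpCat.{u + 1})], Subsingleton (Ext F M 1))
    [HasExt.{u + 1} (Sheaf J AddCommGrpCat.{u + 1})] : ∃ e : Jt.obj.obj (op T), π.hom.app (op T) e = q := by
  obtain ⟨D, hD⟩ := exists_extension F M ι w hS (hT := hT) (q := q) hExt
  let inv : ∀ {W : C}, Lifts π hT q W → Jt.obj.obj (op W) := fun {W} e =>
    e.1 - ι.hom.app (op W) (pointHom F M D e)
  have inv_eq : ∀ {W : C} (e0 e : Lifts π hT q W), inv e = inv e0 := fun {W} e0 e => by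
    have := ι_diff F M ι w hS e0 e
    change e.1 - ι.hom.app (op W) (pointHom F M D e) = e0.1 - ι.hom.app (op W) (pointHom F M D e0)
    rw [pointHom_sub F M ι w hS hD e0 e]
    rw [show ι.hom.app (op W) (pointHom F M D e0 + (diff F M ι w hS e0 e : F.over W ⟶ M.over W)) =
      ι.hom.app (op W) (pointHom F M D e0) + ι.hom.app (op W) (diff F M ι w hS e0 e) from map_add _ _ _, this]
    abel
  have inv_map : ∀ {W W' : C} (f : W' ⟶ W) (e : Lifts π hT q W), Jt.obj.map f.op (inv e) = inv (resE f e) :=
    fun {W W'} f e => by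
      change Jt.obj.map f.op (e.1 - ι.hom.app (op W) (pointHom F M D e)) =
        Jt.obj.map f.op e.1 - ι.hom.app (op W') (pointHom F M D (resE f e))
      rw [map_sub, ← pointHom_map]
      exact congrArg _ (ConcreteCategory.congr_hom (ι.hom.naturality f.op) _).symm
  haveI := isLocallySurjective_π F M ι w hS
  let R := Presheaf.imageSieve π.hom (U := T) q
  have hR : R ∈ J T := Presheaf.imageSieve_mem J π.hom q
  have hlift : ∀ {W : C} (f : W ⟶ T), R f → Nonempty (Lifts π hT q W) := fun {W} f hf => by
    obtain ⟨e, he⟩ := hf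
    exact ⟨⟨e, by rw [he, hT.hom_ext (hT.from W) f]⟩⟩
  let fam : Presieve.FamilyOfElements (Jt.obj ⋙ CategoryTheory.forget AddCommGrpCat.{u + 1}) R.arrows :=
    fun W f hf => inv (hlift f hf).some
  have hfam : fam.Compatible := fun W₁ W₂ Z g₁ g₂ f₁ f₂ h₁ h₂ _ => by
    change Jt.obj.map g₁.op (inv (hlift f₁ h₁).some) = Jt.obj.map g₂.op (inv (hlift f₂ h₂).some)
    rw [inv_map, inv_map]
    exact inv_eq _ _
  have hsh : Presieve.IsSheaf J (Jt.obj ⋙ CategoryTheory.forget AddCommGrpCat.{u + 1}) :=
    (isSheaf_iff_isSheaf_of_type _ _).1 ((sheafCompose J (CategoryTheory.forget AddCommGrpCat.{u + 1})).obj Jt).property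
  obtain ⟨e, he, -⟩ := hsh R hR fam hfam
  refine ⟨e, sheaf_ext Qt hR _ _ fun W f hf => ?_⟩
  rw [show Qt.obj.map f.op (π.hom.app (op T) e) = π.hom.app (op W) (Jt.obj.map f.op e) from
    (ConcreteCategory.congr_hom (π.hom.naturality f.op) e).symm]
  rw [show Jt.obj.map f.op e = inv (hlift f hf).some from he f hf]
  change π.hom.app (op W) ((hlift f hf).some.1 - ι.hom.app (op W) (pointHom F M D (hlift f hf).some)) = _
  rw [map_sub, (hlift f hf).some.2, ← ConcreteCategory.comp_apply, ← NatTrans.comp_app]
  rw [show ι.hom ≫ π.hom = 0 from congrArg (fun φ : HomSh.homSh J F M ⟶ Qt => φ.hom) w]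
  rw [hT.hom_ext (hT.from W) f]
  exact sub_zero _

end Torsor

/-- `H¹` of the internal Hom vanishes when `Ext¹` does. -/
theorem subsingleton_H_one_homSh [HasExt.{u + 1} (Sheaf J AddCommGrpCat.{u + 1})]
    [EnoughInjectives (Sheaf J AddCommGrpCat.{u + 1})]
    (F M : Sheaf J AddCommGrpCat.{u + 1}) {T : C} (hT : IsTerminal T) (h : Subsingleton (Ext F M 1)) :
    Subsingleton (Sheaf.H (HomSh.homSh J F M) 1) := by
  refine subsingleton_of_forall_eq 0 fun z => ?_
  let ι := Injective.ι (HomSh.homSh J F M)
  let S : ShortComplex (Sheaf J AddCommGrpCat.{u + 1}) := ShortComplex.mk ι (cokernel.π ι) (cokernel.condition ι)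
  have hS : S.ShortExact :=
    { exact := ShortComplex.exact_of_g_is_cokernel _ (cokernelIsCokernel ι) }
  haveI : Injective S.X₂ := inferInstanceAs (Injective (Injective.under (HomSh.homSh J F M)))
  obtain ⟨x, hx⟩ := Ext.covariant_sequence_exact₁ _ hS z (Ext.eq_zero_of_injective _) (zero_add 1)
  obtain ⟨e, he⟩ := exists_lift (π := cokernel.π ι) F M ι (cokernel.condition ι) hS (hT := hT)
    (q := Sheaf.H.equiv₀ (cokernel ι) hT x) (fun {_} => h)
  have hx' : x = Sheaf.H.map (cokernel.π ι) 0 ((Sheaf.H.equiv₀ _ hT).symm e) := by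
    rw [Sheaf.H.equiv₀_symm_naturality, he, AddEquiv.symm_apply_apply]
  rw [← hx, hx', Sheaf.H.map_apply, Ext.comp_assoc_of_second_deg_zero,
    show (Ext.mk₀ (cokernel.π ι)).comp hS.extClass (zero_add 1) = 0 from hS.comp_extClass, Ext.comp_zero]

end Groth.Agent.H23Ga.TorsorH1
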