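import Groth.Agent.H23Ga.DualPts
import Groth.Agent.H23Ga.TorsorH1
import Groth.Agent.H02CA.Adeq.Big.Affine
import Mathlib.RingTheory.Flat.FaithfullyFlat.Algebra
import Mathlib.RingTheory.RingHom.FinitePresentation

/-!
# Lifting sections along a quotient by the multiplicative group over affine test objects

For a short exact sequence `0 → 𝔾ₘ → I → Q → 0` on the big fppf site and a section `q` of `Q` over an
affine object `Spec A`, the lifts of `q` form a `𝔾ₘ`-torsor; here are its points over `A`-algebras, their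
differences as units, and descent along faithfully flat finitely presented covers.
-/

set_option autoImplicit false
set_option backward.isDefEq.respectTransparency false
set_option linter.style.haveILetI false

universe u

open CategoryTheory AlgebraicGeometry Opposite TensorProduct

namespace Groth.Agent.H23Ga.GmLift

open DualPts (hom γ gmVal gmSec)

/-- The fppf precoverage. -/
abbrev Kf : Precoverage Scheme.{u} := Scheme.fppfPrecoverage.{u}

/-- A short exact sequence of abelian sheaves starting at the multiplicative group. -/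
structure Seq (S : Scheme.{u}) where
  /-- The middle term. -/
  I : BigSite.Ab Kf S
  /-- The quotient. -/
  Q : BigSite.Ab Kf S
  /-- The inclusion. -/
  ι : CGrpSh2.Gm Kf S ⟶ I
  /-- The projection. -/
  π : I ⟶ Q
  w : ι ≫ π = 0
  exact' : (ShortComplex.mk ι π w).ShortExact

variable {S : Scheme.{u}} {A : Type u} [CommRing A] (y : Spec (CommRingCat.of A) ⟶ S)

/-- The test object of an algebra. -/
noncomputable abbrev alg (C : Type u) [CommRing C] [Algebra A C] : Over S :=
  Over.mk (Spec.map (CommRingCat.ofHom (algebraMap A C)) ≫ y)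

/-- The structure morphism of the test object of an algebra. -/
noncomputable abbrev algHom (C : Type u) [CommRing C] [Algebra A C] : alg y C ⟶ Over.mk y :=
  hom (algebraMap A C) rfl

/-- The morphism of test objects of a map of algebras. -/
noncomputable def algMap {C D : Type u} [CommRing C] [Algebra A C] [CommRing D] [Algebra A D] (k : C →ₐ[A] D) :
    alg y D ⟶ alg y C :=
  hom k.toRingHom (by
    rw [← Category.assoc, ← Spec.map_comp, ← CommRingCat.ofHom_comp,
      show k.toRingHom.comp (algebraMap A C) = algebraMap A D from k.comp_algebraMap])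

section

variable {C D E : Type u} [CommRing C] [Algebra A C] [CommRing D] [Algebra A D] [CommRing E] [Algebra A E]

theorem algMap_left (k : C →ₐ[A] D) : (algMap y k).left = Spec.map (CommRingCat.ofHom k.toRingHom) := rfl

theorem algMap_comp (k : C →ₐ[A] D) (l : D →ₐ[A] E) : algMap y l ≫ algMap y k = algMap y (l.comp k) := by
  ext : 1
  exact (Spec.map_comp _ _).symm

theorem algMap_id : algMap y (AlgHom.id A C) = 𝟙 (alg y C) := by
  ext : 1
  exact Spec.map_id _

theorem algMap_algHom (k : C →ₐ[A] D) : algMap y k ≫ algHom y C = algHom y D := by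
  ext : 1
  refine ((Spec.map_comp _ _).symm).trans ?_
  rw [← CommRingCat.ofHom_comp, show k.toRingHom.comp (algebraMap A C) = algebraMap A D from k.comp_algebraMap]
  rfl

variable {y} (𝒮 : Seq S) (q : 𝒮.Q.obj.obj (op (Over.mk y)))

/-- The lifts of the section over an algebra. -/
def Lifts (C : Type u) [CommRing C] [Algebra A C] : Type (u + 1) :=
  { e : 𝒮.I.obj.obj (op (alg y C)) // 𝒮.π.hom.app (op (alg y C)) e = 𝒮.Q.obj.map (algHom y C).op q }

variable {𝒮 q}

/-- Restriction of lifts. -/
noncomputable def res (k : C →ₐ[A] D) (e : Lifts 𝒮 q C) : Lifts 𝒮 q D :=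
  ⟨𝒮.I.obj.map (algMap y k).op e.1, by
    rw [show 𝒮.π.hom.app (op (alg y D)) (𝒮.I.obj.map (algMap y k).op e.1) =
        𝒮.Q.obj.map (algMap y k).op (𝒮.π.hom.app (op (alg y C)) e.1) from
      ConcreteCategory.congr_hom (𝒮.π.hom.naturality (algMap y k).op) e.1, e.2,
      ← ConcreteCategory.comp_apply, ← Functor.map_comp, ← op_comp, algMap_algHom]⟩

theorem res_comp (k : C →ₐ[A] D) (l : D →ₐ[A] E) (e : Lifts 𝒮 q C) : res l (res k e) = res (l.comp k) e :=
  Subtype.ext (by
    change 𝒮.I.obj.map _ (𝒮.I.obj.map _ e.1) = 𝒮.I.obj.map _ e.1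
    rw [← algMap_comp, op_comp, Functor.map_comp]
    rfl)

theorem res_id (e : Lifts 𝒮 q C) : res (AlgHom.id A C) e = e :=
  Subtype.ext (by
    change 𝒮.I.obj.map _ e.1 = e.1
    rw [algMap_id, op_id, CategoryTheory.Functor.map_id]
    rfl)

theorem exists_sub (e e' : Lifts 𝒮 q C) :
    ∃ a : (CGrpSh2.Gm Kf S).obj.obj (op (alg y C)), 𝒮.ι.hom.app (op (alg y C)) a = e'.1 - e.1 :=
  TorsorH1.sect_exact 𝒮.exact' _ _ (by
    change 𝒮.π.hom.app (op (alg y C)) (e'.1 - e.1) = 0
    rw [map_sub, e.2, e'.2, sub_self])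

/-- The difference of two lifts as a section of the multiplicative group. -/
noncomputable def sub (e e' : Lifts 𝒮 q C) : (CGrpSh2.Gm Kf S).obj.obj (op (alg y C)) := (exists_sub e e').choose

theorem ι_sub (e e' : Lifts 𝒮 q C) : 𝒮.ι.hom.app (op (alg y C)) (sub e e') = e'.1 - e.1 :=
  (exists_sub e e').choose_spec

/-- The difference of two lifts as a unit. -/
noncomputable def δ (e e' : Lifts 𝒮 q C) : C := γ C (gmVal (sub e e'))

theorem isUnit_δ (e e' : Lifts 𝒮 q C) : IsUnit (δ e e') := IsUnit.map (γ C) (DualPts.isUnit_gmVal (W := alg y C) (sub e e'))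

theorem δ_trans (e e' e'' : Lifts 𝒮 q C) : δ e e'' = δ e e' * δ e' e'' := by
  rw [δ, δ, δ, ← map_mul, ← DualPts.gmVal_add]
  congr 2
  refine TorsorH1.sect_injective 𝒮.exact' (alg y C) ?_
  change 𝒮.ι.hom.app (op (alg y C)) _ = 𝒮.ι.hom.app (op (alg y C)) _
  rw [map_add, ι_sub, ι_sub, ι_sub]
  abel

theorem δ_self (e : Lifts 𝒮 q C) : δ e e = 1 :=
  (isUnit_δ e e).mul_eq_left.1 (δ_trans e e e).symm

theorem δ_swap (e e' : Lifts 𝒮 q C) : δ e e' * δ e' e = 1 := by rw [← δ_trans, δ_self]

theorem δ_res (k : C →ₐ[A] D) (e e' : Lifts 𝒮 q C) : δ (res k e) (res k e') = k (δ e e') := by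
  have h : sub (res k e) (res k e') = (CGrpSh2.Gm Kf S).obj.map (algMap y k).op (sub e e') := by
    refine TorsorH1.sect_injective 𝒮.exact' (alg y D) ?_
    change 𝒮.ι.hom.app (op (alg y D)) _ = 𝒮.ι.hom.app (op (alg y D)) _
    rw [ι_sub, show 𝒮.ι.hom.app (op (alg y D)) ((CGrpSh2.Gm Kf S).obj.map (algMap y k).op (sub e e')) =
      𝒮.I.obj.map (algMap y k).op (𝒮.ι.hom.app (op (alg y C)) (sub e e')) from
      ConcreteCategory.congr_hom (𝒮.ι.hom.naturality (algMap y k).op) _, ι_sub, map_sub]
    rfl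
  rw [δ, δ, h, DualPts.gmVal_map]
  exact DualPts.γ_hom _ _ _

theorem eq_of_δ_eq_one (e e' : Lifts 𝒮 q C) (h : δ e e' = 1) : e = e' := by
  have h1 : gmVal (sub e e') = 1 := (γ C).injective (h.trans (map_one _).symm)
  have h2 : sub e e' = 0 := DualPts.gmVal_inj (K := Kf) (h1.trans DualPts.gmVal_zero.symm)
  have h3 := ι_sub e e'
  rw [h2, map_zero] at h3
  exact Subtype.ext (sub_eq_zero.1 h3.symm).symm

/-- Translation of a lift by a unit. -/
noncomputable def shift (e : Lifts 𝒮 q C) (c : C) (hc : IsUnit c) : Lifts 𝒮 q C :=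
  ⟨e.1 + 𝒮.ι.hom.app (op (alg y C)) (gmSec Kf (W := alg y C) ((γ C).symm c) (hc.map _)), by
    rw [map_add, e.2, ← ConcreteCategory.comp_apply (𝒮.ι.hom.app _), ← NatTrans.comp_app,
      show 𝒮.ι.hom ≫ 𝒮.π.hom = 0 from congrArg (fun φ : CGrpSh2.Gm Kf S ⟶ 𝒮.Q => φ.hom) 𝒮.w]
    exact add_zero _⟩

theorem δ_shift (e : Lifts 𝒮 q C) (c : C) (hc : IsUnit c) : δ e (shift e c hc) = c := by
  have h : sub e (shift e c hc) = gmSec Kf (W := alg y C) ((γ C).symm c) (hc.map _) := by
    refine TorsorH1.sect_injective 𝒮.exact' (alg y C) ?_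
    change 𝒮.ι.hom.app (op (alg y C)) _ = 𝒮.ι.hom.app (op (alg y C)) _
    rw [ι_sub]
    exact add_sub_cancel_left _ _
  rw [δ, h, DualPts.gmVal_gmSec, RingEquiv.apply_symm_apply]

end

/-! ### Descent -/

section Descent

variable {y} {𝒮 : Seq S} {q : 𝒮.Q.obj.obj (op (Over.mk y))}
variable {C : Type u} [CommRing C] [Algebra A C] {κ : Type u} {C' : κ → Type u} [∀ k, CommRing (C' k)]
  [∀ k, Algebra A (C' k)]

/-- A jointly surjective family of flat finitely presented maps. -/
structure IsCover (f : ∀ k, C →ₐ[A] C' k) : Prop where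
  surj : ∀ p : PrimeSpectrum C, ∃ k, ∃ p' : PrimeSpectrum (C' k), PrimeSpectrum.comap (f k).toRingHom p' = p
  flat : ∀ k, (f k).toRingHom.Flat
  fp : ∀ k, (f k).toRingHom.FinitePresentation

theorem IsCover.mem {f : ∀ k, C →ₐ[A] C' k} (hf : IsCover f) (y : Spec (CommRingCat.of A) ⟶ S) :
    Sieve.ofArrows (fun k => alg y (C' k)) (fun k => algMap y (f k)) ∈ QuotSh.J Kf S (alg y C) := by
  rw [GrothendieckTopology.mem_over_iff, Sieve.overEquiv_ofArrows]
  refine Precoverage.generate_mem_toGrothendieck ((Scheme.ofArrows_mem_precoverage_iff _).2 ⟨fun p => ?_, fun k => ?_⟩)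
  · obtain ⟨k, p', hp'⟩ := hf.surj p
    exact ⟨k, p', hp'⟩
  · exact ⟨(HasRingHomProperty.Spec_iff (P := @Flat)).2 (hf.flat k),
      (HasRingHomProperty.Spec_iff (P := @LocallyOfFinitePresentation)).2 (hf.fp k)⟩

/-- Two sections over any object agreeing on its affine opens are equal. -/
theorem eq_of_affine (G : BigSite.Ab Kf S) (Z : Over S) (a b : G.obj.obj (op Z))
    (h : ∀ (D : Type u) [CommRing D] (z : Spec (CommRingCat.of D) ⟶ S) (j : Over.mk z ⟶ Z),
      G.obj.map j.op a = G.obj.map j.op b) : a = b := by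
  let Y : Z.left.affineOpens → Over S := fun V => Over.mk (V.2.fromSpec ≫ Z.hom)
  let g : ∀ V : Z.left.affineOpens, Y V ⟶ Z := fun V => Over.homMk V.2.fromSpec rfl
  have hmem : Sieve.ofArrows Y g ∈ QuotSh.J Kf S Z := by
    rw [GrothendieckTopology.mem_over_iff, Sieve.overEquiv_ofArrows]
    refine Precoverage.generate_mem_toGrothendieck
      ((Scheme.ofArrows_mem_precoverage_iff _).2 ⟨fun p => ?_, fun V => ⟨?_, ?_⟩⟩)
    · obtain ⟨V, hV, hp, -⟩ := exists_isAffineOpen_mem_and_subset (X := Z.left) (x := p) (U := ⊤) trivial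
      refine ⟨⟨V, hV⟩, ?_⟩
      change p ∈ Set.range hV.fromSpec
      rw [hV.range_fromSpec]
      exact hp
    · exact inferInstanceAs (Flat V.2.fromSpec)
    · exact inferInstanceAs (LocallyOfFinitePresentation V.2.fromSpec)
  refine TorsorH1.sheaf_ext G hmem a b fun W' f hf => ?_
  obtain ⟨W'', i, _, ⟨V⟩, rfl⟩ := hf
  rw [op_comp, Functor.map_comp, ConcreteCategory.comp_apply, ConcreteCategory.comp_apply]
  exact congrArg _ (h Γ(Z.left, V.1) (V.2.fromSpec ≫ Z.hom) (g V))

/-- Descent of lifts. -/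
theorem exists_descent {f : ∀ k, C →ₐ[A] C' k} (hf : IsCover f) (e : ∀ k, Lifts 𝒮 q (C' k))
    (hcompat : ∀ (k l : κ) (D : Type u) [CommRing D] [Algebra A D] (a : C' k →ₐ[A] D) (b : C' l →ₐ[A] D),
      a.comp (f k) = b.comp (f l) → res a (e k) = res b (e l)) :
    ∃ e₀ : Lifts 𝒮 q C, ∀ k, res (f k) e₀ = e k := by
  have hmem := hf.mem y
  have hsh : Presieve.IsSheafFor (𝒮.I.obj ⋙ CategoryTheory.forget AddCommGrpCat.{u + 1})
      (Presieve.ofArrows (fun k => alg y (C' k)) (fun k => algMap y (f k))) := by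
    rw [Presieve.isSheafFor_iff_generate]
    exact ((isSheaf_iff_isSheaf_of_type _ _).1
      ((sheafCompose _ (CategoryTheory.forget AddCommGrpCat.{u + 1})).obj 𝒮.I).property) _ hmem
  obtain ⟨t, ht, -⟩ := (Presieve.isSheafFor_arrows_iff _ _).1 hsh (fun k => (e k).1) fun k l Z ga gb hg => by
    change 𝒮.I.obj.map ga.op (e k).1 = 𝒮.I.obj.map gb.op (e l).1
    refine eq_of_affine 𝒮.I Z _ _ fun D _ z j => ?_
    rw [← ConcreteCategory.comp_apply, ← ConcreteCategory.comp_apply, ← Functor.map_comp, ← Functor.map_comp,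
      ← op_comp, ← op_comp]
    have hg' : (j ≫ ga) ≫ algMap y (f k) = (j ≫ gb) ≫ algMap y (f l) := by
      rw [Category.assoc, Category.assoc, hg]
    generalize j ≫ ga = a at hg' ⊢
    generalize j ≫ gb = b at hg' ⊢
    obtain ⟨φ, hφ⟩ : ∃ φ : A →+* D,
        Spec.map (CommRingCat.ofHom φ) = (a ≫ algMap y (f k) ≫ algHom y C).left :=
      ⟨(Spec.preimage (R := CommRingCat.of A) (S := CommRingCat.of D) (a ≫ algMap y (f k) ≫ algHom y C).left).hom,
        by rw [CommRingCat.ofHom_hom, Spec.map_preimage]⟩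
    have hz : Spec.map (CommRingCat.ofHom φ) ≫ y = z := by
      rw [hφ]
      exact Over.w (a ≫ algMap y (f k) ≫ algHom y C)
    subst hz
    letI := φ.toAlgebra
    have lift : ∀ (i : κ) (a : alg y D ⟶ alg y (C' i)), (a ≫ algMap y (f i) ≫ algHom y C).left =
        Spec.map (CommRingCat.ofHom φ) → ∃ a' : C' i →ₐ[A] D, algMap y a' = a := by
      intro i a ha
      obtain ⟨r, hr⟩ : ∃ r : C' i →+* D, Spec.map (CommRingCat.ofHom r) = a.left :=
        ⟨(Spec.preimage (R := CommRingCat.of (C' i)) (S := CommRingCat.of D) a.left).hom,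
          by rw [CommRingCat.ofHom_hom, Spec.map_preimage]⟩
      have hc : r.comp (algebraMap A (C' i)) = φ := by
        have h1 : CommRingCat.ofHom (r.comp (algebraMap A (C' i))) = CommRingCat.ofHom φ := by
          apply Spec.map_injective
          rw [← ha, algMap_algHom, CommRingCat.ofHom_comp, Spec.map_comp, hr]
          rfl
        exact congrArg CommRingCat.Hom.hom h1
      exact ⟨{ r with commutes' := fun x => DFunLike.congr_fun hc x }, Over.OverMorphism.ext hr⟩
    obtain ⟨a', ha'⟩ := lift k a hφ.symm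
    obtain ⟨b', hb'⟩ := lift l b (by
      rw [← Category.assoc, ← hg', Category.assoc]
      exact hφ.symm)
    have hcomp : a'.comp (f k) = b'.comp (f l) := by
      have h1 : algMap y (a'.comp (f k)) = algMap y (b'.comp (f l)) := by
        rw [← algMap_comp, ← algMap_comp, ha', hb', hg']
      have h2 := congrArg (fun m : alg y D ⟶ alg y C => m.left) h1
      exact AlgHom.coe_ringHom_injective (congrArg CommRingCat.Hom.hom (Spec.map_injective h2))
    rw [← ha', ← hb']
    exact congrArg Subtype.val (hcompat k l D a' b' hcomp)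
  refine ⟨⟨t, TorsorH1.sheaf_ext 𝒮.Q hmem _ _ fun W' g hg => ?_⟩, fun k => Subtype.ext (ht k)⟩
  obtain ⟨W'', i, _, ⟨k⟩, rfl⟩ := hg
  rw [op_comp, Functor.map_comp, ConcreteCategory.comp_apply, ConcreteCategory.comp_apply]
  refine congrArg _ ?_
  refine ((ConcreteCategory.congr_hom (𝒮.π.hom.naturality (algMap y (f k)).op) t).symm).trans ?_
  change 𝒮.π.hom.app _ (𝒮.I.obj.map (algMap y (f k)).op t) = _
  rw [show 𝒮.I.obj.map (algMap y (f k)).op t = (e k).1 from ht k, (e k).2,
    ← ConcreteCategory.comp_apply, ← Functor.map_comp, ← op_comp, algMap_algHom]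

/-- Lifts are determined on a cover. -/
theorem eq_of_cover {f : ∀ k, C →ₐ[A] C' k} (hf : IsCover f) (e e' : Lifts 𝒮 q C)
    (h : ∀ k, res (f k) e = res (f k) e') : e = e' := by
  refine Subtype.ext (TorsorH1.sheaf_ext 𝒮.I (hf.mem y) _ _ fun W' g hg => ?_)
  obtain ⟨W'', i, _, ⟨k⟩, rfl⟩ := hg
  rw [op_comp, Functor.map_comp, ConcreteCategory.comp_apply, ConcreteCategory.comp_apply]
  exact congrArg _ (congrArg Subtype.val (h k))

end Descent

/-! ### Existence of a faithfully flat finitely presented algebra with a lift -/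

/-- Some faithfully flat finitely presented algebra carries a lift. -/
theorem exists_cover_lift {y : Spec (CommRingCat.of A) ⟶ S} (𝒮 : Seq S) (q : 𝒮.Q.obj.obj (op (Over.mk y))) :
    ∃ (B : Type u) (_ : CommRing B) (_ : Algebra A B),
      Module.FaithfullyFlat A B ∧ Algebra.FinitePresentation A B ∧ Nonempty (Lifts 𝒮 q B) := by
  haveI : Epi 𝒮.π := 𝒮.exact'.epi_g
  haveI : Presheaf.IsLocallySurjective (QuotSh.J Kf S) 𝒮.π.hom :=
    (Sheaf.isLocallySurjective_iff_epi' (A := AddCommGrpCat.{u + 1}) 𝒮.π).2 inferInstance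
  have hT := Presheaf.imageSieve_mem (QuotSh.J Kf S) 𝒮.π.hom (U := op (Over.mk y)) q
  obtain ⟨n, R', i1, i2, hff, hmem, hcov⟩ := Groth.Agent.H02CA.Adq.exists_affine_refine
    (P := (@Flat ⊓ @LocallyOfFinitePresentation : MorphismProperty Scheme.{u})) (fun _ hf => hf.1)
    (R := CommRingCat.of A) (Sv := Sieve.overEquiv (Over.mk y) (Presheaf.imageSieve 𝒮.π.hom q))
    ((GrothendieckTopology.mem_over_iff _ _).1 hT)
  let R'' : ULift.{u} (Fin n) → Type u := fun j => R' j.down
  letI : ∀ j, CommRing (R'' j) := fun j => i1 j.down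
  letI : ∀ j, Algebra A (R'' j) := fun j => i2 j.down
  obtain ⟨-, hP⟩ := (Scheme.ofArrows_mem_precoverage_iff _).1 hcov
  haveI : ∀ j, Algebra.FinitePresentation A (R'' j) := fun j =>
    RingHom.finitePresentation_algebraMap.1
      ((HasRingHomProperty.Spec_iff (P := @LocallyOfFinitePresentation)).1 (hP j.down).2)
  have hflat : ∀ j, Module.Flat A (R'' j) := fun j =>
    RingHom.flat_algebraMap_iff.1 ((HasRingHomProperty.Spec_iff (P := @Flat)).1 (hP j.down).1)
  haveI hff' : Module.FaithfullyFlat A (∀ j, R'' j) :=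
    Module.FaithfullyFlat.of_linearEquiv A (∀ j : Fin n, R' j)
      (LinearEquiv.piCongrLeft A (fun j : Fin n => R' j) Equiv.ulift)
  have hl : ∀ j, Nonempty (Lifts 𝒮 q (R'' j)) := fun j => by
    have h := (Sieve.overEquiv_iff (Presheaf.imageSieve 𝒮.π.hom q)
      (Groth.Agent.H02CA.Adq.algMap' (CommRingCat.of A) (R' j.down))).1 (hmem j.down)
    obtain ⟨e, he⟩ := h
    exact ⟨⟨e, he⟩⟩
  let f : ∀ j, (∀ j, R'' j) →ₐ[A] R'' j := fun j => Pi.evalAlgHom A R'' j
  have hsurj : ∀ j, Function.Surjective (f j) := fun j x =>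
    ⟨Function.update 0 j x, Function.update_self j x 0⟩
  have hcov' : IsCover f :=
    { surj := fun p => by
        obtain ⟨j, hj⟩ : ∃ j, Pi.single j (1 : R'' j) ∉ p.asIdeal := by
          by_contra! hall
          refine p.isPrime.ne_top (Ideal.eq_top_iff_one _ |>.2 ?_)
          rw [show (1 : ∀ j, R'' j) = ∑ j, Pi.single j 1 from (Finset.univ_sum_single (1 : ∀ j, R'' j)).symm]
          exact Ideal.sum_mem _ fun j _ => hall j
        refine ⟨j, ?_⟩
        have hle : RingHom.ker (f j).toRingHom ≤ p.asIdeal := fun x (hx : x j = 0) => by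
          refine (p.isPrime.mem_or_mem (?_ : x * Pi.single j 1 ∈ p.asIdeal)).resolve_right hj
          rw [show x * Pi.single j 1 = 0 from funext fun i => by
            rcases eq_or_ne i j with rfl | hi
            · simp [hx]
            · simp [hi]]
          exact zero_mem _
        haveI := Ideal.map_isPrime_of_surjective (f := (f j).toRingHom) (hsurj j) hle
        refine ⟨⟨p.asIdeal.map (f j).toRingHom, inferInstance⟩, PrimeSpectrum.ext ?_⟩
        change (p.asIdeal.map (f j).toRingHom).comap (f j).toRingHom = p.asIdeal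
        rw [Ideal.comap_map_of_surjective (f j).toRingHom (hsurj j), ← RingHom.ker_eq_comap_bot, sup_eq_left.2 hle]
      flat := fun j => by
        letI := (f j).toRingHom.toAlgebra
        refine RingHom.flat_algebraMap_iff.2 ?_
        refine Module.Flat.of_retract (R := ∀ j, R'' j) (M := ∀ j, R'' j)
          { toFun := fun x : R'' j => Pi.single j x
            map_add' := fun a b => Pi.single_add j a b
            map_smul' := fun r a => funext fun i => by
              rcases eq_or_ne i j with rfl | hi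
              · simp [Algebra.smul_def, RingHom.algebraMap_toAlgebra, f]
              · simp [hi] }
          (Algebra.linearMap _ _) (LinearMap.ext fun x => by simp [RingHom.algebraMap_toAlgebra, f])
      fp := fun j => RingHom.FinitePresentation.of_surjective _ (hsurj j) ⟨{1 - Pi.single j 1}, by
        refine le_antisymm (Ideal.span_le.2 ?_) fun x (hx : x j = 0) => ?_
        · simp [f]
        · rw [Finset.coe_singleton]
          refine Ideal.mem_span_singleton.2 ⟨x, funext fun i => ?_⟩
          rcases eq_or_ne i j with rfl | hi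
          · simp [hx]
          · simp [hi]⟩ }
  obtain ⟨e, -⟩ := exists_descent hcov' (fun j => (hl j).some) fun k l D _ _ a b hab => by
    rcases eq_or_ne k l with rfl | hkl
    · rw [AlgHom.cancel_right (hsurj k)] at hab
      rw [hab]
    · haveI : Subsingleton D := by
        refine subsingleton_of_zero_eq_one ?_
        have h1 := DFunLike.congr_fun hab (Pi.single k 1)
        simp [f, hkl.symm] at h1
        exact h1.symm
      exact eq_of_cover (κ := PEmpty.{u + 1}) (C' := fun _ => D) (f := fun i => i.elim)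
        ⟨fun p => absurd (by rw [Subsingleton.elim (1 : D) 0]; exact zero_mem _)
          ((Ideal.ne_top_iff_one _).1 p.isPrime.ne_top), fun i => i.elim,
          fun i => i.elim⟩ _ _ fun i => i.elim
  exact ⟨∀ j, R'' j, inferInstance, inferInstance, hff', inferInstance, ⟨e⟩⟩

end Groth.Agent.H23Ga.GmLift
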