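import Groth.Agent.H23Ga.TorsorAlg
import Groth.Agent.H3CAlg.Traverso
import Groth.Agent.H18Subint.Local
import Mathlib.RingTheory.Polynomial.Nilpotent
import Mathlib.RingTheory.Localization.Away.AdjoinRoot

/-!
# Lifts over the affine line

Over a ring whose reduction is seminormal, a section over the affine line that lifts along the zero section lifts.
-/

set_option autoImplicit false
set_option backward.isDefEq.respectTransparency false
set_option linter.style.haveILetI false

universe u

open CategoryTheory AlgebraicGeometry Opposite TensorProduct Polynomial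

namespace Groth.Agent.H23Ga.GmLift

open DualPts (hom)

variable {S : Scheme.{u}} {𝒮 : Seq S}

/-- A lift over the trivial algebra gives one over the base. -/
theorem exists_of_lifts {A : Type u} [CommRing A] {y : Spec (CommRingCat.of A) ⟶ S}
    {q : 𝒮.Q.obj.obj (op (Over.mk y))} (e : Lifts 𝒮 q A) : ∃ x, 𝒮.π.hom.app (op (Over.mk y)) x = q := by
  let j : Over.mk y ⟶ alg y A := hom (RingHom.id A) (by
    rw [← Category.assoc, ← Spec.map_comp]
    change Spec.map (CommRingCat.ofHom (algebraMap A A) ≫ CommRingCat.ofHom (RingHom.id A)) ≫ y = y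
    rw [← CommRingCat.ofHom_comp]
    change Spec.map (CommRingCat.ofHom (RingHom.id A)) ≫ y = y
    rw [CommRingCat.ofHom_id, Spec.map_id, Category.id_comp])
  have hj : j ≫ algHom y A = 𝟙 (Over.mk y) := by
    ext : 1
    refine (Spec.map_comp _ _).symm.trans ?_
    exact Spec.map_id _
  refine ⟨𝒮.I.obj.map j.op e.1, ?_⟩
  rw [show 𝒮.π.hom.app (op (Over.mk y)) (𝒮.I.obj.map j.op e.1) =
      𝒮.Q.obj.map j.op (𝒮.π.hom.app (op (alg y A)) e.1) from
    ConcreteCategory.congr_hom (𝒮.π.hom.naturality j.op) e.1, e.2,
    ← ConcreteCategory.comp_apply, ← Functor.map_comp, ← op_comp, hj, op_id, CategoryTheory.Functor.map_id]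
  rfl

/-- A lift of the restriction to an algebra is a lift over that algebra. -/
theorem nonempty_lifts_of_exists {A C : Type u} [CommRing A] [CommRing C] [Algebra A C]
    {y : Spec (CommRingCat.of A) ⟶ S} {q : 𝒮.Q.obj.obj (op (Over.mk y))}
    (h : ∃ x, 𝒮.π.hom.app (op (alg y C)) x = 𝒮.Q.obj.map (algHom y C).op q) : Nonempty (Lifts 𝒮 q C) :=
  ⟨⟨h.choose, h.choose_spec⟩⟩

/-- Seminormality of a reduced ring with bijective Frobenius. -/
theorem isSeminormalRing_of_perfect (p : ℕ) [Fact p.Prime] (R : Type u) [CommRing R] [IsReduced R] [CharP R p]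
    (hF : Function.Surjective (frobenius R p)) : HTop.IsSeminormalRing R := by
  intro x z hxz
  have hp : p.Prime := Fact.out
  have hinj := frobenius_inj R p
  suffices hex : ∃ a : R, x = a ^ 2 ∧ z = a ^ 3 by
    obtain ⟨a, ha⟩ := hex
    refine ⟨a, ha, fun b hb => ?_⟩
    refine sub_eq_zero.1 (IsReduced.eq_zero _ ⟨3, ?_⟩)
    linear_combination (-4 : R) * (ha.2.symm.trans hb.2) + 3 * (a + b) * (ha.1.symm.trans hb.1)
  rcases hp.eq_two_or_odd' with rfl | ⟨k, hk⟩
  · obtain ⟨a, ha⟩ := hF x
    rw [frobenius_def] at ha
    refine ⟨a, ha.symm, hinj ?_⟩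
    rw [frobenius_def, frobenius_def, ← hxz, ← ha]
    ring
  · rcases k with _ | k
    · exact absurd hk (by have := hp.two_le; omega)
    · obtain ⟨a, ha⟩ := hF (z * x ^ k)
      rw [frobenius_def] at ha
      refine ⟨a, hinj ?_, hinj ?_⟩
      · rw [frobenius_def, frobenius_def, ← pow_mul, mul_comm 2 p, pow_mul, ha, hk]
        linear_combination (x ^ (2 * k)) * hxz
      · rw [frobenius_def, frobenius_def, ← pow_mul, mul_comm 3 p, pow_mul, ha, hk, mul_pow,
          show z ^ (2 * (k + 1) + 1) = z * (z ^ 2) ^ (k + 1) by ring, ← hxz]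
        rw [show z ^ 3 = z * z ^ 2 by ring, ← hxz]
        ring

section Line

attribute [local instance] Polynomial.algebra

variable {R : Type u} [CommRing R]

theorem isLocalization_away_C (f : R) : IsLocalization.Away (C f) (Localization.Away f)[X] := by
  have h := Polynomial.isLocalization (Submonoid.powers f) (Localization.Away f)
  rwa [Submonoid.map_powers] at h

theorem exists_span_lifts (hR : HTop.IsSeminormalRing R) {y : Spec (CommRingCat.of R[X]) ⟶ S}
    (q : 𝒮.Q.obj.obj (op (Over.mk y))) :
    Ideal.span {f : R | Nonempty (Lifts 𝒮 q (Localization.Away f)[X])} = ⊤ := by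
  by_contra hne
  obtain ⟨P, hP, hle⟩ := Ideal.exists_le_maximal _ hne
  haveI := hP.isPrime
  obtain ⟨B, _, _, _, _, ⟨eB⟩⟩ := exists_cover_lift 𝒮 q
  haveI := Polynomial.isLocalization P.primeCompl (Localization.AtPrime P)
  obtain ⟨s, hs, ⟨e⟩⟩ := exists_lift_away eB (P.primeCompl.map (C : R →+* R[X])) (Localization.AtPrime P)[X]
    (fun N _ _ _ => by
      haveI : Module.Invertible (Localization.AtPrime P)[X] ((Localization.AtPrime P)[X] ⊗[R[X]] N) := inferInstance
      exact H3CAlg.Traverso.free (Localization.AtPrime P)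
        (H18Subint.sn_localization (M := P.primeCompl) hR) ((Localization.AtPrime P)[X] ⊗[R[X]] N))
  obtain ⟨f, hf, rfl⟩ := Submonoid.mem_map.1 hs
  haveI := isLocalization_away_C f
  refine hf (hle (Ideal.subset_span ⟨res (IsScalarTower.toAlgHom R[X] _ _ |>.comp
    (IsLocalization.algEquiv (Submonoid.powers (C f)) (Localization.Away (C f)) (Localization.Away f)[X]).toAlgHom) e⟩))

theorem isUnit_away (f : R) : IsUnit (algebraMap R[X] (Localization.Away f)[X] (C f)) := by
  haveI := isLocalization_away_C f
  exact IsLocalization.Away.algebraMap_isUnit (C f)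

/-- The map out of a localised polynomial ring. -/
noncomputable def awayHom {D : Type u} [CommRing D] [Algebra R[X] D] (f : R)
    (hu : IsUnit (algebraMap R[X] D (C f))) : (Localization.Away f)[X] →ₐ[R[X]] D :=
  haveI := isLocalization_away_C f
  { IsLocalization.Away.lift (S := (Localization.Away f)[X]) (C f) hu with
    commutes' := fun p => IsLocalization.Away.lift_eq (C f) hu p }

theorem away_algHom_eq {D : Type u} [CommRing D] [Algebra R[X] D] (f : R)
    (a b : (Localization.Away f)[X] →ₐ[R[X]] D) : a = b := by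
  haveI := isLocalization_away_C f
  exact Subsingleton.elim (h := IsLocalization.algHom_subsingleton (Submonoid.powers (C f))) _ _

section Zero

/-- `R` as an algebra over `R[X]` through the zero section. -/
@[implicit_reducible] noncomputable def zeroAlg : Algebra R[X] R := (evalRingHom (0 : R)).toAlgebra

attribute [local instance] zeroAlg

theorem algebraMap_away_apply (f : R) (p : R[X]) :
    algebraMap R[X] (Localization.Away f) p = algebraMap R (Localization.Away f) (p.eval 0) :=
  IsScalarTower.algebraMap_apply R[X] R (Localization.Away f) p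

/-- Evaluation at zero on a localised polynomial ring. -/
noncomputable def evAway (f : R) : (Localization.Away f)[X] →ₐ[R[X]] Localization.Away f :=
  { (evalRingHom (0 : Localization.Away f)) with
    commutes' := fun p => by
      change (p.map (algebraMap R (Localization.Away f))).eval 0 = algebraMap R[X] (Localization.Away f) p
      rw [algebraMap_away_apply, ← coeff_zero_eq_eval_zero, ← coeff_zero_eq_eval_zero, coeff_map] }

/-- The localisation map over the zero section. -/
noncomputable def zAway (f : R) : R →ₐ[R[X]] Localization.Away f :=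
  { algebraMap R (Localization.Away f) with commutes' := fun p => (algebraMap_away_apply f p).symm }

/-- The map between localisations over the zero section. -/
noncomputable def zLift (f h : R) (hu : IsUnit (algebraMap R (Localization.Away h) f)) :
    Localization.Away f →ₐ[R[X]] Localization.Away h :=
  { IsLocalization.Away.lift (S := Localization.Away f) f hu with
    commutes' := fun p => by
      rw [algebraMap_away_apply, algebraMap_away_apply]
      exact IsLocalization.Away.lift_eq f hu _ }

theorem zLift_comp (f h : R) (hu : IsUnit (algebraMap R (Localization.Away h) f)) :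
    (zLift f h hu).comp (zAway f) = zAway h :=
  AlgHom.ext fun r => by
    rw [AlgHom.comp_apply]
    exact @IsLocalization.Away.lift_eq R _ (Localization.Away f) _ _ (Localization.Away h) _ f _ _ hu r

variable {y : Spec (CommRingCat.of R[X]) ⟶ S} {q : 𝒮.Q.obj.obj (op (Over.mk y))}

/-- A lift near `f` can be normalised along the zero section. -/
theorem exists_normalised {f : R} (e : Lifts 𝒮 q (Localization.Away f)[X]) (e0 : Lifts 𝒮 q R) :
    ∃ e' : Lifts 𝒮 q (Localization.Away f)[X], res (evAway f) e' = res (zAway f) e0 := by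
  let c := δ (res (evAway f) e) (res (zAway f) e0)
  have hc : IsUnit (C c) := (isUnit_δ _ _).map C
  refine ⟨shift e (C c) hc, eq_of_δ_eq_one _ _ ?_⟩
  have h := δ_trans (res (evAway f) e) (res (evAway f) (shift e (C c) hc)) (res (zAway f) e0)
  rw [δ_res, δ_shift, show (evAway f) (C c) = c from eval_C] at h
  exact (isUnit_δ (res (evAway f) e) (res (zAway f) e0)).mul_eq_left.1 h.symm

/-- Two lifts near `f` and `g` normalised along the zero section agree over their intersection. -/
theorem eq_of_normalised [IsReduced R] {f g : R} (hk : IsUnit (algebraMap R[X] (Localization.Away (f * g))[X] (C f)))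
    (hl : IsUnit (algebraMap R[X] (Localization.Away (f * g))[X] (C g)))
    (e1 : Lifts 𝒮 q (Localization.Away f)[X]) (e2 : Lifts 𝒮 q (Localization.Away g)[X]) (e0 : Lifts 𝒮 q R)
    (h1 : res (evAway f) e1 = res (zAway f) e0) (h2 : res (evAway g) e2 = res (zAway g) e0) :
    res (awayHom f hk) e1 = res (awayHom g hl) e2 := by
  refine eq_of_δ_eq_one _ _ ?_
  set w := δ (res (awayHom f hk) e1) (res (awayHom g hl) e2)
  have huf : IsUnit (algebraMap R (Localization.Away (f * g)) f) :=
    isUnit_of_mul_isUnit_left (y := algebraMap R (Localization.Away (f * g)) g)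
      (by rw [← map_mul]; exact IsLocalization.Away.algebraMap_isUnit (f * g))
  have hug : IsUnit (algebraMap R (Localization.Away (f * g)) g) :=
    isUnit_of_mul_isUnit_right (x := algebraMap R (Localization.Away (f * g)) f)
      (by rw [← map_mul]; exact IsLocalization.Away.algebraMap_isUnit (f * g))
  have hw : evAway (f * g) w = 1 := by
    rw [← δ_res, res_comp, res_comp, away_algHom_eq f ((evAway (f * g)).comp (awayHom f hk))
        ((zLift f (f * g) huf).comp (evAway f)),
      away_algHom_eq g ((evAway (f * g)).comp (awayHom g hl)) ((zLift g (f * g) hug).comp (evAway g)),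
      ← res_comp, ← res_comp, h1, h2, res_comp, res_comp, zLift_comp, zLift_comp]
    exact δ_self _
  haveI : IsReduced (Localization.Away (f * g)) :=
    isReduced_localizationPreserves (Submonoid.powers (f * g)) (Localization.Away (f * g)) inferInstance
  have hu := Polynomial.coeff_isUnit_isNilpotent_of_isUnit (isUnit_δ (res (awayHom f hk) e1) (res (awayHom g hl) e2))
  rw [eq_C_of_natDegree_eq_zero (p := w) ?_]
  · rw [show w.coeff 0 = evAway (f * g) w from coeff_zero_eq_eval_zero w, hw, map_one]
  · rw [← Nat.le_zero, natDegree_le_iff_coeff_eq_zero]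
    exact fun n hn => (hu.2 n (by omega)).eq_zero

/-- A section over the affine line of a reduced seminormal ring lifts if it lifts along a section. -/
theorem exists_lift_polynomial_reduced [IsReduced R] (hR : HTop.IsSeminormalRing R)
    (h0 : ∃ x, 𝒮.π.hom.app (op (Over.mk (Spec.map (CommRingCat.ofHom (evalRingHom (0 : R))) ≫ y))) x =
      𝒮.Q.obj.map (hom (evalRingHom (0 : R)) rfl).op q) :
    Nonempty (Lifts 𝒮 q R[X]) := by
  obtain ⟨e0⟩ : Nonempty (Lifts 𝒮 q R) := nonempty_lifts_of_exists h0
  let κ := {f : R // Nonempty (Lifts 𝒮 q (Localization.Away f)[X])}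
  let inc : ∀ k : κ, R[X] →ₐ[R[X]] (Localization.Away k.1)[X] := fun k => Algebra.ofId _ _
  have hnorm : ∀ k : κ, ∃ e : Lifts 𝒮 q (Localization.Away k.1)[X], res (evAway k.1) e = res (zAway k.1) e0 :=
    fun k => exists_normalised k.2.some e0
  choose e he using hnorm
  have hcov : IsCover inc :=
    { surj := fun p => by
        obtain ⟨f, hf, hfp⟩ : ∃ f : R, Nonempty (Lifts 𝒮 q (Localization.Away f)[X]) ∧ C f ∉ p.asIdeal := by
          by_contra! hall
          have : Ideal.span {f : R | Nonempty (Lifts 𝒮 q (Localization.Away f)[X])} ≤ p.asIdeal.comap C :=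
            Ideal.span_le.2 fun f hf => hall f hf
          rw [exists_span_lifts hR q, top_le_iff, Ideal.comap_eq_top_iff] at this
          exact p.isPrime.ne_top this
        haveI := isLocalization_away_C f
        have := (PrimeSpectrum.localization_away_comap_range (Localization.Away f)[X] (C f)).ge (show p ∈ _ from hfp)
        obtain ⟨p', hp'⟩ := this
        exact ⟨⟨f, hf⟩, p', hp'⟩
      flat := fun k => by
        haveI := isLocalization_away_C k.1
        exact RingHom.flat_algebraMap_iff.2 (IsLocalization.flat (Localization.Away k.1)[X] (Submonoid.powers (C k.1)))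
      fp := fun k => by
        haveI := isLocalization_away_C k.1
        exact RingHom.finitePresentation_algebraMap.2 (IsLocalization.Away.finitePresentation (C k.1)) }
  obtain ⟨e', -⟩ := exists_descent hcov e fun k l D _ _ a b _ => by
    have hh := isUnit_away (k.1 * l.1)
    rw [map_mul, map_mul] at hh
    have hk := isUnit_of_mul_isUnit_left hh
    have hl := isUnit_of_mul_isUnit_right hh
    have hD : IsUnit (algebraMap R[X] D (C (k.1 * l.1))) := by
      rw [map_mul, map_mul, ← a.commutes, ← b.commutes]
      exact ((isUnit_away k.1).map a).mul ((isUnit_away l.1).map b)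
    rw [away_algHom_eq k.1 a ((awayHom _ hD).comp (awayHom k.1 hk)),
      away_algHom_eq l.1 b ((awayHom _ hD).comp (awayHom l.1 hl)), ← res_comp, ← res_comp,
      eq_of_normalised hk hl (e k) (e l) e0 (he k) (he l)]
  exact ⟨e'⟩

end Zero

/-- A section over the affine line lifts if it lifts along the zero section and the reduced ring is seminormal. -/
theorem exists_lift_polynomial (hR : HTop.IsSeminormalRing (R ⧸ nilradical R))
    {y : Spec (CommRingCat.of R[X]) ⟶ S} (q : 𝒮.Q.obj.obj (op (Over.mk y)))
    (h0 : ∃ x, 𝒮.π.hom.app (op (Over.mk (Spec.map (CommRingCat.ofHom (evalRingHom (0 : R))) ≫ y))) x =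
      𝒮.Q.obj.map (hom (evalRingHom (0 : R)) rfl).op q) :
    ∃ x, 𝒮.π.hom.app (op (Over.mk y)) x = q := by
  haveI : IsReduced (R ⧸ nilradical R) :=
    (Ideal.isRadical_iff_quotient_reduced _).1 (Ideal.radical_isRadical _)
  let q' : 𝒮.Q.obj.obj (op (alg y (R ⧸ nilradical R)[X])) := 𝒮.Q.obj.map (algHom y (R ⧸ nilradical R)[X]).op q
  obtain ⟨x0, hx0⟩ := h0
  have h0' : ∃ x, 𝒮.π.hom.app (op (Over.mk (Spec.map (CommRingCat.ofHom (evalRingHom (0 : R ⧸ nilradical R))) ≫
      (Spec.map (CommRingCat.ofHom (algebraMap R[X] (R ⧸ nilradical R)[X])) ≫ y)))) x =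
      𝒮.Q.obj.map (hom (evalRingHom (0 : R ⧸ nilradical R)) rfl).op q' := by
    have e : Spec.map (CommRingCat.ofHom (Ideal.Quotient.mk (nilradical R))) ≫
        (Spec.map (CommRingCat.ofHom (evalRingHom (0 : R))) ≫ y) =
        Spec.map (CommRingCat.ofHom (evalRingHom (0 : R ⧸ nilradical R))) ≫
          (Spec.map (CommRingCat.ofHom (algebraMap R[X] (R ⧸ nilradical R)[X])) ≫ y) := by
      rw [← Category.assoc, ← Category.assoc (Spec.map _), ← Spec.map_comp, ← Spec.map_comp,
        ← CommRingCat.ofHom_comp, ← CommRingCat.ofHom_comp]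
      congr 3
      refine RingHom.ext fun p => ?_
      change Ideal.Quotient.mk (nilradical R) (p.eval 0) = (p.map (Ideal.Quotient.mk (nilradical R))).eval 0
      rw [← coeff_zero_eq_eval_zero, ← coeff_zero_eq_eval_zero, coeff_map]
    have hm : hom (Ideal.Quotient.mk (nilradical R)) e ≫ hom (evalRingHom (0 : R)) rfl =
        hom (evalRingHom (0 : R ⧸ nilradical R)) rfl ≫ algHom y (R ⧸ nilradical R)[X] := by
      rw [DualPts.hom_comp, DualPts.hom_comp]
      congr 1
      refine RingHom.ext fun p => ?_
      change Ideal.Quotient.mk (nilradical R) (p.eval 0) = (p.map (Ideal.Quotient.mk (nilradical R))).eval 0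
      rw [← coeff_zero_eq_eval_zero, ← coeff_zero_eq_eval_zero, coeff_map]
    refine ⟨𝒮.I.obj.map (hom (Ideal.Quotient.mk (nilradical R)) e).op x0, ?_⟩
    refine (ConcreteCategory.congr_hom (𝒮.π.hom.naturality _) x0).trans ?_
    change 𝒮.Q.obj.map _ (𝒮.π.hom.app _ x0) = _
    rw [hx0, ← ConcreteCategory.comp_apply, ← ConcreteCategory.comp_apply, ← Functor.map_comp, ← Functor.map_comp,
      ← op_comp, ← op_comp, hm]
  obtain ⟨e'⟩ := exists_lift_polynomial_reduced (q := q') hR h0'
  obtain ⟨x', hx'⟩ := exists_of_lifts e'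
  obtain ⟨B, _, _, _, _, ⟨eB⟩⟩ := exists_cover_lift 𝒮 q
  have hsurj : Function.Surjective (algebraMap R[X] (R ⧸ nilradical R)[X]) :=
    Polynomial.map_surjective _ Ideal.Quotient.mk_surjective
  obtain ⟨m, hm, hu⟩ := exists_lift_of_nil eB (R ⧸ nilradical R)[X] hsurj (fun a ha => by
    refine Polynomial.isNilpotent_iff.2 fun n => ?_
    rw [← mem_nilradical, ← Ideal.Quotient.eq_zero_iff_mem]
    have := congrArg (fun p => p.coeff n) ha
    simpa [coeff_map] using this) ⟨x', hx'⟩
  obtain ⟨e⟩ := exists_lift_base eB hm hu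
  exact exists_of_lifts e

end Line

end Groth.Agent.H23Ga.GmLift
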