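import Groth.Agent.H23Ga.GmLine
import Groth.Agent.H13Desc.BigExact

/-!
# First cohomology of the direct image of the multiplicative group
-/

set_option autoImplicit false
set_option backward.isDefEq.respectTransparency false
set_option linter.style.haveILetI false

universe u

open CategoryTheory CategoryTheory.Limits AlgebraicGeometry Opposite TensorProduct

namespace Groth.Agent.H23Ga.PushH1

open GmLift

/-- Sections over a ring whose invertible modules are free lift. -/
theorem exists_lift_of_free {S : Scheme.{u}} {A : Type u} [CommRing A] {y : Spec (CommRingCat.of A) ⟶ S}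
    (𝒮 : Seq S) (q : 𝒮.Q.obj.obj (op (Over.mk y)))
    (hfree : ∀ (N : Type u) [AddCommGroup N] [Module A N] [Module.Invertible A N], Module.Free A N) :
    ∃ x, 𝒮.π.hom.app (op (Over.mk y)) x = q := by
  obtain ⟨B, _, _, _, _, ⟨eB⟩⟩ := exists_cover_lift 𝒮 q
  haveI : IsLocalization (⊥ : Submonoid A) A := IsLocalization.self bot_le
  obtain ⟨s, hs, ⟨e⟩⟩ := exists_lift_away eB ⊥ A fun N _ _ _ => by
    haveI := hfree N
    infer_instance
  rw [Submonoid.mem_bot] at hs
  subst hs
  exact exists_of_lifts (res (IsLocalization.atUnit A (Localization.Away (1 : A)) 1 isUnit_one).symm.toAlgHom e)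

/-- The first cohomology of a direct image of the multiplicative group vanishes if sections over the source lift. -/
theorem subsingleton_H_one_push {T S : Scheme.{u}} (f : T ⟶ S)
    (hlift : ∀ (𝒮 : Seq T) (P : Over T), Nonempty (IsTerminal P) → ∀ q : 𝒮.Q.obj.obj (op P),
      ∃ x, 𝒮.π.hom.app (op P) x = q) :
    Subsingleton (BigSite.H Kf S ((BigSite.pushBig Kf f AddCommGrpCat.{u + 1}).obj (CGrpSh2.Gm Kf T)) 1) := by
  let G := BigSite.pushBig Kf f AddCommGrpCat.{u + 1}
  let adj := BigSite.bigAdj Kf f AddCommGrpCat.{u + 1}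
  haveI : G.IsRightAdjoint := ⟨_, ⟨adj⟩⟩
  haveI := (H13Desc.BigExact.pullBig_exact Kf f).1
  let M := CGrpSh2.Gm Kf T
  let j := Injective.ι M
  have hS : (ShortComplex.mk j (cokernel.π j) (cokernel.condition j)).ShortExact :=
    { exact := ShortComplex.exact_of_g_is_cokernel _ (cokernelIsCokernel j) }
  let 𝒮 : Seq T := ⟨Injective.under M, cokernel j, j, cokernel.π j, cokernel.condition j, hS⟩
  let j' := G.map j
  let π' := G.map (cokernel.π j)
  have w : j' ≫ π' = 0 := by rw [← G.map_comp, cokernel.condition, Functor.map_zero]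
  haveI : Mono j' := G.map_mono j
  haveI : Injective (G.obj (Injective.under M)) := Injective.injective_of_adjoint adj _
  have hex : (ShortComplex.mk j' π' w).Exact := by
    haveI : PreservesFiniteLimits G := inferInstance
    exact ShortComplex.exact_of_f_is_kernel _ (KernelFork.mapIsLimit _ hS.fIsKernel G)
  haveI : Mono (cokernel.desc j' π' w) := hex.mono_cokernelDesc
  let desc := cokernel.desc j' π' w
  have hS' : (ShortComplex.mk j' (cokernel.π j') (cokernel.condition j')).ShortExact :=
    { exact := ShortComplex.exact_of_g_is_cokernel _ (cokernelIsCokernel j') }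
  refine subsingleton_of_forall_eq 0 fun z => ?_
  obtain ⟨x, hx⟩ := Abelian.Ext.covariant_sequence_exact₁ _ hS' z (Abelian.Ext.eq_zero_of_injective _) (zero_add 1)
  let hT : IsTerminal (Over.mk (𝟙 S)) := Over.mkIdTerminal
  obtain ⟨t, ht⟩ := hlift 𝒮 ((Over.pullback f).obj (Over.mk (𝟙 S))) ⟨hT.isTerminalObj (Over.pullback f) _⟩
    (desc.hom.app (op (Over.mk (𝟙 S))) (Sheaf.H.equiv₀ _ hT x))
  let y := (Sheaf.H.equiv₀ (G.obj (Injective.under M)) hT).symm t
  have hy : Sheaf.H.map (cokernel.π j') 0 y = x := by
    refine (Sheaf.H.equiv₀ _ hT).injective ?_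
    rw [← Sheaf.H.equiv₀_naturality, AddEquiv.apply_symm_apply]
    refine (AddCommGrpCat.mono_iff_injective (desc.hom.app (op (Over.mk (𝟙 S))))).1 ?_ ?_
    · haveI : Mono desc.hom := inferInstanceAs (Mono ((sheafToPresheaf _ _).map desc))
      infer_instance
    · refine Eq.trans ?_ ht
      rw [← ConcreteCategory.comp_apply, ← NatTrans.comp_app,
        show (cokernel.π j').hom ≫ desc.hom = π'.hom from
          congrArg (fun φ : G.obj (Injective.under M) ⟶ G.obj (cokernel j) => φ.hom) (cokernel.π_desc j' π' w)]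
      rfl
  rw [← hx, ← hy, Sheaf.H.map_apply, Abelian.Ext.comp_assoc_of_second_deg_zero,
    show (Abelian.Ext.mk₀ (cokernel.π j')).comp hS'.extClass (zero_add 1) = 0 from hS'.comp_extClass,
    Abelian.Ext.comp_zero]

end Groth.Agent.H23Ga.PushH1
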