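import Groth.Agent.H23Ga.GmLift
import Mathlib.RingTheory.PicardGroup
import Mathlib.RingTheory.Localization.BaseChange

/-!
# Elementary descent for torsors under the multiplicative group on affine objects

For a lift over a faithfully flat algebra `B`, the unit `u ∈ B ⊗ B` comparing its two pull-backs is a cocycle;
the elements `m` with `1 ⊗ m = (m ⊗ 1) u` generate the unit ideal, and a lift over the base corresponds to
one of them being a unit.
-/

set_option autoImplicit false
set_option backward.isDefEq.respectTransparency false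
set_option linter.style.haveILetI false

universe u

open CategoryTheory AlgebraicGeometry Opposite TensorProduct

namespace Groth.Agent.H23Ga.GmLift

variable {S : Scheme.{u}} {A : Type u} [CommRing A] {y : Spec (CommRingCat.of A) ⟶ S}

section Pure

variable (B : Type u) [CommRing B] [Algebra A B]

/-- The first inclusion. -/
noncomputable abbrev inL : B →ₐ[A] B ⊗[A] B := Algebra.TensorProduct.includeLeft

/-- The second inclusion. -/
noncomputable abbrev inR : B →ₐ[A] B ⊗[A] B := Algebra.TensorProduct.includeRight

variable {B}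

/-- The twisted difference of the two inclusions. -/
noncomputable def twist (u : B ⊗[A] B) : B →ₗ[A] B ⊗[A] B :=
  (inR B).toLinearMap - (LinearMap.mulRight A u).comp (inL B).toLinearMap

theorem mem_ker_twist (u : B ⊗[A] B) (m : B) :
    m ∈ LinearMap.ker (twist u) ↔ inR B m = inL B m * u := by
  rw [LinearMap.mem_ker]
  change inR B m - inL B m * u = 0 ↔ _
  exact sub_eq_zero

/-- For a cocycle the twisted invariants generate the unit ideal. -/
theorem span_ker_twist_eq_top [Module.Flat A B] (u : B ⊗[A] B)
    (hμ : Algebra.TensorProduct.lmul' A u = 1)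
    (hcoc : Algebra.TensorProduct.map (AlgHom.id A B) (inR B) u =
      Algebra.TensorProduct.map (AlgHom.id A B) (inL B) u *
        (Algebra.TensorProduct.includeRight : B ⊗[A] B →ₐ[A] B ⊗[A] (B ⊗[A] B)) u) :
    Ideal.span (LinearMap.ker (twist u) : Set B) = ⊤ := by
  have hlin : (twist u).lTensor B =
      (Algebra.TensorProduct.map (AlgHom.id A B) (inR B)).toLinearMap -
        (LinearMap.mulRight A ((Algebra.TensorProduct.includeRight : B ⊗[A] B →ₐ[A] B ⊗[A] (B ⊗[A] B)) u)).comp
          (Algebra.TensorProduct.map (AlgHom.id A B) (inL B)).toLinearMap := by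
    refine TensorProduct.ext' fun b c => ?_
    change b ⊗ₜ[A] (inR B c - inL B c * u) =
      b ⊗ₜ[A] inR B c - (b ⊗ₜ[A] inL B c) * ((1 : B) ⊗ₜ[A] u)
    rw [Algebra.TensorProduct.tmul_mul_tmul, mul_one, tmul_sub]
  have hz : (twist u).lTensor B u = 0 := by
    rw [hlin]
    change Algebra.TensorProduct.map (AlgHom.id A B) (inR B) u -
      Algebra.TensorProduct.map (AlgHom.id A B) (inL B) u * _ = 0
    rw [hcoc, sub_self]
  obtain ⟨z, hz'⟩ := (Module.Flat.lTensor_exact B (LinearMap.exact_subtype_ker_map (twist u)) u).1 hz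
  suffices key : ∀ z : B ⊗[A] LinearMap.ker (twist u),
      Algebra.TensorProduct.lmul' A ((LinearMap.ker (twist u)).subtype.lTensor B z) ∈
        Ideal.span (LinearMap.ker (twist u) : Set B) from
    (Ideal.eq_top_iff_one _).2 (by have := key z; rwa [hz', hμ] at this)
  intro z
  induction z using TensorProduct.induction_on with
  | zero => simp
  | tmul b m =>
    change b * (m : B) ∈ _
    exact Ideal.mul_mem_left _ _ (Ideal.subset_span m.2)
  | add x y hx hy => rw [map_add, map_add]; exact add_mem hx hy

/-- Elements with equal images under both inclusions come from the base. -/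
theorem exists_algebraMap_of_eq [Module.FaithfullyFlat A B] (b : B) (h : inR (A := A) B b = inL (A := A) B b) :
    ∃ a : A, algebraMap A B a = b := by
  let N := LinearMap.range (Algebra.linearMap A B)
  have h1 : (1 : B) ⊗ₜ[A] N.mkQ b = 0 := by
    have h2 : N.mkQ.lTensor B (inR B b) = N.mkQ.lTensor B (inL B b) := congrArg _ h
    refine h2.trans ?_
    change b ⊗ₜ[A] N.mkQ 1 = 0
    rw [show N.mkQ 1 = 0 from (Submodule.Quotient.mk_eq_zero N).2 ⟨1, map_one (algebraMap A B)⟩, tmul_zero]
  exact (Submodule.Quotient.mk_eq_zero N).1 ((Module.FaithfullyFlat.one_tmul_eq_zero_iff A (B ⧸ N) (A := B) _).1 h1)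

end Pure

variable {𝒮 : Seq S} {q : 𝒮.Q.obj.obj (op (Over.mk y))} {B : Type u} [CommRing B] [Algebra A B]
  (eB : Lifts 𝒮 q B)

/-- The unit comparing the two pull-backs of a lift. -/
noncomputable def cu : B ⊗[A] B := δ (res (inL B) eB) (res (inR B) eB)

/-- Its inverse. -/
noncomputable def cv : B ⊗[A] B := δ (res (inR B) eB) (res (inL B) eB)

/-- Elements transforming like the lift. -/
def InM (m : B) : Prop := inR B m = inL B m * cu eB

/-- Elements transforming inversely to the lift. -/
def InM' (m : B) : Prop := inR B m = inL B m * cv eB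

variable {eB}

theorem res_productMap_left {D : Type u} [CommRing D] [Algebra A D] (a b : B →ₐ[A] D) :
    res (Algebra.TensorProduct.productMap a b) (res (inL B) eB) = res a eB := by
  rw [res_comp, Algebra.TensorProduct.productMap_left]

theorem res_productMap_right {D : Type u} [CommRing D] [Algebra A D] (a b : B →ₐ[A] D) :
    res (Algebra.TensorProduct.productMap a b) (res (inR B) eB) = res b eB := by
  rw [res_comp, Algebra.TensorProduct.productMap_right]

theorem InM.apply {m : B} (hm : InM eB m) {D : Type u} [CommRing D] [Algebra A D] (a b : B →ₐ[A] D) :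
    b m = a m * δ (res a eB) (res b eB) := by
  have h := congrArg (Algebra.TensorProduct.productMap a b) hm
  rw [map_mul, cu, ← δ_res, res_productMap_left, res_productMap_right] at h
  simpa using h

theorem InM'.apply {m : B} (hm : InM' eB m) {D : Type u} [CommRing D] [Algebra A D] (a b : B →ₐ[A] D) :
    b m = a m * δ (res b eB) (res a eB) := by
  have h := congrArg (Algebra.TensorProduct.productMap a b) hm
  rw [map_mul, cv, ← δ_res, res_productMap_left, res_productMap_right] at h
  simpa using h

variable (eB)

/-- The base elements that are products. -/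
def prods : Set A := { g | ∃ m m', InM eB m ∧ InM' eB m' ∧ algebraMap A B g = m * m' }

theorem span_InM_eq_top [Module.Flat A B] : Ideal.span { m : B | InM eB m } = ⊤ := by
  rw [show { m : B | InM eB m } = (LinearMap.ker (twist (cu eB)) : Set B) from
    Set.ext fun m => (mem_ker_twist (cu eB) m).symm]
  refine span_ker_twist_eq_top _ ?_ ?_
  · rw [cu, ← δ_res, res_comp, res_comp]
    rw [show (Algebra.TensorProduct.lmul' A).comp (inL B) = AlgHom.id A B from AlgHom.ext fun x => by simp,
      show (Algebra.TensorProduct.lmul' A).comp (inR B) = AlgHom.id A B from AlgHom.ext fun x => by simp]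
    exact δ_self _
  · rw [cu, ← δ_res, ← δ_res, ← δ_res, res_comp, res_comp, res_comp, res_comp, res_comp, res_comp]
    rw [show (Algebra.TensorProduct.map (AlgHom.id A B) (inR B)).comp (inL B) =
        (Algebra.TensorProduct.map (AlgHom.id A B) (inL B)).comp (inL B) from
      AlgHom.ext fun x => by simp [Algebra.TensorProduct.one_def],
      show (Algebra.TensorProduct.map (AlgHom.id A B) (inR B)).comp (inR B) =
        (Algebra.TensorProduct.includeRight : B ⊗[A] B →ₐ[A] B ⊗[A] (B ⊗[A] B)).comp (inR B) from
      AlgHom.ext fun x => by simp,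
      show (Algebra.TensorProduct.map (AlgHom.id A B) (inL B)).comp (inR B) =
        (Algebra.TensorProduct.includeRight : B ⊗[A] B →ₐ[A] B ⊗[A] (B ⊗[A] B)).comp (inL B) from
      AlgHom.ext fun x => by simp]
    exact δ_trans _ _ _

theorem span_InM'_eq_top [Module.Flat A B] : Ideal.span { m : B | InM' eB m } = ⊤ := by
  rw [show { m : B | InM' eB m } = (LinearMap.ker (twist (cv eB)) : Set B) from
    Set.ext fun m => (mem_ker_twist (cv eB) m).symm]
  refine span_ker_twist_eq_top _ ?_ ?_
  · rw [cv, ← δ_res, res_comp, res_comp]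
    rw [show (Algebra.TensorProduct.lmul' A).comp (inL B) = AlgHom.id A B from AlgHom.ext fun x => by simp,
      show (Algebra.TensorProduct.lmul' A).comp (inR B) = AlgHom.id A B from AlgHom.ext fun x => by simp]
    exact δ_self _
  · rw [cv, ← δ_res, ← δ_res, ← δ_res, res_comp, res_comp, res_comp, res_comp, res_comp, res_comp]
    rw [show (Algebra.TensorProduct.map (AlgHom.id A B) (inR B)).comp (inL B) =
        (Algebra.TensorProduct.map (AlgHom.id A B) (inL B)).comp (inL B) from
      AlgHom.ext fun x => by simp [Algebra.TensorProduct.one_def],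
      show (Algebra.TensorProduct.map (AlgHom.id A B) (inR B)).comp (inR B) =
        (Algebra.TensorProduct.includeRight : B ⊗[A] B →ₐ[A] B ⊗[A] (B ⊗[A] B)).comp (inR B) from
      AlgHom.ext fun x => by simp,
      show (Algebra.TensorProduct.map (AlgHom.id A B) (inL B)).comp (inR B) =
        (Algebra.TensorProduct.includeRight : B ⊗[A] B →ₐ[A] B ⊗[A] (B ⊗[A] B)).comp (inL B) from
      AlgHom.ext fun x => by simp]
    rw [mul_comm]
    exact δ_trans _ _ _

theorem exists_prod [Module.FaithfullyFlat A B] {m m' : B} (hm : InM eB m) (hm' : InM' eB m') :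
    ∃ g : A, algebraMap A B g = m * m' := by
  refine exists_algebraMap_of_eq _ ?_
  rw [map_mul, map_mul, show inR B m = inL B m * cu eB from hm, show inR B m' = inL B m' * cv eB from hm',
    mul_mul_mul_comm, show cu eB * cv eB = 1 from δ_swap _ _, mul_one]

theorem span_prods [Module.FaithfullyFlat A B] : Ideal.span (prods eB) = ⊤ := by
  have h : (Ideal.span (prods eB)).map (algebraMap A B) = ⊤ := by
    have htop := congrArg₂ (· * ·) (span_InM_eq_top eB) (span_InM'_eq_top eB)
    simp only [Ideal.span_mul_span', Ideal.top_mul] at htop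
    rw [eq_top_iff, ← htop, Ideal.span_le]
    rintro _ ⟨m, hm, m', hm', rfl⟩
    obtain ⟨g, hg⟩ := exists_prod eB hm hm'
    change m * m' ∈ _
    rw [← hg]
    exact Ideal.mem_map_of_mem _ (Ideal.subset_span ⟨m, m', hm, hm', hg⟩)
  rw [← Ideal.comap_map_eq_self_of_faithfullyFlat (B := B) (Ideal.span (prods eB)), h, Ideal.comap_top]

variable {eB}

/-- A unit transforming like the lift, on a cover, yields a lift. -/
theorem exists_lift_of_isUnit {C B' : Type u} [CommRing C] [Algebra A C] [CommRing B'] [Algebra A B']
    (f : C →ₐ[A] B') (hf : IsCover (fun _ : PUnit.{u + 1} => f)) (j : B →ₐ[A] B') {m : B} (hm : InM eB m)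
    (hu : IsUnit (j m)) : Nonempty (Lifts 𝒮 q C) := by
  obtain ⟨c, hc⟩ := hu.exists_right_inv
  have hcu : IsUnit c := IsUnit.of_mul_eq_one_right _ hc
  let e' : Lifts 𝒮 q B' := shift (res j eB) c hcu
  obtain ⟨e₀, -⟩ := exists_descent hf (fun _ => e') fun _ _ D _ _ a b hab => by
    refine eq_of_δ_eq_one _ _ ?_
    have h1 : δ e' (res j eB) = j m := by
      refine hcu.mul_left_cancel ?_
      rw [mul_comm c (j m), hc]
      have := δ_swap (res j eB) e'
      rwa [δ_shift] at this
    have h2 : δ (res j eB) e' = c := δ_shift _ _ _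
    rw [δ_trans (res a e') (res a (res j eB)) (res b e'), δ_trans (res a (res j eB)) (res b (res j eB)) (res b e'),
      δ_res, δ_res, h1, h2, res_comp, res_comp, ← mul_assoc,
      show a (j m) * δ (res (a.comp j) eB) (res (b.comp j) eB) = b (j m) from (hm.apply (a.comp j) (b.comp j)).symm,
      ← map_mul, hc, map_one]
  exact ⟨e₀⟩

variable (eB)

/-- The base change of a faithfully flat finitely presented algebra covers. -/
theorem isCover_baseChange [Module.FaithfullyFlat A B] [Algebra.FinitePresentation A B] (C : Type u) [CommRing C]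
    [Algebra A C] :
    IsCover (fun _ : PUnit.{u + 1} => (Algebra.TensorProduct.includeLeft : C →ₐ[A] C ⊗[A] B)) where
  surj p := ⟨PUnit.unit, PrimeSpectrum.comap_surjective_of_faithfullyFlat (A := C) (B := C ⊗[A] B) p⟩
  flat _ := RingHom.flat_algebraMap_iff.2 (inferInstanceAs (Module.Flat C (C ⊗[A] B)))
  fp _ := RingHom.finitePresentation_algebraMap.2 (inferInstanceAs (Algebra.FinitePresentation C (C ⊗[A] B)))

/-- A lift exists where some product is invertible. -/
theorem exists_lift_of_isUnit_prod [Module.FaithfullyFlat A B] [Algebra.FinitePresentation A B] (C : Type u)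
    [CommRing C] [Algebra A C] {g : A} (hg : g ∈ prods eB) (hu : IsUnit (algebraMap A C g)) :
    Nonempty (Lifts 𝒮 q C) := by
  obtain ⟨m, m', hm, -, hmm⟩ := hg
  refine exists_lift_of_isUnit Algebra.TensorProduct.includeLeft (isCover_baseChange C)
    Algebra.TensorProduct.includeRight hm (isUnit_of_mul_isUnit_left
      (y := (Algebra.TensorProduct.includeRight : B →ₐ[A] C ⊗[A] B) m') ?_)
  rw [← map_mul, ← hmm, AlgHom.commutes]
  simpa using hu.map (Algebra.TensorProduct.includeLeft : C →ₐ[A] C ⊗[A] B)

/-- Lifting through a nil thickening. -/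
theorem exists_lift_of_nil [Module.FaithfullyFlat A B] [Algebra.FinitePresentation A B] (A' : Type u)
    [CommRing A'] [Algebra A A'] (hsurj : Function.Surjective (algebraMap A A'))
    (hnil : ∀ a, algebraMap A A' a = 0 → IsNilpotent a) (e' : Lifts 𝒮 q A') :
    ∃ m : B, InM eB m ∧ IsUnit m := by
  let B' := A' ⊗[A] B
  let fL : A' →ₐ[A] B' := Algebra.TensorProduct.includeLeft
  let j : B →ₐ[A] B' := Algebra.TensorProduct.includeRight
  let v := δ (res fL e') (res j eB)
  let v' := δ (res j eB) (res fL e')
  have hvv : v * v' = 1 := δ_swap _ _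
  haveI : Module.FaithfullyFlat A' B' := inferInstanceAs (Module.FaithfullyFlat A' (A' ⊗[A] B))
  let a : B' →ₐ[A] B' ⊗[A'] B' := (inL (A := A') B').restrictScalars A
  let b : B' →ₐ[A] B' ⊗[A'] B' := (inR (A := A') B').restrictScalars A
  have hab : a.comp fL = b.comp fL := AlgHom.ext fun x =>
    ((inL (A := A') B').commutes x).trans ((inR (A := A') B').commutes x).symm
  have hv : b v = a v * δ (res (a.comp j) eB) (res (b.comp j) eB) := by
    rw [← δ_res, ← δ_res, res_comp, res_comp, res_comp, res_comp, ← hab, δ_trans]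
  have hv' : b v' = a v' * δ (res (b.comp j) eB) (res (a.comp j) eB) := by
    rw [← δ_res, ← δ_res, res_comp, res_comp, res_comp, res_comp, ← hab, mul_comm, δ_trans]
  have inv : ∀ m : B, InM eB m → ∃ x : A', algebraMap A' B' x = v' * j m := fun m hm => by
    refine exists_algebraMap_of_eq _ ?_
    change b (v' * j m) = a (v' * j m)
    rw [map_mul, map_mul, hv', show b (j m) = _ from hm.apply (a.comp j) (b.comp j), mul_mul_mul_comm,
      δ_swap, mul_one]
    rfl
  have inv' : ∀ m : B, InM' eB m → ∃ x : A', algebraMap A' B' x = v * j m := fun m hm => by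
    refine exists_algebraMap_of_eq _ ?_
    change b (v * j m) = a (v * j m)
    rw [map_mul, map_mul, hv, show b (j m) = _ from hm.apply (a.comp j) (b.comp j), mul_mul_mul_comm,
      δ_swap, mul_one]
    rfl
  have hcomm : ∀ x : A, j (algebraMap A B x) = algebraMap A' B' (algebraMap A A' x) := fun x => by
    rw [AlgHom.commutes, IsScalarTower.algebraMap_apply A A' B']
  have hone : (1 : A) ∈ Ideal.span (prods eB) := by rw [span_prods eB]; trivial
  obtain ⟨c, hc, hsum⟩ := (Submodule.mem_span_set (R := A) (M := A)).1 hone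
  have hex : ∀ g ∈ c.support, ∃ m, InM eB m ∧ j m = v * algebraMap A' B' (algebraMap A A' g) := fun g hg => by
    obtain ⟨m, m', hm, hm', hmm⟩ := hc hg
    obtain ⟨x', hx'⟩ := inv' m' hm'
    obtain ⟨t, rfl⟩ := hsurj x'
    refine ⟨t • m, ?_, ?_⟩
    · exact (mem_ker_twist (cu eB) _).1 (Submodule.smul_mem _ t ((mem_ker_twist (cu eB) m).2 hm))
    · rw [map_smul, Algebra.smul_def, IsScalarTower.algebraMap_apply A A' B', hx', ← hcomm, hmm, map_mul]
      ring
  choose! mf hmf hjm using hex
  let m : B := c.sum fun g w => w • mf g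
  have hm : InM eB m := (mem_ker_twist (cu eB) m).1
    (Submodule.sum_mem _ fun g hg => Submodule.smul_mem _ _ ((mem_ker_twist (cu eB) _).2 (hmf g hg)))
  refine ⟨m, hm, ?_⟩
  have hjv : j m = v := by
    rw [map_finsuppSum]
    calc (c.sum fun g w => j (w • mf g)) = c.sum fun g w => v * algebraMap A' B' (algebraMap A A' (w • g)) := by
          refine Finsupp.sum_congr fun g hg => ?_
          rw [map_smul, hjm g hg, Algebra.smul_def, smul_eq_mul, map_mul, map_mul,
            IsScalarTower.algebraMap_apply A A' B']
          ring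
      _ = v * algebraMap A' B' (algebraMap A A' (c.sum fun g w => w • g)) := by
          rw [map_finsuppSum, map_finsuppSum, Finsupp.mul_sum]
      _ = v := by rw [hsum, map_one, map_one, mul_one]
  obtain ⟨z, hz⟩ : ∃ z, j z = v' := Algebra.TensorProduct.includeRight_surjective B hsurj v'
  have hker : ∀ x : B, j x = 0 → IsNilpotent x := fun x hx => by
    rw [← mem_nilradical, nilradical_eq_sInf, Ideal.mem_sInf]
    intro P (hP : P.IsPrime)
    let φ : A →ₐ[A] B ⧸ P := Algebra.ofId A _
    let ψ : A' →ₐ[A] B ⧸ P :=
      { (RingHom.liftOfSurjective (algebraMap A A') hsurj ⟨algebraMap A (B ⧸ P), fun a ha => by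
          exact ((hnil a ha).map (algebraMap A (B ⧸ P))).eq_zero⟩) with
        commutes' := fun a => RingHom.liftOfRightInverse_comp_apply _ _ _ _ a }
    have h := congrArg (Algebra.TensorProduct.productMap ψ (Ideal.Quotient.mkₐ A P)) hx
    rw [map_zero] at h
    refine Ideal.Quotient.eq_zero_iff_mem.1 ?_
    exact (show Algebra.TensorProduct.productMap ψ (Ideal.Quotient.mkₐ A P)
      (Algebra.TensorProduct.includeRight x) = Ideal.Quotient.mk P x by simp [Algebra.TensorProduct.productMap_apply_tmul]).symm.trans h
  refine isUnit_of_mul_isUnit_left (y := z) ?_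
  have h := (hker (m * z - 1) (by rw [map_sub, map_mul, map_one, hjv, hz, hvv, sub_self])).isUnit_add_one
  rwa [sub_add_cancel] at h

/-- A unit transforming like the lift gives a lift over the base. -/
theorem exists_lift_base [Module.FaithfullyFlat A B] [Algebra.FinitePresentation A B] {m : B} (hm : InM eB m)
    (hu : IsUnit m) : Nonempty (Lifts 𝒮 q A) :=
  exists_lift_of_isUnit (B' := A ⊗[A] B) Algebra.TensorProduct.includeLeft (isCover_baseChange A)
    Algebra.TensorProduct.includeRight hm (hu.map _)

section Invertible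

variable [Module.FaithfullyFlat A B]

/-- The module of elements transforming like the lift. -/
noncomputable abbrev Mod : Submodule A B := LinearMap.ker (twist (cu eB))

/-- The module of elements transforming inversely. -/
noncomputable abbrev Mod' : Submodule A B := LinearMap.ker (twist (cv eB))

theorem exists_pair (m' : Mod' eB) (m : Mod eB) : ∃ g : A, algebraMap A B g = m.1 * m'.1 :=
  exists_prod eB ((mem_ker_twist _ _).1 m.2) ((mem_ker_twist _ _).1 m'.2)

/-- The pairing. -/
noncomputable def pairing : Mod' eB →ₗ[A] Mod eB →ₗ[A] A :=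
  LinearMap.mk₂ A (fun m' m => (exists_pair eB m' m).choose)
    (fun a b m => FaithfulSMul.algebraMap_injective A B (by
      rw [map_add, (exists_pair eB _ _).choose_spec, (exists_pair eB _ _).choose_spec,
        (exists_pair eB _ _).choose_spec]
      simp [mul_add]))
    (fun r a m => FaithfulSMul.algebraMap_injective A B (by
      rw [smul_eq_mul, map_mul, (exists_pair eB _ _).choose_spec, (exists_pair eB _ _).choose_spec]
      simp [Algebra.smul_def, mul_left_comm]))
    (fun a m n => FaithfulSMul.algebraMap_injective A B (by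
      rw [map_add, (exists_pair eB _ _).choose_spec, (exists_pair eB _ _).choose_spec,
        (exists_pair eB _ _).choose_spec]
      simp [add_mul]))
    (fun r a m => FaithfulSMul.algebraMap_injective A B (by
      rw [smul_eq_mul, map_mul, (exists_pair eB _ _).choose_spec, (exists_pair eB _ _).choose_spec]
      simp [Algebra.smul_def, mul_assoc]))

theorem algebraMap_pairing (m' : Mod' eB) (m : Mod eB) : algebraMap A B (pairing eB m' m) = m.1 * m'.1 :=
  (exists_pair eB m' m).choose_spec

theorem pairing_smul_left (m' n' : Mod' eB) (m : Mod eB) : pairing eB m' m • n' = pairing eB n' m • m' :=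
  Subtype.ext (by
    simp only [SetLike.val_smul, Algebra.smul_def, algebraMap_pairing]
    ring)

theorem pairing_smul_right (m' : Mod' eB) (m n : Mod eB) : pairing eB m' m • n = pairing eB m' n • m :=
  Subtype.ext (by
    simp only [SetLike.val_smul, Algebra.smul_def, algebraMap_pairing]
    ring)

theorem invertible_Mod : Module.Invertible A (Mod eB) := by
  let φ := TensorProduct.lift (pairing eB)
  have hsurj : Function.Surjective φ := by
    rw [← LinearMap.range_eq_top, eq_top_iff, ← span_prods eB, Ideal.span]
    rw [Submodule.span_le]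
    rintro g ⟨m, m', hm, hm', hg⟩
    refine ⟨(⟨m', (mem_ker_twist _ _).2 hm'⟩ : Mod' eB) ⊗ₜ[A] (⟨m, (mem_ker_twist _ _).2 hm⟩ : Mod eB), ?_⟩
    exact FaithfulSMul.algebraMap_injective A B ((algebraMap_pairing eB _ _).trans hg.symm)
  obtain ⟨z₀, hz₀⟩ := hsurj 1
  have key : ∀ t w, φ t • w = φ w • t := fun t w => by
    induction t using TensorProduct.induction_on with
    | zero => simp
    | add t t' h h' => rw [map_add, add_smul, h, h', smul_add]
    | tmul m' m =>
      induction w using TensorProduct.induction_on with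
      | zero => simp
      | add w w' h h' => rw [smul_add, h, h', map_add, add_smul]
      | tmul n' n =>
        change pairing eB m' m • (n' ⊗ₜ[A] n) = pairing eB n' n • (m' ⊗ₜ[A] m)
        rw [smul_tmul', pairing_smul_left, ← smul_tmul', ← tmul_smul, pairing_smul_right eB n' m n, tmul_smul]
  have hinj : Function.Injective φ := by
    rw [injective_iff_map_eq_zero]
    intro t ht
    have := key t z₀
    rw [ht, zero_smul, hz₀, one_smul] at this
    exact this.symm
  exact Module.Invertible.right (LinearEquiv.ofBijective φ ⟨hinj, hsurj⟩)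

include eB in
/-- If the module becomes free after localisation, a lift exists near the localisation. -/
theorem exists_lift_away [Algebra.FinitePresentation A B] (Sm : Submonoid A) (L : Type u) [CommRing L] [Algebra A L]
    [IsLocalization Sm L]
    (hfree : ∀ (N : Type u) [AddCommGroup N] [Module A N] [Module.Invertible A N], Module.Free L (L ⊗[A] N)) :
    ∃ s ∈ Sm, Nonempty (Lifts 𝒮 q (Localization.Away s)) := by
  haveI := invertible_Mod eB
  haveI := hfree (Mod eB)
  obtain ⟨el⟩ := Module.Invertible.free_iff_linearEquiv.1 (hfree (Mod eB))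
  let f : Mod eB →ₗ[A] L ⊗[A] Mod eB := TensorProduct.mk A L (Mod eB) 1
  haveI : IsLocalizedModule Sm f :=
    (isLocalizedModule_iff_isBaseChange Sm L f).2 (TensorProduct.isBaseChange A (Mod eB) L)
  obtain ⟨⟨m₀, s₀⟩, hm₀⟩ := IsLocalizedModule.surj Sm f (el.symm 1)
  have hrel : ∀ n : Mod eB, ∃ s ∈ Sm, ∃ a : A, s • n = a • m₀ := fun n => by
    obtain ⟨⟨a, t⟩, hat⟩ := IsLocalization.surj Sm (el (f n))
    have hlin : ∀ (r : A) (x : L ⊗[A] Mod eB), el (r • x) = r • el x := fun r x =>
      el.toLinearMap.map_smul_of_tower r x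
    have hm : el (f m₀) = algebraMap A L s₀ := by
      rw [← hm₀, Submonoid.smul_def, hlin, LinearEquiv.apply_symm_apply, Algebra.smul_def, mul_one]
    have h : ((t : A) * (s₀ : A)) • f n = a • f m₀ := by
      refine el.injective ?_
      rw [hlin, hlin, hm, Algebra.smul_def, Algebra.smul_def, map_mul, ← hat]
      ring
    obtain ⟨c, hc⟩ := (IsLocalizedModule.eq_iff_exists Sm f).1
      (show f (((t : A) * (s₀ : A)) • n) = f (a • m₀) by rw [map_smul, map_smul, h])
    refine ⟨(c : A) * ((t : A) * (s₀ : A)), Sm.mul_mem c.2 (Sm.mul_mem t.2 s₀.2), (c : A) * a, ?_⟩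
    simpa [mul_smul, Submonoid.smul_def] using hc
  choose sn hsn an han using hrel
  have hone : (1 : A) ∈ Ideal.span (prods eB) := by rw [span_prods eB]; trivial
  obtain ⟨c, hc, hsum⟩ := (Submodule.mem_span_set (R := A) (M := A)).1 hone
  have hex : ∀ g ∈ c.support, ∃ s ∈ Sm, ∃ β : B, algebraMap A B (s * g) = m₀.1 * β := fun g hg => by
    obtain ⟨m, m', hm, -, hmm⟩ := hc hg
    let n : Mod eB := ⟨m, (mem_ker_twist _ _).2 hm⟩
    refine ⟨sn n, hsn n, algebraMap A B (an n) * m', ?_⟩
    have h := congrArg Subtype.val (han n)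
    simp only [SetLike.val_smul, Algebra.smul_def] at h
    rw [map_mul, hmm, ← mul_assoc, show algebraMap A B (sn n) * m = _ from h]
    ring
  choose! sf hsf βf hβ using hex
  classical
  refine ⟨∏ g ∈ c.support, sf g, Sm.prod_mem fun g hg => hsf g hg, ?_⟩
  refine exists_lift_of_isUnit (B' := Localization.Away (∏ g ∈ c.support, sf g) ⊗[A] B)
    Algebra.TensorProduct.includeLeft (isCover_baseChange _)
    Algebra.TensorProduct.includeRight ((mem_ker_twist _ _).1 m₀.2) ?_
  have hdiv : algebraMap A B (∏ g ∈ c.support, sf g) =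
      m₀.1 * ∑ g ∈ c.support, algebraMap A B (c g * ∏ h ∈ c.support.erase g, sf h) * βf g := by
    conv_lhs => rw [← mul_one (∏ g ∈ c.support, sf g), ← hsum, Finsupp.sum, Finset.mul_sum, map_sum]
    rw [Finset.mul_sum]
    refine Finset.sum_congr rfl fun g hg => ?_
    rw [mul_left_comm m₀.1, ← hβ g hg, ← map_mul, smul_eq_mul, ← Finset.mul_prod_erase _ _ hg]
    congr 1
    ring
  refine isUnit_of_mul_isUnit_left (y := Algebra.TensorProduct.includeRight
    (∑ g ∈ c.support, algebraMap A B (c g * ∏ h ∈ c.support.erase g, sf h) * βf g)) ?_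
  rw [← map_mul, ← hdiv, AlgHom.commutes]
  simpa using (IsLocalization.Away.algebraMap_isUnit (∏ g ∈ c.support, sf g)).map
    (Algebra.TensorProduct.includeLeft :
      Localization.Away (∏ g ∈ c.support, sf g) →ₐ[A] Localization.Away (∏ g ∈ c.support, sf g) ⊗[A] B)

end Invertible

end Groth.Agent.H23Ga.GmLift
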